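import Cfsg.Agent.Co2Type.Quad
import Cfsg.Agent.ClassificationK.LargeSymplectic
import Cfsg.Agent.Transfer.Extraspecial
import Cfsg.Agent.S1313
import Cfsg.Agent.S1755
set_option linter.all false

/-!
# Large extraspecial 2-subgroups: the common base of S1759, S1761, S1762, S1763 (helper73)

* `large_of_genFitting`: the hypotheses of these statements give `Large Q z` for `Q = F*(C_G(z))` (as a
  subgroup of `G`).
* `Pair Q z A a`: `a = z^g ∈ Q`, `a ≠ z`, `A = Q^g`, and then `z ∈ A` (symmetric situation), with the facts of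
  case II: `D = Q ∩ A` is elementary abelian, `X = C_A(z)`, `R = C_Q(a)`, `[R, X] ≤ D`, `X` induces on `D` all
  transvections with centre `a` fixing `z`.
-/

set_option autoImplicit false

namespace Cfsg.Agent.LargeExtra.Base

open Cfsg.Agent.Co2Type.Quad

variable {G : Type*} [Group G]

/-- `Large` in the form of `LargeSymplectic.Data`. -/
theorem data_of_large {Q : Subgroup G} {z : G} (h : Large Q z) :
    Cfsg.Agent.ClassificationK.LargeSymplectic.Data Q z where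
  sqz := h.z_sq
  norm := fun c hc x hx => h.conj_mem c hc x hx
  cent := fun c hc => by
    have hz : c * z = z * c := by
      have := hc z h.z_mem
      rw [mul_inv_eq_iff_eq_mul] at this
      exact this.symm
    refine h.self c hz fun x hx => ?_
    have := hc x hx
    rw [mul_inv_eq_iff_eq_mul] at this
    exact this.symm
  mem := h.z_mem
  com := h.comm_z
  comm := fun x hx y hy => by
    rcases h.comm x hx y hy with h1 | h1
    · left; rw [h1]; group
    · right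
      rw [h1, mul_assoc (y * x), ← (h.commz hx).inv_left.eq, ← (h.commz hy).eq]
      group
  sq := h.sq
  cen := fun x hx hc _ => h.cent x hx fun y hy => by
    have := hc y hy
    rw [mul_inv_eq_iff_eq_mul] at this
    exact this.symm

/-- The bridge: `Q = F*(C_G(z))` extraspecial. -/
theorem large_of_genFitting [Finite G] (z : G) (hz : orderOf z = 2)
    (hE : Cfsg.IsExtraspecial 2 ↥(Cfsg.generalizedFittingSubgroup ↥(Subgroup.centralizer ({z} : Set G)))) :
    Large ((Cfsg.generalizedFittingSubgroup ↥(Subgroup.centralizer ({z} : Set G))).map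
      (Subgroup.centralizer ({z} : Set G)).subtype) z := by
  classical
  set C := Subgroup.centralizer ({z} : Set G) with hC
  have hn := Cfsg.Agent.S1755.gfs_normal C
  have hcen := Cfsg.Agent.S1755.center_le_gfs C
  have hcc := Cfsg.Agent.S1313.centralizer_le C
  revert hE hn hcen hcc
  generalize Cfsg.generalizedFittingSubgroup C = Q
  intro hE hn hcen hcc
  have htt : z * z = 1 := by rw [← pow_two, ← hz]; exact pow_orderOf_eq_one z
  have ht1 : z ≠ 1 := by
    intro h; rw [h, orderOf_one] at hz; exact absurd hz (by norm_num)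
  have htC : z ∈ C := Subgroup.mem_centralizer_singleton_iff.2 rfl
  have hcomm : ∀ c : C, (c : G) * z = z * c := fun c => Subgroup.mem_centralizer_singleton_iff.1 c.2
  have htc : (⟨z, htC⟩ : C) ∈ Subgroup.center C := by
    rw [Subgroup.mem_center_iff]
    intro c
    apply Subtype.ext
    exact hcomm c
  have htQ : (⟨z, htC⟩ : C) ∈ Q := hcen htc
  have hZ : ∀ x : Q, x ∈ Subgroup.center Q → (x : C) = 1 ∨ (x : C) = ⟨z, htC⟩ := by
    intro x hx
    have hcard2 := hE.2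
    have htz : (⟨⟨z, htC⟩, htQ⟩ : Q) ∈ Subgroup.center Q := by
      rw [Subgroup.mem_center_iff]
      intro y
      exact Subtype.ext (Subtype.ext (hcomm (y : C)))
    obtain ⟨a, b, hab, huniv⟩ := Nat.card_eq_two_iff.1 hcard2
    have h1 : (⟨⟨⟨z, htC⟩, htQ⟩, htz⟩ : Subgroup.center Q) ≠ 1 := by
      intro h
      apply ht1
      exact congrArg (fun y : Subgroup.center Q => (((y : Q) : C) : G)) h
    have key : ∀ y : Subgroup.center Q, y = 1 ∨ y = ⟨⟨⟨z, htC⟩, htQ⟩, htz⟩ := by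
      intro y
      have ha : ∀ w : Subgroup.center Q, w = a ∨ w = b := by
        intro w
        have : w ∈ ({a, b} : Set (Subgroup.center Q)) := by rw [huniv]; trivial
        simpa using this
      rcases ha y with hy | hy <;> rcases ha 1 with h2 | h2 <;>
        rcases ha ⟨⟨⟨z, htC⟩, htQ⟩, htz⟩ with h3 | h3
      · exact absurd (h3.trans h2.symm) h1
      · left; exact hy.trans h2.symm
      · right; exact hy.trans h3.symm
      · exact absurd (h3.trans h2.symm) h1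
      · exact absurd (h3.trans h2.symm) h1
      · right; exact hy.trans h3.symm
      · left; exact hy.trans h2.symm
      · exact absurd (h3.trans h2.symm) h1
    rcases key ⟨x, hx⟩ with h | h
    · left; exact congrArg (fun y : Subgroup.center Q => ((y : Q) : C)) h
    · right; exact congrArg (fun y : Subgroup.center Q => ((y : Q) : C)) h
  refine ⟨⟨⟨z, htC⟩, htQ, rfl⟩, ht1, htt, ?_, ?_, ?_, ?_, ?_, ?_⟩
  · rintro _ ⟨x, _, rfl⟩
    exact hcomm x
  · rintro g hg _ ⟨x, hx, rfl⟩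
    have hgC : g ∈ C := Subgroup.mem_centralizer_singleton_iff.2 hg
    exact ⟨⟨g, hgC⟩ * x * ⟨g, hgC⟩⁻¹, hn.conj_mem x hx _, rfl⟩
  · rintro _ ⟨x, hx, rfl⟩
    have h1 : (⟨x, hx⟩ : Q) ^ 2 ∈ Subgroup.center Q :=
      Cfsg.Agent.Transfer.Extraspecial.pow_mem_center hE ⟨x, hx⟩
    rcases hZ _ h1 with h | h
    · left
      have := congrArg (fun y : C => (y : G)) h
      rw [← pow_two]
      exact this
    · right
      have := congrArg (fun y : C => (y : G)) h
      rw [← pow_two]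
      exact this
  · rintro _ ⟨x, hx, rfl⟩ _ ⟨y, hy, rfl⟩
    have h1 := Cfsg.Agent.Transfer.Extraspecial.comm_mem_center hE (⟨y, hy⟩ : Q)⁻¹ (⟨x, hx⟩ : Q)⁻¹
    rcases hZ _ h1 with h | h
    · left
      have h2 := congrArg (fun y : C => (y : G)) h
      have h3 : (y : G)⁻¹ * (x : G)⁻¹ * ((y : G)⁻¹)⁻¹ * ((x : G)⁻¹)⁻¹ = 1 := h2
      have h4 : (x : G) * y = (x * y : G) * ((y : G)⁻¹ * (x : G)⁻¹ * ((y : G)⁻¹)⁻¹ * ((x : G)⁻¹)⁻¹) := by
        rw [h3, mul_one]
      calc (x : G) * y = (x * y : G) * ((y : G)⁻¹ * (x : G)⁻¹ * ((y : G)⁻¹)⁻¹ * ((x : G)⁻¹)⁻¹) := h4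
        _ = y * x := by group
    · right
      have h2 := congrArg (fun y : C => (y : G)) h
      have h3 : (y : G)⁻¹ * (x : G)⁻¹ * ((y : G)⁻¹)⁻¹ * ((x : G)⁻¹)⁻¹ = z := h2
      calc (x : G) * y
          = (x * y : G) * ((y : G)⁻¹ * (x : G)⁻¹ * ((y : G)⁻¹)⁻¹ * ((x : G)⁻¹)⁻¹) *
            ((y : G)⁻¹ * (x : G)⁻¹ * ((y : G)⁻¹)⁻¹ * ((x : G)⁻¹)⁻¹)⁻¹ := by group
        _ = y * x * z⁻¹ := by rw [h3]; rw [← h3]; group
        _ = y * x * z := by rw [inv_eq_of_mul_eq_one_left htt]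
  · rintro _ ⟨x, hx, rfl⟩ hc
    have h1 : (⟨x, hx⟩ : Q) ∈ Subgroup.center Q := by
      rw [Subgroup.mem_center_iff]
      intro y
      apply Subtype.ext
      apply Subtype.ext
      exact (hc _ ⟨(y : C), y.2, rfl⟩).symm
    rcases hZ _ h1 with h | h
    · left; exact congrArg (fun y : C => (y : G)) h
    · right; exact congrArg (fun y : C => (y : G)) h
  · intro g hg hc
    have hgC : g ∈ C := Subgroup.mem_centralizer_singleton_iff.2 hg
    refine ⟨⟨g, hgC⟩, hcc ?_, rfl⟩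
    refine Subgroup.mem_centralizer_iff.2 ?_
    intro y hy
    apply Subtype.ext
    exact (hc _ ⟨y, hy, rfl⟩).symm

/-! ### basic facts for `Large` -/

section basic

variable {Q : Subgroup G} {z : G}

theorem orderOf_z (h : Large Q z) : orderOf z = 2 :=
  orderOf_eq_prime (by rw [pow_two]; exact h.z_sq) h.z_ne

/-- If `g` and `g'` conjugate `z` to the same element, `Q^g = Q^g'`. -/
theorem map_eq_of_conj (h : Large Q z) {g g' : G} (hg : g * z * g⁻¹ = g' * z * g'⁻¹) :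
    Q.map (MulAut.conj g).toMonoidHom = Q.map (MulAut.conj g').toMonoidHom := by
  have key : ∀ g g' : G, g * z * g⁻¹ = g' * z * g'⁻¹ →
      Q.map (MulAut.conj g).toMonoidHom ≤ Q.map (MulAut.conj g').toMonoidHom := by
    rintro g g' hg _ ⟨x, hx, rfl⟩
    have h1 : (g'⁻¹ * g) * z = z * (g'⁻¹ * g) := by
      have : g'⁻¹ * g * z * g⁻¹ * g' = z := by
        calc g'⁻¹ * g * z * g⁻¹ * g' = g'⁻¹ * (g * z * g⁻¹) * g' := by group
          _ = z := by rw [hg]; group
      calc g'⁻¹ * g * z = (g'⁻¹ * g * z * g⁻¹ * g') * (g'⁻¹ * g) := by group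
        _ = _ := by rw [this]
    refine ⟨_, h.conj_mem _ h1 x hx, ?_⟩
    show g' * (g'⁻¹ * g * x * (g'⁻¹ * g)⁻¹) * g'⁻¹ = g * x * g⁻¹
    group
  exact le_antisymm (key g g' hg) (key g' g hg.symm)

/-- Conjugation of `Q` by an element of `C_G(z)`. -/
theorem map_eq_self (h : Large Q z) {g : G} (hg : g * z = z * g) :
    Q.map (MulAut.conj g).toMonoidHom = Q := by
  have h1 : g * z * g⁻¹ = 1 * z * (1 : G)⁻¹ := by rw [hg]; group
  rw [map_eq_of_conj h h1]
  ext x
  constructor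
  · rintro ⟨y, hy, rfl⟩
    have : (MulAut.conj (1 : G)).toMonoidHom y = y := by
      show 1 * y * (1 : G)⁻¹ = y
      group
    rw [this]; exact hy
  · intro hx
    exact ⟨x, hx, by show 1 * x * (1 : G)⁻¹ = x; group⟩

theorem exists_not_comm (h : Large Q z) {x : G} (hx : x ∈ Q) (h1 : x ≠ 1) (hz : x ≠ z) :
    ∃ y ∈ Q, y * x = x * y * z := by
  by_contra hcon
  push Not at hcon
  rcases h.cent x hx (fun y hy => by
    rcases h.comm y hy x hx with h2 | h2
    · exact h2.symm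
    · exact absurd h2 (hcon y hy)) with h2 | h2
  · exact h1 h2
  · exact hz h2

theorem isPGroup (h : Large Q z) : IsPGroup 2 Q := by
  intro x
  refine ⟨2, ?_⟩
  apply Subtype.ext
  show ((x : G)) ^ (2 ^ 2) = 1
  have : (x : G) ^ (2 ^ 2) = (x * x) * (x * x) := by
    rw [show (2 ^ 2 : ℕ) = 2 * 2 from rfl, pow_mul, pow_two, pow_two]
  rw [this]
  rcases h.sq x x.2 with h1 | h1 <;> rw [h1]
  · rw [one_mul]
  · exact h.z_sq

end basic

/-! ### pairs -/

/-- Case II: `a = z^g ∈ Q`, `a ≠ z`, `A = Q^g`; then `z ∈ A`. -/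
structure Pair (Q : Subgroup G) (z : G) (A : Subgroup G) (a : G) : Prop where
  lz : Large Q z
  la : Large A a
  a_mem : a ∈ Q
  z_mem : z ∈ A
  ne : a ≠ z
  isConj : ∃ g, g * z * g⁻¹ = a ∧ g * a * g⁻¹ = z ∧ A = Q.map (MulAut.conj g).toMonoidHom ∧
    Q = A.map (MulAut.conj g).toMonoidHom
  cycle : ∃ g, g * z * g⁻¹ = a ∧ g * a * g⁻¹ = a * z ∧ g * (a * z) * g⁻¹ = z

theorem Pair.symm {Q A : Subgroup G} {z a : G} (p : Pair Q z A a) : Pair A a Q z where
  lz := p.la
  la := p.lz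
  a_mem := p.z_mem
  z_mem := p.a_mem
  ne := p.ne.symm
  isConj := by
    obtain ⟨g, h1, h2, h3, h4⟩ := p.isConj
    exact ⟨g, h2, h1, h4, h3⟩
  cycle := by
    obtain ⟨g, h1, h2, h3⟩ := p.cycle
    obtain ⟨k, k1, k2, -, -⟩ := p.isConj
    have hza : z * a = a * z := (p.lz.commz p.a_mem).eq.symm
    refine ⟨k * g * k⁻¹, ?_, ?_, ?_⟩
    · calc k * g * k⁻¹ * a * (k * g * k⁻¹)⁻¹ = k * (g * (k⁻¹ * a * k) * g⁻¹) * k⁻¹ := by group
        _ = k * (g * z * g⁻¹) * k⁻¹ := by rw [← k1]; group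
        _ = z := by rw [h1, k2]
    · calc k * g * k⁻¹ * z * (k * g * k⁻¹)⁻¹ = k * (g * (k⁻¹ * z * k) * g⁻¹) * k⁻¹ := by group
        _ = k * (g * a * g⁻¹) * k⁻¹ := by
            have : k⁻¹ * z * k = a := by rw [← k2]; group
            rw [this]
        _ = (k * a * k⁻¹) * (k * z * k⁻¹) := by rw [h2]; group
        _ = z * a := by rw [k1, k2]
    · calc k * g * k⁻¹ * (z * a) * (k * g * k⁻¹)⁻¹
          = k * (g * ((k⁻¹ * z * k) * (k⁻¹ * a * k)) * g⁻¹) * k⁻¹ := by group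
        _ = k * (g * (a * z) * g⁻¹) * k⁻¹ := by
            have e1 : k⁻¹ * z * k = a := by rw [← k2]; group
            have e2 : k⁻¹ * a * k = z := by rw [← k1]; group
            rw [e1, e2]
        _ = a := by rw [h3, k1]

/-- (L1) A conjugate `a = z^g ∈ Q`, `a ≠ z`, gives a pair. -/
theorem pair_of_conj {Q : Subgroup G} {z : G} (h : Large Q z) {g : G} (hin : g * z * g⁻¹ ∈ Q)
    (hne : g * z * g⁻¹ ≠ z) : Pair Q z (Q.map (MulAut.conj g).toMonoidHom) (g * z * g⁻¹) := by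
  obtain ⟨h1, h2⟩ := Cfsg.Agent.ClassificationK.LargeSymplectic.main (data_of_large h) hne hin
  set a := g * z * g⁻¹ with ha
  have hla : Large (Q.map (MulAut.conj g).toMonoidHom) a := h.conj g
  have ha1 : a ≠ 1 := hla.z_ne
  have hm1 : z ∈ Subgroup.closure ({z, a} : Set G) := Subgroup.subset_closure (by simp)
  have hm2 : a ∈ Subgroup.closure ({z, a} : Set G) := Subgroup.subset_closure (by simp)
  have haz : a * z ≠ 1 := by
    intro h'
    apply hne
    rw [eq_inv_of_mul_eq_one_left h', h.z_inv]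
  have haz' : a ≠ a * z := by
    intro h'
    exact h.z_ne (mul_eq_left.1 h'.symm)
  refine ⟨h, hla, hin, h1, hne, ?_, ?_⟩
  · obtain ⟨x, -, hx1, hx2⟩ := h2 a hm2 z hm1 ha1 h.z_ne hne
    refine ⟨x, hx1, hx2, map_eq_of_conj h (ha ▸ hx1.symm), ?_⟩
    -- `Q = A^x`
    have h3 : (Q.map (MulAut.conj g).toMonoidHom).map (MulAut.conj x).toMonoidHom =
        Q.map (MulAut.conj (x * g)).toMonoidHom := by
      rw [Subgroup.map_map]
      congr 1
      ext y
      show x * (g * y * g⁻¹) * x⁻¹ = x * g * y * (x * g)⁻¹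
      group
    rw [h3, map_eq_self h]
    have h4 : x * g * z * (x * g)⁻¹ = z := by
      calc x * g * z * (x * g)⁻¹ = x * (g * z * g⁻¹) * x⁻¹ := by group
        _ = z := by rw [← ha, hx2]
    calc x * g * z = (x * g * z * (x * g)⁻¹) * (x * g) := by group
      _ = _ := by rw [h4]
  · obtain ⟨x, -, hx1, hx2⟩ := h2 a hm2 (a * z) (mul_mem hm2 hm1) ha1 haz haz'
    refine ⟨x, hx1, hx2, ?_⟩
    calc x * (a * z) * x⁻¹ = (x * a * x⁻¹) * (x * z * x⁻¹) := by group
      _ = (a * z) * a := by rw [hx1, hx2]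
      _ = (z * a) * a := by rw [(h.commz hin).eq]
      _ = z := by rw [mul_assoc, hla.z_sq, mul_one]

namespace Pair

variable {Q A : Subgroup G} {z a : G}

theorem comm_za (p : Pair Q z A a) : a * z = z * a := p.lz.comm_z a p.a_mem

/-- (L2) `D = Q ∩ A` has exponent two. -/
theorem sq_D (p : Pair Q z A a) {d : G} (h1 : d ∈ Q) (h2 : d ∈ A) : d * d = 1 := by
  rcases p.lz.sq d h1 with h | h
  · exact h
  · rcases p.la.sq d h2 with h' | h'
    · exact h'
    · exact absurd (h'.symm.trans h) p.ne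

/-- (L2) `D = Q ∩ A` is abelian. -/
theorem comm_D (p : Pair Q z A a) {d e : G} (h1 : d ∈ Q) (h2 : d ∈ A) (h3 : e ∈ Q) (h4 : e ∈ A) :
    d * e = e * d := by
  rcases p.lz.comm d h1 e h3 with h | h
  · exact h
  · rcases p.la.comm d h2 e h4 with h' | h'
    · exact h'
    · exfalso
      apply p.ne
      rw [h] at h'
      exact (mul_left_cancel h').symm

/-- (L2) `[R, X] ≤ D` for `R = C_Q(a)`, `X = C_A(z)`. -/
theorem comm_mem (p : Pair Q z A a) {r x : G} (hr : r ∈ Q) (hra : r * a = a * r) (hx : x ∈ A)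
    (hxz : x * z = z * x) : r * x * r⁻¹ * x⁻¹ ∈ Q ⊓ A := by
  rw [Subgroup.mem_inf]
  constructor
  · have h1 : x * r⁻¹ * x⁻¹ ∈ Q := p.lz.conj_mem x hxz _ (inv_mem hr)
    have := mul_mem hr h1
    have e : r * (x * r⁻¹ * x⁻¹) = r * x * r⁻¹ * x⁻¹ := by group
    rwa [e] at this
  · have h1 : r * x * r⁻¹ ∈ A := p.la.conj_mem r hra _ hx
    exact mul_mem h1 (inv_mem hx)

/-- (L2) `[D, x] ≤ ⟨a⟩` for `x ∈ A`. -/
theorem conj_D (p : Pair Q z A a) {d x : G} (hdA : d ∈ A) (hx : x ∈ A) :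
    x * d * x⁻¹ = d ∨ x * d * x⁻¹ = d * a := by
  rcases p.la.comm x hx d hdA with h | h
  · left; rw [h]; group
  · right
    rw [h, mul_assoc _ a, ← (p.la.commz hx).inv_left.eq]
    group

/-- (L2) `X = C_A(z)` induces on `D` all transvections with centre `a` fixing `z`: for a linear functional `φ` of
`Q / ⟨z⟩` killing `a` there is `x ∈ X` with `x d x⁻¹ = d a^(φ d)` for all `d ∈ D`. -/
theorem exists_transvection [Finite G] (p : Pair Q z A a) (φ : p.lz.V →ₗ[ZMod 2] ZMod 2)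
    (hφ : φ (p.lz.pr ⟨a, p.a_mem⟩) = 0) :
    ∃ x ∈ A, x * z = z * x ∧ ∀ d (hQ : d ∈ Q), d ∈ A →
      (φ (p.lz.pr ⟨d, hQ⟩) = 0 → x * d * x⁻¹ = d) ∧ (φ (p.lz.pr ⟨d, hQ⟩) = 1 → x * d * x⁻¹ = d * a) := by
  classical
  -- the subspace `D / ⟨a⟩` of `A / ⟨a⟩`
  let W : Submodule (ZMod 2) p.la.V :=
    { carrier := {v | ∃ (d : G) (_ : d ∈ Q) (h : d ∈ A), p.la.pr ⟨d, h⟩ = v}
      zero_mem' := ⟨1, one_mem _, one_mem _, p.la.pr_one⟩
      add_mem' := by
        rintro _ _ ⟨d, h1, h2, rfl⟩ ⟨e, h3, h4, rfl⟩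
        exact ⟨d * e, mul_mem h1 h3, mul_mem h2 h4, p.la.pr_mul ⟨d, h2⟩ ⟨e, h4⟩⟩
      smul_mem' := by
        rintro c _ ⟨d, h1, h2, rfl⟩
        have hc : c = 0 ∨ c = 1 := by revert c; decide
        rcases hc with rfl | rfl
        · exact ⟨1, one_mem _, one_mem _, by rw [zero_smul]; exact p.la.pr_one⟩
        · exact ⟨d, h1, h2, by rw [one_smul]⟩ }
  have hW : ∀ v : W, ∃ (d : G) (_ : d ∈ Q) (h : d ∈ A), p.la.pr ⟨d, h⟩ = v := fun v => v.2
  choose dd hdQ hdA hdd using hW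
  -- independence of the representative
  have hind : ∀ (v : W) (d : G) (h1 : d ∈ Q) (h2 : d ∈ A), p.la.pr ⟨d, h2⟩ = v →
      φ (p.lz.pr ⟨dd v, hdQ v⟩) = φ (p.lz.pr ⟨d, h1⟩) := by
    intro v d h1 h2 hv
    have h3 : p.la.pr ⟨dd v, hdA v⟩ = p.la.pr ⟨d, h2⟩ := (hdd v).trans hv.symm
    rcases p.la.pr_eq_pr.1 h3 with h4 | h4
    · have : (⟨dd v, hdQ v⟩ : Q) = ⟨d, h1⟩ := Subtype.ext h4
      rw [this]
    · have : (⟨dd v, hdQ v⟩ : Q) = ⟨d, h1⟩ * ⟨a, p.a_mem⟩ := Subtype.ext h4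
      rw [this, p.lz.pr_mul, map_add, hφ, add_zero]
  let f : W →ₗ[ZMod 2] ZMod 2 := AddMonoidHom.toZModLinearMap 2
    { toFun := fun v => φ (p.lz.pr ⟨dd v, hdQ v⟩)
      map_zero' := by
        have h1 := hind 0 1 (one_mem _) (one_mem _) p.la.pr_one
        have h2 : p.lz.pr ⟨1, one_mem _⟩ = 0 := p.lz.pr_one
        rw [h1, h2, map_zero]
      map_add' := by
        intro v w
        have h1 := hind (v + w) (dd v * dd w) (mul_mem (hdQ v) (hdQ w)) (mul_mem (hdA v) (hdA w))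
          (by
            have := p.la.pr_mul ⟨dd v, hdA v⟩ ⟨dd w, hdA w⟩
            rw [hdd, hdd] at this
            exact this)
        rw [h1, ← map_add]
        rfl }
  have hf : ∀ (d : G) (h1 : d ∈ Q) (h2 : d ∈ A), f ⟨p.la.pr ⟨d, h2⟩, d, h1, h2, rfl⟩ =
      φ (p.lz.pr ⟨d, h1⟩) := fun d h1 h2 => hind _ d h1 h2 rfl
  obtain ⟨F, hF⟩ := LinearMap.exists_extend f
  have hF' : ∀ w : W, F w = f w := fun w => by rw [← hF]; rfl
  obtain ⟨v, hv⟩ := p.la.exists_b_eq F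
  obtain ⟨x, rfl⟩ := p.la.pr_surjective v
  have key : ∀ (d : G) (h1 : d ∈ Q) (h2 : d ∈ A),
      p.la.b (p.la.pr x) (p.la.pr ⟨d, h2⟩) = φ (p.lz.pr ⟨d, h1⟩) := by
    intro d h1 h2
    rw [hv, ← hf d h1 h2, ← hF']
  refine ⟨x, x.2, ?_, ?_⟩
  · have h1 := key z p.lz.z_mem p.z_mem
    have h2 : p.lz.pr ⟨z, p.lz.z_mem⟩ = 0 := p.lz.pr_eq_zero.2 (Or.inr rfl)
    rw [h2, map_zero] at h1
    exact (p.la.b_pr x ⟨z, p.z_mem⟩).1 h1
  · intro d h1 h2
    refine ⟨fun h3 => ?_, fun h3 => ?_⟩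
    · have h4 := key d h1 h2
      rw [h3] at h4
      have h5 : (x : G) * d = d * x := (p.la.b_pr x ⟨d, h2⟩).1 h4
      rw [h5]; group
    · have h4 := key d h1 h2
      rw [h3] at h4
      have h5 : (x : G) * d = d * x * a := (p.la.b_pr_one x ⟨d, h2⟩).1 h4
      rw [h5, mul_assoc _ a, ← (p.la.commz x.2).inv_left.eq]
      group

end Pair

end Cfsg.Agent.LargeExtra.Base
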