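import Cfsg.Agent.LargeExtra.Transfer
set_option linter.all false

/-!
# The transfer trick for elements of 2-power order (helper805)

As `Transfer.lean`, for `u` with `u ^ (2 ^ k) = 1` such that no conjugate of an even power of `u` lies in
`C ∖ C₀` (for instance `u² = z` and no involution in `C ∖ C₀`). No hypothesis on the index of `C`.
-/

set_option autoImplicit false
set_option linter.style.haveILetI false

namespace Cfsg.Agent.LargeExtra.TransferPow

open Cfsg.Agent.LargeExtra.Transfer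

variable {G : Type*} [Group G] {C C₀ : Subgroup G}

/-- the sign homomorphism of `C` with kernel `C₀` -/
noncomputable def sgn (h2 : C₀.relIndex C = 2) : C →* ℤˣ := by
  classical
  exact
    { toFun := fun c => if (c : G) ∈ C₀ then 1 else -1
      map_one' := by
        rw [if_pos]
        exact C₀.one_mem
      map_mul' := by
        intro a b
        have h3 : (a * b ∈ C₀.subgroupOf C ↔ (a ∈ C₀.subgroupOf C ↔ b ∈ C₀.subgroupOf C)) :=
          Subgroup.mul_mem_iff_of_index_two h2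
        rw [Subgroup.mem_subgroupOf, Subgroup.mem_subgroupOf, Subgroup.mem_subgroupOf] at h3
        by_cases ha : (a : G) ∈ C₀ <;> by_cases hb : (b : G) ∈ C₀
        · rw [if_pos ha, if_pos hb, if_pos (h3.2 ⟨fun _ => hb, fun _ => ha⟩), one_mul]
        · rw [if_pos ha, if_neg hb, if_neg (fun h => hb ((h3.1 h).1 ha)), one_mul]
        · rw [if_neg ha, if_pos hb, if_neg (fun h => ha ((h3.1 h).2 hb)), mul_one]
        · rw [if_neg ha, if_neg hb, if_pos (h3.2 ⟨fun h => absurd h ha, fun h => absurd h hb⟩)]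
          rfl }

theorem sgn_eq_one_iff (h2 : C₀.relIndex C = 2) (c : C) : sgn h2 c = 1 ↔ (c : G) ∈ C₀ := by
  classical
  show (if (c : G) ∈ C₀ then (1 : ℤˣ) else -1) = 1 ↔ _
  by_cases hc : (c : G) ∈ C₀
  · rw [if_pos hc]; exact ⟨fun _ => hc, fun _ => rfl⟩
  · rw [if_neg hc]
    exact ⟨fun h => absurd h (by decide), fun h => absurd h hc⟩

/-- The number of cosets `gC` with `g⁻¹ u g ∈ C ∖ C₀` is even. -/
theorem even_card_odd1 [Finite G] (hG : ∀ H : Subgroup G, H.index ≠ 2)
    (_hle : C₀ ≤ C) (h2 : C₀.relIndex C = 2) (u : G) {k : ℕ} (hu : u ^ (2 ^ k) = 1)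
    (hev : ∀ (m : ℕ) (g : G), 2 ∣ m → g⁻¹ * u ^ m * g ∈ C → g⁻¹ * u ^ m * g ∈ C₀) :
    Even (Nat.card {x : G ⧸ C // Odd1 C C₀ u x}) := by
  classical
  have : Fintype (G ⧸ C) := Fintype.ofFinite _
  have : Fintype (Quotient (MulAction.orbitRel (Subgroup.zpowers u) (G ⧸ C))) := Fintype.ofFinite _
  set f : G →* ℤˣ := MonoidHom.transfer (sgn h2) with hf
  have hf1 : f u = 1 := by
    by_contra hne
    have h3 : f u = -1 := (Int.units_eq_one_or (f u)).resolve_left hne
    apply hG f.ker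
    rw [Subgroup.index_ker]
    have : f.range = ⊤ := by
      rw [eq_top_iff]
      intro x _
      rcases Int.units_eq_one_or x with rfl | rfl
      · exact f.range.one_mem
      · exact ⟨u, h3⟩
    rw [this, Subgroup.card_top, Nat.card_eq_fintype_card]
    rfl
  rw [hf, MonoidHom.transfer_eq_prod_quotient_orbitRel_zpowers_quot] at hf1
  set P : Quotient (MulAction.orbitRel (Subgroup.zpowers u) (G ⧸ C)) → ℤˣ := fun q =>
    sgn h2 ⟨q.out.out⁻¹ * u ^ Function.minimalPeriod (u • ·) q.out * q.out.out,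
      QuotientGroup.out_conj_pow_minimalPeriod_mem C u q.out⟩ with hP
  have hprod : ∏ q, P q = 1 := hf1
  have heven : Even (Finset.univ.filter (fun q => P q = -1)).card := by
    have h3 : ∏ q, P q = ∏ q ∈ Finset.univ.filter (fun q => P q = -1), (-1 : ℤˣ) := by
      rw [Finset.prod_filter]
      apply Finset.prod_congr rfl
      intro q _
      by_cases hq : P q = -1
      · rw [if_pos hq, hq]
      · rw [if_neg hq]
        exact (Int.units_eq_one_or (P q)).resolve_right hq
    rw [h3, Finset.prod_const] at hprod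
    by_contra hodd
    rw [Nat.not_even_iff_odd] at hodd
    rw [hodd.neg_one_pow] at hprod
    exact absurd hprod (by decide)
  have hP_iff : ∀ q, P q = -1 ↔ q.out.out⁻¹ * u ^ Function.minimalPeriod (u • ·) q.out * q.out.out ∉ C₀ := by
    intro q
    rw [← sgn_eq_one_iff h2 ⟨_, QuotientGroup.out_conj_pow_minimalPeriod_mem C u q.out⟩]
    constructor
    · intro h3 h4
      have h5 : P q = 1 := h4
      rw [h5] at h3
      exact absurd h3 (by decide)
    · intro h3
      exact (Int.units_eq_one_or (P q)).resolve_left h3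
  -- orbits with sign `-1` are fixed points
  have hper : ∀ q, P q = -1 → Function.minimalPeriod (u • ·) q.out = 1 := by
    intro q hq
    rw [hP_iff] at hq
    have hdvd : Function.minimalPeriod (u • ·) q.out ∣ 2 ^ k := by
      apply Function.IsPeriodicPt.minimalPeriod_dvd
      show (u • ·)^[2 ^ k] q.out = q.out
      rw [smul_iterate, hu]
      exact one_smul _ _
    obtain ⟨j, -, hj⟩ := (Nat.dvd_prime_pow Nat.prime_two).1 hdvd
    rcases Nat.eq_zero_or_pos j with h0 | h0
    · rw [hj, h0, pow_zero]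
    · exfalso
      apply hq
      apply hev
      · rw [hj]; exact dvd_pow_self 2 h0.ne'
      · exact QuotientGroup.out_conj_pow_minimalPeriod_mem C u q.out
  -- bijection
  have hcard : Nat.card {x : G ⧸ C // Odd1 C C₀ u x} = (Finset.univ.filter (fun q => P q = -1)).card := by
    rw [← Fintype.card_subtype, ← Nat.card_eq_fintype_card]
    have hfixed : ∀ x : G ⧸ C, Odd1 C C₀ u x → u • x = x := by
      intro x hx
      have := (smul_eq_iff C u x.out).2 hx.1
      rwa [QuotientGroup.out_eq'] at this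
    have hsing : ∀ x y : G ⧸ C, u • x = x →
        (MulAction.orbitRel (Subgroup.zpowers u) (G ⧸ C)) y x → y = x := by
      rintro x y hx ⟨⟨v, hv⟩, hvy⟩
      obtain ⟨m, rfl⟩ := Subgroup.mem_zpowers_iff.1 hv
      have h3 : u ^ m • x = x := by
        have h4 : u ∈ MulAction.stabilizer G x := hx
        exact (MulAction.stabilizer G x).zpow_mem h4 m
      have h5 : u ^ m • x = y := hvy
      rw [← h5, h3]
    have hout : ∀ x : G ⧸ C, u • x = x →
        (Quotient.mk (MulAction.orbitRel (Subgroup.zpowers u) (G ⧸ C)) x).out = x := by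
      intro x hx
      exact hsing x _ hx (Quotient.mk_out (s := MulAction.orbitRel (Subgroup.zpowers u) (G ⧸ C)) x)
    have hper1 : ∀ x : G ⧸ C, u • x = x → Function.minimalPeriod (u • ·) x = 1 := fun x hx =>
      Function.minimalPeriod_eq_one_iff_isFixedPt.2 hx
    apply Nat.card_congr
    refine
      { toFun := fun x => ⟨Quotient.mk _ x.1, ?_⟩
        invFun := fun q => ⟨q.1.out, ?_⟩
        left_inv := fun x => Subtype.ext (hout x.1 (hfixed x.1 x.2))
        right_inv := fun q => Subtype.ext (Quotient.out_eq q.1) }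
    · rw [hP_iff, hout x.1 (hfixed x.1 x.2), hper1 x.1 (hfixed x.1 x.2), pow_one]
      exact x.2.2
    · have h3 := hper q.1 q.2
      have h4 := (hP_iff q.1).1 q.2
      have h5 := QuotientGroup.out_conj_pow_minimalPeriod_mem C u q.1.out
      rw [h3, pow_one] at h4 h5
      exact ⟨h5, h4⟩
  rw [hcard]
  exact heven

/-- The same for the cosets fixed by a 2-subgroup of `C_G(u)`. -/
theorem even_card_fixed [Finite G] (hG : ∀ H : Subgroup G, H.index ≠ 2)
    (hle : C₀ ≤ C) (h2 : C₀.relIndex C = 2) (u : G) {k : ℕ} (hu : u ^ (2 ^ k) = 1)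
    (hev : ∀ (m : ℕ) (g : G), 2 ∣ m → g⁻¹ * u ^ m * g ∈ C → g⁻¹ * u ^ m * g ∈ C₀) (P : Subgroup G)
    (hP : IsPGroup 2 P) (hPu : ∀ p ∈ P, p * u = u * p) :
    Even (Nat.card {x : G ⧸ C // Odd1 C C₀ u x ∧ ∀ p ∈ P, p • x = x}) := by
  classical
  have : Fact (Nat.Prime 2) := ⟨Nat.prime_two⟩
  have hinv : ∀ p ∈ P, ∀ x : G ⧸ C, Odd1 C C₀ u x → Odd1 C C₀ u (p • x) := by
    intro p hp x hx
    obtain ⟨g, rfl⟩ := QuotientGroup.mk_surjective x
    rw [odd1_iff hle h2] at hx
    show Odd1 C C₀ u ((p * g : G) : G ⧸ C)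
    rw [odd1_iff hle h2]
    have e : (p * g)⁻¹ * u * (p * g) = g⁻¹ * u * g := by
      have : p⁻¹ * u * p = u := by
        rw [mul_assoc, ← hPu p hp, ← mul_assoc, inv_mul_cancel, one_mul]
      calc (p * g)⁻¹ * u * (p * g) = g⁻¹ * (p⁻¹ * u * p) * g := by group
        _ = _ := by rw [this]
    rw [e]; exact hx
  letI : MulAction P {x : G ⧸ C // Odd1 C C₀ u x} :=
    { smul := fun p x => ⟨(p : G) • x.1, hinv p p.2 x.1 x.2⟩
      one_smul := fun x => Subtype.ext (one_smul G x.1)
      mul_smul := fun p q x => Subtype.ext (mul_smul (p : G) (q : G) x.1) }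
  have h3 := hP.card_modEq_card_fixedPoints {x : G ⧸ C // Odd1 C C₀ u x}
  have h4 : Nat.card (MulAction.fixedPoints P {x : G ⧸ C // Odd1 C C₀ u x}) =
      Nat.card {x : G ⧸ C // Odd1 C C₀ u x ∧ ∀ p ∈ P, p • x = x} := by
    apply Nat.card_congr
    refine
      { toFun := fun x => ⟨x.1.1, x.1.2, fun p hp => congrArg Subtype.val (x.2 ⟨p, hp⟩)⟩
        invFun := fun x => ⟨⟨x.1, x.2.1⟩, fun p => Subtype.ext (x.2.2 p p.2)⟩
        left_inv := fun _ => rfl
        right_inv := fun _ => rfl }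
  rw [h4] at h3
  have h5 := even_card_odd1 hG hle h2 u hu hev
  rw [Nat.even_iff] at h5 ⊢
  rw [← h5]
  exact h3.symm

/-- The transfer trick in terms of conjugates of `z`. -/
theorem exists_conj [Finite G] (hG : ∀ H : Subgroup G, H.index ≠ 2) {z : G}
    (hle : C₀ ≤ Subgroup.centralizer ({z} : Set G))
    (h2 : C₀.relIndex (Subgroup.centralizer ({z} : Set G)) = 2) (u : G) {k : ℕ} (hu : u ^ (2 ^ k) = 1)
    (hev : ∀ (m : ℕ) (g : G), 2 ∣ m → (g⁻¹ * u ^ m * g) * z = z * (g⁻¹ * u ^ m * g) →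
      g⁻¹ * u ^ m * g ∈ C₀)
    (huz : u * z = z * u) (huC : u ∉ C₀) (P : Subgroup G)
    (hP : IsPGroup 2 P) (hPu : ∀ p ∈ P, p * u = u * p) (hPz : ∀ p ∈ P, p * z = z * p) :
    ∃ g : G, g * z * g⁻¹ ≠ z ∧ (∀ p ∈ P, p * (g * z * g⁻¹) = (g * z * g⁻¹) * p) ∧
      (g⁻¹ * u * g) * z = z * (g⁻¹ * u * g) ∧ g⁻¹ * u * g ∉ C₀ := by
  classical
  have h3 := even_card_fixed hG hle h2 u hu (fun m g hm hg =>
    hev m g hm (Subgroup.mem_centralizer_singleton_iff.1 hg)) P hP hPu
  set S := {x : G ⧸ Subgroup.centralizer ({z} : Set G) //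
    Odd1 (Subgroup.centralizer ({z} : Set G)) C₀ u x ∧ ∀ p ∈ P, p • x = x} with hS
  -- the trivial coset
  have h1 : Odd1 (Subgroup.centralizer ({z} : Set G)) C₀ u
      ((1 : G) : G ⧸ Subgroup.centralizer ({z} : Set G)) ∧
      ∀ p ∈ P, p • ((1 : G) : G ⧸ Subgroup.centralizer ({z} : Set G)) = (1 : G) := by
    constructor
    · rw [odd1_iff hle h2, inv_one, one_mul, mul_one]
      exact ⟨Subgroup.mem_centralizer_singleton_iff.2 huz, huC⟩
    · intro p hp
      rw [smul_eq_iff, inv_one, one_mul, mul_one]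
      exact Subgroup.mem_centralizer_singleton_iff.2 (hPz p hp)
  have hne : Nat.card S ≠ 1 := by
    intro h; rw [h] at h3; exact absurd h3 (by decide)
  have hpos : 0 < Nat.card S := Nat.card_pos_iff.2 ⟨⟨⟨_, h1⟩⟩, inferInstance⟩
  have hlt : 1 < Nat.card S := by omega
  rw [Finite.one_lt_card_iff_nontrivial] at hlt
  obtain ⟨⟨x, hx1, hx2⟩, hxne⟩ := exists_ne (⟨_, h1⟩ : S)
  obtain ⟨g, rfl⟩ := QuotientGroup.mk_surjective x
  rw [odd1_iff hle h2] at hx1
  refine ⟨g, ?_, ?_, Subgroup.mem_centralizer_singleton_iff.1 hx1.1, hx1.2⟩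
  · intro h4
    apply hxne
    apply Subtype.ext
    show (g : G ⧸ Subgroup.centralizer ({z} : Set G)) = (1 : G)
    rw [eq_comm, QuotientGroup.eq, inv_one, one_mul]
    rw [mul_inv_eq_iff_eq_mul] at h4
    exact Subgroup.mem_centralizer_singleton_iff.2 h4
  · intro p hp
    have h4 := hx2 p hp
    rw [smul_eq_iff] at h4
    have h5 := Subgroup.mem_centralizer_singleton_iff.1 h4
    calc p * (g * z * g⁻¹) = g * ((g⁻¹ * p * g) * z) * g⁻¹ := by group
      _ = g * (z * (g⁻¹ * p * g)) * g⁻¹ := by rw [h5]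
      _ = _ := by group

end Cfsg.Agent.LargeExtra.TransferPow
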