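import Cfsg.Agent.LargeExtra.Base
import Cfsg.Agent.ClassificationK.GF2Basics
set_option linter.all false

/-!
# Large extraspecial 2-subgroups: `z` is 2-central; perpendicular spaces; (helper805)

* `eq_of_perp`, `eq_of_cent`: double perpendicular / double centraliser of one element.
* `eq_one_of_fix_perp`, `eq_or_refl_of_fix_perp`: isometries trivial on a hyperplane `a^⊥`.
* `le_centralizer_of_two`, `odd_index`: `|G : C_G(z)|` is odd.
* `le_of_normal_two`: `Q = F*(C_G(z))` contains all normal 2-subgroups of `C_G(z)`.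
-/

set_option autoImplicit false
set_option linter.style.haveILetI false

namespace Cfsg.Agent.LargeExtra.TwoCentral

open Cfsg.Agent.Co2Type.Quad Cfsg.Agent.LargeExtra.Base

variable {G : Type*} [Group G] {Q : Subgroup G} {z : G}

theorem zmod_two (c : ZMod 2) : c = 0 ∨ c = 1 := by revert c; decide

theorem zmod_two_ne {c : ZMod 2} (h : c ≠ 0) : c = 1 := by revert c; decide

/-- `(a^⊥)^⊥ = {0, a}` -/
theorem eq_of_perp (h : Large Q z) {a d : h.V} (H : ∀ v, h.b a v = 0 → h.b d v = 0) : d = 0 ∨ d = a := by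
  by_contra hne
  push Not at hne
  obtain ⟨h0, ha⟩ := hne
  obtain ⟨w, hw⟩ : ∃ w, h.b d w ≠ 0 := by
    by_contra hcon
    push Not at hcon
    exact h0 (h.b_nondeg hcon)
  have hw1 : h.b d w = 1 := zmod_two_ne hw
  have haw : h.b a w = 1 := zmod_two_ne fun h1 => hw (H w h1)
  apply ha
  have key : d + a = 0 := by
    apply h.b_nondeg
    intro v
    rw [map_add, LinearMap.add_apply]
    rcases zmod_two (h.b a v) with h1 | h1
    · rw [H v h1, h1, add_zero]
    · have h2 : h.b a (v + w) = 0 := by
        rw [map_add, h1, haw]; decide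
      have h3 := H _ h2
      rw [map_add, hw1] at h3
      have h4 : h.b d v = 1 := by
        have : ∀ x : ZMod 2, x + 1 = 0 → x = 1 := by decide
        exact this _ h3
      rw [h4, h1]; decide
  calc d = d + a + a := by rw [add_assoc, h.add_self, add_zero]
    _ = a := by rw [key, zero_add]

/-- double centraliser of an element: `C_Q(C_Q(x)) = ⟨x, z⟩` -/
theorem eq_of_cent (h : Large Q z) {x y : G} (hx : x ∈ Q) (hy : y ∈ Q)
    (H : ∀ r ∈ Q, r * x = x * r → r * y = y * r) : y = 1 ∨ y = z ∨ y = x ∨ y = x * z := by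
  have key : h.pr ⟨y, hy⟩ = 0 ∨ h.pr ⟨y, hy⟩ = h.pr ⟨x, hx⟩ := by
    apply eq_of_perp h
    intro v hv
    obtain ⟨r, rfl⟩ := h.pr_surjective v
    have h1 := (h.b_pr _ _).1 hv
    exact (h.b_pr _ _).2 (H r r.2 h1.symm).symm
  rcases key with h1 | h1
  · rcases h.pr_eq_zero.1 h1 with h2 | h2
    · exact Or.inl h2
    · exact Or.inr (Or.inl h2)
  · rcases h.pr_eq_pr.1 h1 with h2 | h2
    · exact Or.inr (Or.inr (Or.inl h2))
    · exact Or.inr (Or.inr (Or.inr h2))

/-- An isometry trivial on `a^⊥` is `1` or the transvection with centre `a`. -/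
theorem eq_or_refl_of_fix_perp (h : Large Q z) {a : h.V} (f : h.V ≃ₗ[ZMod 2] h.V)
    (hf : ∀ v w, h.b (f v) (f w) = h.b v w) (H : ∀ v, h.b a v = 0 → f v = v) :
    f = 1 ∨ ∀ v, f v = v + h.b a v • a := by
  by_cases hex : ∃ w, f w ≠ w
  · right
    obtain ⟨w, hw⟩ := hex
    have haw : h.b a w = 1 := zmod_two_ne fun h1 => hw (H w h1)
    have hd : f w + w = 0 ∨ f w + w = a := by
      apply eq_of_perp h
      intro v hv
      rw [map_add, LinearMap.add_apply]
      have h1 := hf w v
      rw [H v hv] at h1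
      rw [h1]
      rcases zmod_two (h.b w v) with h2 | h2 <;> rw [h2] <;> decide
    have hd' : f w = w + a := by
      rcases hd with h1 | h1
      · exfalso
        apply hw
        calc f w = f w + w + w := by rw [add_assoc, h.add_self, add_zero]
          _ = w := by rw [h1, zero_add]
      · calc f w = f w + w + w := by rw [add_assoc, h.add_self, add_zero]
          _ = w + a := by rw [h1, add_comm]
    intro v
    rcases zmod_two (h.b a v) with h1 | h1
    · rw [H v h1, h1, zero_smul, add_zero]
    · have h2 : h.b a (v + w) = 0 := by rw [map_add, h1, haw]; decide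
      have h3 := H _ h2
      rw [map_add, hd'] at h3
      rw [h1, one_smul]
      calc f v = f v + (w + a) + (w + a) := by rw [add_assoc, h.add_self, add_zero]
        _ = v + w + (w + a) := by rw [h3]
        _ = v + (w + w) + a := by abel
        _ = v + a := by rw [h.add_self, add_zero]
  · left
    push Not at hex
    ext v
    exact hex v

/-- An isometry trivial on `a^⊥`, `a` singular, is trivial. -/
theorem eq_one_of_fix_perp (h : Large Q z) {a : h.V} (ha : h.q a = 0) (f : h.V ≃ₗ[ZMod 2] h.V)
    (hq : ∀ v, h.q (f v) = h.q v) (H : ∀ v, h.b a v = 0 → f v = v) : f = 1 := by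
  have hf : ∀ v w, h.b (f v) (f w) = h.b v w := by
    intro v w
    have h1 := h.q_add' v w
    have h2 := h.q_add' (f v) (f w)
    rw [← map_add, hq, hq, hq, h1] at h2
    exact (add_left_cancel h2).symm
  rcases eq_or_refl_of_fix_perp h f hf H with h1 | h1
  · exact h1
  · ext v
    show f v = v
    rcases zmod_two (h.b a v) with h2 | h2
    · exact H v h2
    · exfalso
      have h3 := h1 v
      rw [h2, one_smul] at h3
      have h4 := hq v
      rw [h3, h.q_add', ha, h.b_comm, h2, add_zero] at h4
      have : ∀ x : ZMod 2, x + 1 ≠ x := by decide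
      exact this _ h4

/-- a 2-subgroup containing `Q` has centre inside `⟨z⟩` -/
theorem eq_of_central (h : Large Q z) {x : G} (hx : ∀ y ∈ Q, x * y = y * x) : x = 1 ∨ x = z :=
  h.cent x (h.self x (hx z h.z_mem) hx) hx

/-- a 2-subgroup containing `Q` centralises `z` -/
theorem le_centralizer_of_two [Finite G] (h : Large Q z) {T : Subgroup G} (hT : IsPGroup 2 T)
    (hQT : Q ≤ T) : T ≤ Subgroup.centralizer ({z} : Set G) := by
  have : Fact (Nat.Prime 2) := ⟨Nat.prime_two⟩
  have hnt : Nontrivial T := by
    rw [Subgroup.nontrivial_iff_exists_ne_one]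
    exact ⟨z, hQT h.z_mem, h.z_ne⟩
  have hnz := hT.center_nontrivial
  rw [Subgroup.nontrivial_iff_exists_ne_one] at hnz
  obtain ⟨c, hc, hc1⟩ := hnz
  rw [Subgroup.mem_center_iff] at hc
  have hc' : ∀ y ∈ T, (c : G) * y = y * c := fun y hy => (congrArg Subtype.val (hc ⟨y, hy⟩)).symm
  rcases eq_of_central h (x := (c : G)) (fun y hy => hc' y (hQT hy)) with h1 | h1
  · exact absurd (Subtype.ext h1) hc1
  · intro y hy
    rw [Subgroup.mem_centralizer_singleton_iff, ← h1]
    exact (hc' y hy).symm

/-- `z` is 2-central -/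
theorem odd_index [Finite G] (h : Large Q z) : Odd (Subgroup.centralizer ({z} : Set G)).index := by
  have : Fact (Nat.Prime 2) := ⟨Nat.prime_two⟩
  obtain ⟨T, hT⟩ := (isPGroup h).exists_le_sylow
  have h1 := le_centralizer_of_two h T.2 hT
  rw [← Nat.not_even_iff_odd, even_iff_two_dvd]
  intro h2
  exact T.not_dvd_index (h2.trans (Subgroup.index_dvd_of_le h1))

/-- `F*(C)` extraspecial contains every normal 2-subgroup of `C`. -/
theorem le_of_normal_two {C : Type*} [Group C] [Finite C] {N : Subgroup C} (hN : N.Normal) (h2 : IsPGroup 2 N) :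
    N ≤ Cfsg.generalizedFittingSubgroup C := by
  have : Fact (Nat.Prime 2) := ⟨Nat.prime_two⟩
  exact (Cfsg.Agent.ClassificationK.GF2Basics.le_fitting hN h2.isNilpotent).trans le_sup_right

end Cfsg.Agent.LargeExtra.TwoCentral
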