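import Cfsg.Agent.ClassicalGeometry.TwoFamilies
import Cfsg.Agent.LargeExtra.TwoCentral
set_option linter.all false

/-!
# The Dickson invariant (helper805)

For isometries `f, g` of a nondegenerate quadratic space `V` over `F₂` (any field of characteristic two works the
same): `dim Fix f + dim Fix g + dim Fix (f g) + dim V` is even (no exception in dimension four). Proof by the parity
of intersections of the three graphs, which are maximal totally singular subspaces of `V ⊥ V`.

`dick h : C_G(z) →* ℤˣ` for `Large Q z`, trivial on `Q`, equal to `-1` on elements inducing reflections.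
-/

set_option autoImplicit false
set_option linter.style.haveILetI false

namespace Cfsg.Agent.LargeExtra.Dickson

open Module

section Abstract

variable {V : Type*} [AddCommGroup V] [Module (ZMod 2) V] [FiniteDimensional (ZMod 2) V]

/-- the fixed space -/
def fix (f : V ≃ₗ[ZMod 2] V) : Submodule (ZMod 2) V := LinearMap.eqLocus f.toLinearMap LinearMap.id

omit [FiniteDimensional (ZMod 2) V] in
theorem mem_fix (f : V ≃ₗ[ZMod 2] V) (v : V) : v ∈ fix f ↔ f v = v := Iff.rfl

/-- the form `B ⊥ B` on `V × V` -/
def BB (B : LinearMap.BilinForm (ZMod 2) V) : LinearMap.BilinForm (ZMod 2) (V × V) :=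
  B.compl₁₂ (LinearMap.fst _ V V) (LinearMap.fst _ V V) + B.compl₁₂ (LinearMap.snd _ V V) (LinearMap.snd _ V V)

omit [FiniteDimensional (ZMod 2) V] in
theorem BB_apply (B : LinearMap.BilinForm (ZMod 2) V) (x y : V × V) : BB B x y = B x.1 y.1 + B x.2 y.2 := rfl

omit [FiniteDimensional (ZMod 2) V] in
theorem finrank_graph (f : V →ₗ[ZMod 2] V) : finrank (ZMod 2) f.graph = finrank (ZMod 2) V := by
  rw [LinearMap.graph_eq_range_prod]
  apply LinearMap.finrank_range_of_inj
  intro x y hxy
  exact congrArg Prod.fst hxy

omit [FiniteDimensional (ZMod 2) V] in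
theorem finrank_graph_inf (f g : V →ₗ[ZMod 2] V) :
    finrank (ZMod 2) ↥(f.graph ⊓ g.graph) = finrank (ZMod 2) (LinearMap.eqLocus f g) := by
  have hinj : Function.Injective (LinearMap.id.prod f : V →ₗ[ZMod 2] V × V) := by
    intro x y hxy
    exact congrArg Prod.fst hxy
  have h1 : f.graph ⊓ g.graph = (LinearMap.eqLocus f g).map (LinearMap.id.prod f) := by
    ext x
    rw [Submodule.mem_inf, LinearMap.mem_graph_iff, LinearMap.mem_graph_iff, Submodule.mem_map]
    constructor
    · rintro ⟨h1, h2⟩
      refine ⟨x.1, ?_, ?_⟩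
      · show f x.1 = g x.1
        rw [← h1, h2]
      · apply Prod.ext
        · rfl
        · exact h1.symm
    · rintro ⟨y, hy, rfl⟩
      exact ⟨rfl, hy⟩
  rw [h1]
  exact (Submodule.equivMapOfInjective _ hinj (LinearMap.eqLocus f g)).finrank_eq.symm

/-- **Dickson**: the parity of `dim Fix` is multiplicative. -/
theorem even_sum (q : V → ZMod 2) (B : LinearMap.BilinForm (ZMod 2) V)
    (hq : ∀ u w, q (u + w) = q u + q w + B u w) (hsep : ∀ v, (∀ w, B v w = 0) → v = 0)
    (hsymm : ∀ v w, B v w = B w v) (f g : V ≃ₗ[ZMod 2] V)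
    (hf : ∀ v, q (f v) = q v) (hg : ∀ v, q (g v) = q v) :
    Even (finrank (ZMod 2) (fix f) + finrank (ZMod 2) (fix g) + finrank (ZMod 2) (fix (f * g)) +
      finrank (ZMod 2) V) := by
  have hadd : ∀ x : ZMod 2, x + x = 0 := by decide
  set m := finrank (ZMod 2) V with hm
  have hfin : finrank (ZMod 2) (V × V) = 2 * m := by
    rw [Module.finrank_prod, ← hm]; ring
  have hnd : (BB B).Nondegenerate := by
    have hs : ∀ x y, BB B x y = BB B y x := fun x y => by
      rw [BB_apply, BB_apply, hsymm x.1, hsymm x.2]
    have hl : ∀ x : V × V, (∀ y, BB B x y = 0) → x = 0 := by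
      intro x hx
      apply Prod.ext
      · apply hsep
        intro w
        have := hx (w, 0)
        rw [BB_apply] at this
        simpa using this
      · apply hsep
        intro w
        have := hx (0, w)
        rw [BB_apply] at this
        simpa using this
    exact ⟨hl, fun y hy => hl y fun x => by rw [hs]; exact hy x⟩
  have hrefl : (BB B).IsRefl := by
    intro x y hxy
    rw [BB_apply] at hxy ⊢
    rw [hsymm y.1, hsymm y.2]
    exact hxy
  have hq' : ∀ x y : V × V, (q (x + y).1 + q (x + y).2) = (q x.1 + q x.2) + (q y.1 + q y.2) + BB B x y := by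
    intro x y
    rw [BB_apply, Prod.fst_add, Prod.snd_add, hq, hq]
    abel
  have hsing : ∀ f : V ≃ₗ[ZMod 2] V, (∀ v, q (f v) = q v) →
      ∀ x ∈ (f.toLinearMap).graph, q x.1 + q x.2 = 0 := by
    intro f hf x hx
    rw [LinearMap.mem_graph_iff] at hx
    rw [hx]
    show q x.1 + q (f x.1) = 0
    rw [hf, hadd]
  -- the three graphs: `1`, `f⁻¹`, `g`
  have hfi : ∀ v, q (f.symm v) = q v := fun v => by
    rw [← hf (f.symm v), LinearEquiv.apply_symm_apply]
  have key := Cfsg.Agent.ClassicalGeometry.TwoFamilies.even_intersections (B := BB B)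
    (fun x => q x.1 + q x.2) hq' hnd hrefl m hfin
    (LinearMap.id (R := ZMod 2) (M := V)).graph (f.symm.toLinearMap).graph (g.toLinearMap).graph
    (finrank_graph _) (finrank_graph _) (finrank_graph _)
    (fun x hx => by
      rw [LinearMap.mem_graph_iff] at hx
      show q x.1 + q x.2 = 0
      rw [hx]
      exact hadd _)
    (hsing f.symm hfi) (hsing g hg)
  rw [finrank_graph_inf, finrank_graph_inf, finrank_graph_inf] at key
  have e1 : LinearMap.eqLocus (LinearMap.id (R := ZMod 2) (M := V)) f.symm.toLinearMap = fix f := by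
    ext v
    show v = f.symm v ↔ f v = v
    constructor
    · intro h
      calc f v = f (f.symm v) := by rw [← h]
        _ = v := f.apply_symm_apply v
    · intro h
      calc v = f.symm (f v) := (f.symm_apply_apply v).symm
        _ = f.symm v := by rw [h]
  have e2 : LinearMap.eqLocus f.symm.toLinearMap g.toLinearMap = fix (f * g) := by
    ext v
    show f.symm v = g v ↔ f (g v) = v
    constructor
    · intro h; rw [← h]; exact f.apply_symm_apply v
    · intro h
      calc f.symm v = f.symm (f (g v)) := by rw [h]
        _ = g v := f.symm_apply_apply _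
  have e3 : LinearMap.eqLocus (LinearMap.id (R := ZMod 2) (M := V)) g.toLinearMap = fix g := by
    ext v
    show v = g v ↔ g v = v
    exact eq_comm
  rw [e1, e2, e3] at key
  rw [Nat.even_iff] at key ⊢
  omega

end Abstract

open Cfsg.Agent.Co2Type.Quad Cfsg.Agent.LargeExtra.Base Cfsg.Agent.LargeExtra.TwoCentral

variable {G : Type*} [Group G] {Q : Subgroup G} {z : G}

theorem finiteDim [Finite Q] (h : Large Q z) : FiniteDimensional (ZMod 2) h.V := Module.Finite.of_finite

/-- `dim V` is even. -/
theorem even_finrank [Finite Q] (h : Large Q z) : Even (finrank (ZMod 2) h.V) := by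
  have := finiteDim h
  obtain ⟨m, hm⟩ := Cfsg.Agent.ClassicalGeometry.TwoFamilies.exists_finrank_eq_ker_add h.b h.b_self
  have hker : LinearMap.ker h.b = ⊥ := by
    rw [LinearMap.ker_eq_bot']
    intro v hv
    exact h.b_nondeg fun w => by rw [hv]; rfl
  rw [hker, finrank_bot, zero_add] at hm
  exact ⟨m, hm⟩

/-- The Dickson invariant of `C_G(z)` on `V`. -/
noncomputable def dick [Finite Q] (h : Large Q z) : Subgroup.centralizer ({z} : Set G) →* ℤˣ where
  toFun c := (-1) ^ finrank (ZMod 2) (fix (h.act c))
  map_one' := by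
    have := finiteDim h
    have e : fix (h.act 1) = ⊤ := by
      rw [eq_top_iff]
      intro v _
      rw [mem_fix, map_one]; rfl
    rw [e, finrank_top]
    exact (even_finrank h).neg_one_pow
  map_mul' c d := by
    have := finiteDim h
    have key := even_sum h.q h.b h.q_add' (fun v hv => h.b_nondeg hv) h.b_comm (h.act c) (h.act d)
      (h.q_act c) (h.q_act d)
    rw [← map_mul] at key
    have hm := even_finrank h
    rw [← pow_add]
    rcases Nat.even_or_odd (finrank (ZMod 2) (fix (h.act (c * d)))) with h1 | h1
    · have h2 : Even (finrank (ZMod 2) (fix (h.act c)) + finrank (ZMod 2) (fix (h.act d))) := by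
        rw [Nat.even_iff] at key hm h1 ⊢; omega
      rw [h1.neg_one_pow, h2.neg_one_pow]
    · have h2 : Odd (finrank (ZMod 2) (fix (h.act c)) + finrank (ZMod 2) (fix (h.act d))) := by
        rw [Nat.even_iff] at key hm; rw [Nat.odd_iff] at h1 ⊢; omega
      rw [h1.neg_one_pow, h2.neg_one_pow]

theorem dick_apply [Finite Q] (h : Large Q z) (c : Subgroup.centralizer ({z} : Set G)) :
    dick h c = (-1) ^ finrank (ZMod 2) (fix (h.act c)) := rfl

/-- the perpendicular space of a vector has codimension one -/
theorem finrank_perp [Finite Q] (h : Large Q z) {a : h.V} (ha : a ≠ 0) :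
    finrank (ZMod 2) (LinearMap.ker (h.b a)) + 1 = finrank (ZMod 2) h.V := by
  have := finiteDim h
  have hne : h.b a ≠ 0 := by
    intro h0
    apply ha
    apply h.b_nondeg
    intro w
    rw [h0]; rfl
  have h1 := LinearMap.finrank_range_add_finrank_ker (h.b a)
  have h2 : LinearMap.range (h.b a) = ⊤ := LinearMap.range_eq_top.2 (LinearMap.surjective hne)
  rw [h2, finrank_top, finrank_self] at h1
  omega

/-- An element inducing a reflection has Dickson invariant `-1`. -/
theorem dick_refl [Finite Q] (h : Large Q z) {a : h.V} (ha : a ≠ 0)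
    {c : Subgroup.centralizer ({z} : Set G)} (hc : ∀ v, h.act c v = v + h.b a v • a) : dick h c = -1 := by
  have := finiteDim h
  rw [dick_apply]
  have e : fix (h.act c) = LinearMap.ker (h.b a) := by
    ext v
    rw [mem_fix, hc, LinearMap.mem_ker]
    rcases zmod_two (h.b a v) with h1 | h1
    · rw [h1, zero_smul, add_zero]; simp
    · rw [h1, one_smul]
      constructor
      · intro h2
        exact absurd (add_eq_left.1 h2) ha
      · intro h2; exact absurd h2 (by decide)
  rw [e]
  have h1 := finrank_perp h ha
  have h2 := even_finrank h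
  have h3 : Odd (finrank (ZMod 2) (LinearMap.ker (h.b a))) := by
    rw [Nat.even_iff] at h2; rw [Nat.odd_iff]; omega
  exact h3.neg_one_pow

/-- The subgroup of `C_G(z)` of elements with trivial Dickson invariant, as a subgroup of `G`. -/
noncomputable def C0 [Finite Q] (h : Large Q z) : Subgroup G :=
  (dick h).ker.map (Subgroup.centralizer ({z} : Set G)).subtype

theorem mem_C0 [Finite Q] (h : Large Q z) (c : Subgroup.centralizer ({z} : Set G)) :
    (c : G) ∈ C0 h ↔ dick h c = 1 := by
  constructor
  · rintro ⟨d, hd, hdc⟩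
    have : d = c := Subtype.ext hdc
    rw [← this]; exact hd
  · intro hc
    exact ⟨c, hc, rfl⟩

theorem C0_le [Finite Q] (h : Large Q z) : C0 h ≤ Subgroup.centralizer ({z} : Set G) := by
  rintro _ ⟨d, _, rfl⟩
  exact d.2

theorem relIndex_C0 [Finite Q] (h : Large Q z) {c : Subgroup.centralizer ({z} : Set G)} (hc : dick h c = -1) :
    (C0 h).relIndex (Subgroup.centralizer ({z} : Set G)) = 2 := by
  have e : (C0 h).subgroupOf (Subgroup.centralizer ({z} : Set G)) = (dick h).ker := by
    ext d
    rw [Subgroup.mem_subgroupOf, mem_C0]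
    rfl
  rw [Subgroup.relIndex, e, Subgroup.index_ker]
  have : (dick h).range = ⊤ := by
    rw [eq_top_iff]
    intro x _
    rcases Int.units_eq_one_or x with rfl | rfl
    · exact (dick h).range.one_mem
    · exact ⟨c, hc⟩
  rw [this, Subgroup.card_top, Nat.card_eq_fintype_card]
  rfl

end Cfsg.Agent.LargeExtra.Dickson
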