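import Cfsg.Agent.Co2Type.Quad
import Cfsg.Prelude.Def_TwoFusion
import Cfsg.Agent.Lib.HallTriple
import Cfsg.Agent.Held.AffineCaseZ
import Cfsg.Agent.StandardComponent.AltFinal
import Cfsg.Agent.S1614
import Cfsg.Agent.S0280
import Cfsg.Prelude.Def_SporadicB
set_option linter.all false

-- part: LargeExtra/WCGeom
section
/-!
# S1762, case I (`z` weakly closed in `Q`): the interface between the local analysis and the endgame (helper888)

`WCGeom P Q`: `P` a class of involutions of the finite group `G`, `Q p` the large extraspecial subgroup of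
`p ∈ P`; two distinct commuting elements of `P` lie on a unique line, a set of five commuting elements of `P`
with product `1`; two elements of `P` commuting with `p` and on different lines through `p` have a product of
order three modulo `Q p`.

* local analysis (helper888, files `WC*.lean`): the hypotheses of S1762 and `z` weakly closed in `Q` give
  `WCGeom (z^G) Q`.
* endgame: `WCGeom P Q` implies that `P` is a class of 3-transpositions, and then `G ≃* PSU 5 F 2`.
-/

set_option autoImplicit false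

namespace Cfsg.Agent.LargeExtra.WC

open Cfsg.Agent.Co2Type.Quad

/-- The geometry of the conjugates of `z` when `z` is weakly closed in `Q` (`|Q| = 2 ^ 7` or `2 ^ 5`). -/
structure WCGeom {G : Type*} [Group G] (P : Set G) (Q : G → Subgroup G) : Prop where
  /-- `P` is a conjugacy class -/
  conj_mem : ∀ p ∈ P, ∀ g : G, g * p * g⁻¹ ∈ P
  exists_conj : ∀ p ∈ P, ∀ q ∈ P, ∃ g : G, g * p * g⁻¹ = q
  /-- `Q p` is a large extraspecial subgroup with centre `⟨p⟩` (this contains `p ≠ 1`, `p * p = 1`) -/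
  large : ∀ p ∈ P, Large (Q p) p
  Q_conj : ∀ p ∈ P, ∀ g x : G, x ∈ Q p → g * x * g⁻¹ ∈ Q (g * p * g⁻¹)
  /-- weak closure -/
  eq_of_mem : ∀ p ∈ P, ∀ x ∈ P, x ∈ Q p → x = p
  /-- the line through two commuting elements; "no triangles" -/
  line : ∀ p ∈ P, ∀ t ∈ P, p ≠ t → Commute p t → ∃ r₁ ∈ P, ∃ r₂ ∈ P, ∃ r₃ ∈ P,
    [p, t, r₁, r₂, r₃].Nodup ∧ (∀ a ∈ [p, t, r₁, r₂, r₃], ∀ b ∈ [p, t, r₁, r₂, r₃], Commute a b) ∧
      [p, t, r₁, r₂, r₃].prod = 1 ∧
      ∀ s ∈ P, Commute s p → Commute s t → s ∈ [p, t, r₁, r₂, r₃]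
  /-- the product of two points of a line lies in `Q r` for each other point `r` of the line -/
  mul_mem : ∀ p ∈ P, ∀ t ∈ P, ∀ r ∈ P, p ≠ t → p ≠ r → t ≠ r → Commute p t → Commute p r → Commute t r →
    p * t ∈ Q r
  mul_notMem : ∀ p ∈ P, ∀ t ∈ P, p ≠ t → Commute p t → p * t ∉ P
  /-- `t`, `s` on different lines through `p` -/
  ord_three : ∀ p ∈ P, ∀ t ∈ P, ∀ s ∈ P, Commute t p → Commute s p → ¬ Commute t s →
    (t * s) ^ 3 ∈ Q p ∧ t * s ∉ Q p

end Cfsg.Agent.LargeExtra.WC
end

-- part: LargeExtra/WCEnd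
section
/-!
# Endgame of the weakly closed case (helper622)

From the geometry `WCGeom P Q` (only the fields listed in `Geo` are used) and the Z*-theorem: `P` is a class of
3-transpositions (`three_transp`).  Proof of helper888, bb R12 #2003 (6), (7).
-/

set_option autoImplicit false

namespace Cfsg.Agent.LargeExtra.WCEnd

open Cfsg.Agent.Co2Type.Quad Cfsg.Agent.LargeExtra.WC

universe u

/-- The Z*-theorem in the universe `v`. -/
def ZStar.{v} : Prop := ∀ (X : Type v) [Group X] [Finite X] (t : X), Cfsg.IsIsolatedInvolution t →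
  ∃ N : Subgroup X, N.Normal ∧ Odd (Nat.card N) ∧ ∀ x : X, t * x * t⁻¹ * x⁻¹ ∈ N

/-- The part of `WCGeom` used in the endgame. -/
structure Geo {G : Type*} [Group G] (P : Set G) (Q : G → Subgroup G) : Prop where
  conj_mem : ∀ p ∈ P, ∀ g : G, g * p * g⁻¹ ∈ P
  exists_conj : ∀ p ∈ P, ∀ q ∈ P, ∃ g : G, g * p * g⁻¹ = q
  large : ∀ p ∈ P, Large (Q p) p
  line : ∀ p ∈ P, ∀ t ∈ P, p ≠ t → Commute p t → ∃ r₁ ∈ P, ∃ r₂ ∈ P, ∃ r₃ ∈ P,
    [p, t, r₁, r₂, r₃].Nodup ∧ (∀ a ∈ [p, t, r₁, r₂, r₃], ∀ b ∈ [p, t, r₁, r₂, r₃], Commute a b) ∧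
      [p, t, r₁, r₂, r₃].prod = 1 ∧
      ∀ s ∈ P, Commute s p → Commute s t → s ∈ [p, t, r₁, r₂, r₃]
  mul_mem : ∀ p ∈ P, ∀ t ∈ P, ∀ r ∈ P, p ≠ t → p ≠ r → t ≠ r → Commute p t → Commute p r → Commute t r →
    p * t ∈ Q r
  mul_notMem : ∀ p ∈ P, ∀ t ∈ P, p ≠ t → Commute p t → p * t ∉ P
  ord_three : ∀ p ∈ P, ∀ t ∈ P, ∀ s ∈ P, Commute t p → Commute s p → ¬ Commute t s →
    (t * s) ^ 3 ∈ Q p ∧ t * s ∉ Q p

theorem geo_of_wc {G : Type*} [Group G] {P : Set G} {Q : G → Subgroup G} (h : WCGeom P Q) : Geo P Q :=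
  ⟨h.conj_mem, h.exists_conj, h.large, h.line, h.mul_mem, h.mul_notMem, h.ord_three⟩

/-! ### the five points of a line -/

/-- `p, t, r₁, r₂, r₃` are the five points of a line. -/
structure IsLine {G : Type*} [Group G] (P : Set G) (p t r₁ r₂ r₃ : G) : Prop where
  hp : p ∈ P
  ht : t ∈ P
  h1 : r₁ ∈ P
  h2 : r₂ ∈ P
  h3 : r₃ ∈ P
  pt : p ≠ t
  p1 : p ≠ r₁
  p2 : p ≠ r₂
  p3 : p ≠ r₃
  t1 : t ≠ r₁
  t2 : t ≠ r₂
  t3 : t ≠ r₃
  n12 : r₁ ≠ r₂
  n13 : r₁ ≠ r₃
  n23 : r₂ ≠ r₃
  cpt : Commute p t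
  cp1 : Commute p r₁
  cp2 : Commute p r₂
  cp3 : Commute p r₃
  ct1 : Commute t r₁
  ct2 : Commute t r₂
  ct3 : Commute t r₃
  c12 : Commute r₁ r₂
  c13 : Commute r₁ r₃
  c23 : Commute r₂ r₃
  prod : p * t * (r₁ * r₂ * r₃) = 1
  mem : ∀ s ∈ P, Commute s p → Commute s t → s = p ∨ s = t ∨ s = r₁ ∨ s = r₂ ∨ s = r₃

section

variable {G : Type*} [Group G] {P : Set G} {Q : G → Subgroup G}

theorem Geo.isLine (hg : Geo P Q) {p t : G} (hp : p ∈ P) (ht : t ∈ P) (hne : p ≠ t) (hc : Commute p t) :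
    ∃ r₁ r₂ r₃, IsLine P p t r₁ r₂ r₃ := by
  obtain ⟨r₁, h1, r₂, h2, r₃, h3, hnd, hcm, hpr, hm⟩ := hg.line p hp t ht hne hc
  refine ⟨r₁, r₂, r₃, ?_⟩
  simp only [List.nodup_cons, List.mem_cons, List.not_mem_nil, not_or, or_false, List.nodup_nil,
    and_true, not_false_eq_true] at hnd
  obtain ⟨⟨-, a1, a2, a3⟩, ⟨b1, b2, b3⟩, ⟨c1, c2⟩, d1⟩ := hnd
  refine ⟨hp, ht, h1, h2, h3, hne, a1, a2, a3, b1, b2, b3, c1, c2, d1, hc, ?_, ?_, ?_, ?_, ?_, ?_, ?_, ?_, ?_,
    ?_, ?_⟩
  · exact hcm _ (by simp) _ (by simp)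
  · exact hcm _ (by simp) _ (by simp)
  · exact hcm _ (by simp) _ (by simp)
  · exact hcm _ (by simp) _ (by simp)
  · exact hcm _ (by simp) _ (by simp)
  · exact hcm _ (by simp) _ (by simp)
  · exact hcm _ (by simp) _ (by simp)
  · exact hcm _ (by simp) _ (by simp)
  · exact hcm _ (by simp) _ (by simp)
  · rw [← hpr]
    simp [mul_assoc]
  · intro s hs h1 h2
    have := hm s hs h1 h2
    simpa using this

theorem Geo.sq (hg : Geo P Q) {p : G} (hp : p ∈ P) : p * p = 1 := (hg.large p hp).z_sq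

theorem Geo.ne_one (hg : Geo P Q) {p : G} (hp : p ∈ P) : p ≠ 1 := (hg.large p hp).z_ne

theorem Geo.inv (hg : Geo P Q) {p : G} (hp : p ∈ P) : p⁻¹ = p := inv_eq_of_mul_eq_one_left (hg.sq hp)

/-- conjugation by an involution of `P` -/
theorem Geo.conj_mem' (hg : Geo P Q) {p s : G} (hp : p ∈ P) (hs : s ∈ P) : s * p * s ∈ P := by
  have := hg.conj_mem p hp s
  rwa [hg.inv hs] at this

/-- swapping the roles of the two first points -/
theorem IsLine.symm {p t r₁ r₂ r₃ : G} (h : IsLine P p t r₁ r₂ r₃) : IsLine P t p r₁ r₂ r₃ where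
  hp := h.ht
  ht := h.hp
  h1 := h.h1
  h2 := h.h2
  h3 := h.h3
  pt := h.pt.symm
  p1 := h.t1
  p2 := h.t2
  p3 := h.t3
  t1 := h.p1
  t2 := h.p2
  t3 := h.p3
  n12 := h.n12
  n13 := h.n13
  n23 := h.n23
  cpt := h.cpt.symm
  cp1 := h.ct1
  cp2 := h.ct2
  cp3 := h.ct3
  ct1 := h.cp1
  ct2 := h.cp2
  ct3 := h.cp3
  c12 := h.c12
  c13 := h.c13
  c23 := h.c23
  prod := by rw [← h.cpt.eq]; exact h.prod
  mem := by
    intro s hs h1 h2
    rcases h.mem s hs h2 h1 with h | h | h | h | h
    · exact Or.inr (Or.inl h)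
    · exact Or.inl h
    · exact Or.inr (Or.inr (Or.inl h))
    · exact Or.inr (Or.inr (Or.inr (Or.inl h)))
    · exact Or.inr (Or.inr (Or.inr (Or.inr h)))

/-- cyclic rotation of the three other points -/
theorem IsLine.rot {p t r₁ r₂ r₃ : G} (h : IsLine P p t r₁ r₂ r₃) : IsLine P p t r₂ r₃ r₁ where
  hp := h.hp
  ht := h.ht
  h1 := h.h2
  h2 := h.h3
  h3 := h.h1
  pt := h.pt
  p1 := h.p2
  p2 := h.p3
  p3 := h.p1
  t1 := h.t2
  t2 := h.t3
  t3 := h.t1
  n12 := h.n23
  n13 := h.n12.symm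
  n23 := h.n13.symm
  cpt := h.cpt
  cp1 := h.cp2
  cp2 := h.cp3
  cp3 := h.cp1
  ct1 := h.ct2
  ct2 := h.ct3
  ct3 := h.ct1
  c12 := h.c23
  c13 := h.c12.symm
  c23 := h.c13.symm
  prod := by
    have : r₂ * r₃ * r₁ = r₁ * r₂ * r₃ := by
      rw [← (h.c12.mul_right h.c13).eq, mul_assoc]
    rw [this]; exact h.prod
  mem := by
    intro s hs h1 h2
    rcases h.mem s hs h1 h2 with h | h | h | h | h
    · exact Or.inl h
    · exact Or.inr (Or.inl h)
    · exact Or.inr (Or.inr (Or.inr (Or.inr h)))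
    · exact Or.inr (Or.inr (Or.inl h))
    · exact Or.inr (Or.inr (Or.inr (Or.inl h)))

theorem IsLine.eq_mul (hg : Geo P Q) {p t r₁ r₂ r₃ : G} (h : IsLine P p t r₁ r₂ r₃) :
    p * t = r₁ * r₂ * r₃ := by
  have h1 := h.prod
  have h2 : (r₁ * r₂ * r₃)⁻¹ = r₁ * r₂ * r₃ := by
    rw [mul_inv_rev, mul_inv_rev, hg.inv h.h1, hg.inv h.h2, hg.inv h.h3, ← h.c12.eq,
      ← (h.c13.mul_left h.c23).eq]
  rw [← h2]
  exact eq_inv_of_mul_eq_one_left h1

/-- the product of `r₁` with `p t` is the product of the two other points -/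
theorem IsLine.mul_eq (hg : Geo P Q) {p t r₁ r₂ r₃ : G} (h : IsLine P p t r₁ r₂ r₃) :
    r₁ * (p * t) = r₂ * r₃ := by
  rw [h.eq_mul hg, ← mul_assoc, ← mul_assoc, hg.sq h.h1, one_mul]

theorem IsLine.mul_notMem (hg : Geo P Q) {p t r₁ r₂ r₃ : G} (h : IsLine P p t r₁ r₂ r₃) :
    r₁ * (p * t) ∉ P := by
  rw [h.mul_eq hg]
  exact hg.mul_notMem _ h.h2 _ h.h3 h.n23 h.c23

/-- Two points with product `p t`, one of them commuting with `p`: they are `p` and `t`. -/
theorem Geo.eq_or_eq (hg : Geo P Q) {p t s s' : G} (hp : p ∈ P) (ht : t ∈ P) (hne : p ≠ t)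
    (hc : Commute p t) (hs : s ∈ P) (hs' : s' ∈ P) (hss : s * s' = p * t) (hsp : Commute s p) :
    s = p ∨ s = t := by
  obtain ⟨r₁, r₂, r₃, h⟩ := hg.isLine hp ht hne hc
  have hss' : s' = s * (p * t) := by rw [← hss, ← mul_assoc, hg.sq hs, one_mul]
  have hu : (p * t) * (p * t) = 1 := by
    have e : (p * t) * (p * t) = (p * p) * (t * t) := by
      rw [mul_assoc p t, ← mul_assoc t p, ← hc.eq, mul_assoc p t, ← mul_assoc p p]
    rw [e, hg.sq hp, hg.sq ht, one_mul]
  have hcs : Commute s s' := by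
    have h1 : (s * s') * (s * s') = 1 := by rw [hss, hu]
    show s * s' = s' * s
    have h2 : (s * s')⁻¹ = s * s' := inv_eq_of_mul_eq_one_left h1
    rw [← h2, mul_inv_rev, hg.inv hs, hg.inv hs']
  have hcu : Commute s (p * t) := by
    rw [← hss]; exact (Commute.refl s).mul_right hcs
  have hst : Commute s t := by
    have : t = p * (p * t) := by rw [← mul_assoc, hg.sq hp, one_mul]
    rw [this]; exact hsp.mul_right hcu
  rcases h.mem s hs hsp hst with e | e | e | e | e
  · exact Or.inl e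
  · exact Or.inr e
  · exfalso; subst e; exact h.mul_notMem hg (hss' ▸ hs')
  · exfalso; subst e; exact h.rot.mul_notMem hg (hss' ▸ hs')
  · exfalso; subst e; exact h.rot.rot.mul_notMem hg (hss' ▸ hs')

/-- Nothing in `P` swaps two points of a line. -/
theorem Geo.not_swap (hg : Geo P Q) {p t s : G} (hp : p ∈ P) (ht : t ∈ P) (hne : p ≠ t)
    (hc : Commute p t) (hs : s ∈ P) : s * p * s ≠ t := by
  intro hst
  obtain ⟨r₁, r₂, r₃, h⟩ := hg.isLine hp ht hne hc
  have hss := hg.sq hs
  have hts : s * t * s = p := by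
    rw [← hst]
    calc s * (s * p * s) * s = (s * s) * p * (s * s) := by group
      _ = p := by rw [hss]; group
  -- the image of a point commuting with `p` and `t`
  have hcc : ∀ x y : G, Commute x y → Commute (s * x * s) (s * y * s) := by
    intro x y hxy
    show s * x * s * (s * y * s) = s * y * s * (s * x * s)
    calc s * x * s * (s * y * s) = s * x * (s * s) * y * s := by group
      _ = s * (x * y) * s := by rw [hss]; group
      _ = s * (y * x) * s := by rw [hxy.eq]
      _ = s * y * (s * s) * x * s := by rw [hss]; group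
      _ = _ := by group
  have hinj : ∀ x y : G, s * x * s = y → s * y * s = x := by
    rintro x y rfl
    calc s * (s * x * s) * s = (s * s) * x * (s * s) := by group
      _ = x := by rw [hss]; group
  have himg : ∀ r ∈ P, r ≠ p → r ≠ t → Commute p r → Commute t r →
      s * r * s = r₁ ∨ s * r * s = r₂ ∨ s * r * s = r₃ := by
    intro r hr hrp hrt c1 c2
    have m1 := hg.conj_mem' hr hs
    have d1 : Commute (s * r * s) t := by
      have := (hcc p r c1).symm
      rwa [hst] at this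
    have d2 : Commute (s * r * s) p := by
      have := (hcc t r c2).symm
      rwa [hts] at this
    rcases h.mem _ m1 d2 d1 with e | e | e | e | e
    · exact absurd ((hinj _ _ e).symm.trans hst) hrt
    · exact absurd ((hinj _ _ e).symm.trans hts) hrp
    · exact Or.inl e
    · exact Or.inr (Or.inl e)
    · exact Or.inr (Or.inr e)
  -- a fixed point
  have hfix : ∃ r ∈ P, r ≠ p ∧ r ≠ t ∧ Commute p r ∧ Commute t r ∧ s * r * s = r := by
    have i1 := himg r₁ h.h1 h.p1.symm h.t1.symm h.cp1 h.ct1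
    have i2 := himg r₂ h.h2 h.p2.symm h.t2.symm h.cp2 h.ct2
    have i3 := himg r₃ h.h3 h.p3.symm h.t3.symm h.cp3 h.ct3
    by_cases f1 : s * r₁ * s = r₁
    · exact ⟨r₁, h.h1, h.p1.symm, h.t1.symm, h.cp1, h.ct1, f1⟩
    by_cases f2 : s * r₂ * s = r₂
    · exact ⟨r₂, h.h2, h.p2.symm, h.t2.symm, h.cp2, h.ct2, f2⟩
    by_cases f3 : s * r₃ * s = r₃
    · exact ⟨r₃, h.h3, h.p3.symm, h.t3.symm, h.cp3, h.ct3, f3⟩
    exfalso
    rcases i1 with e | e | e
    · exact f1 e
    · -- `r₁ ↔ r₂`
      rcases i3 with e' | e' | e'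
      · exact h.n23 (e.symm.trans (hinj _ _ e'))
      · exact h.n13 ((hinj _ _ e).symm.trans (hinj _ _ e'))
      · exact f3 e'
    · rcases i2 with e' | e' | e'
      · exact h.n23 ((hinj _ _ e').symm.trans e)
      · exact f2 e'
      · exact h.n12 ((hinj _ _ e).symm.trans (hinj _ _ e'))
  obtain ⟨r, hr, hrp, hrt, cpr, ctr, hfr⟩ := hfix
  have csr : Commute s r := by
    show s * r = r * s
    calc s * r = (s * r * s) * s⁻¹ := by group
      _ = r * s := by rw [hfr, hg.inv hs]
  have hnc : ¬ Commute p s := by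
    intro hps
    apply hne
    rw [← hst, ← hps.eq, mul_assoc, hss, mul_one]
  obtain ⟨o1, o2⟩ := hg.ord_three r hr p hp s hs cpr csr hnc
  have o3 : (p * s) ^ 2 ∈ Q r := by
    have e : (p * s) ^ 2 = p * t := by
      rw [pow_two, ← hst]; group
    rw [e]
    exact hg.mul_mem p hp t ht r hr hne (Ne.symm hrp) (Ne.symm hrt) hc cpr ctr
  apply o2
  have e : p * s = ((p * s) ^ 2)⁻¹ * (p * s) ^ 3 := by
    rw [pow_succ (p * s) 2, inv_mul_cancel_left]
  rw [e]
  exact Subgroup.mul_mem _ (Subgroup.inv_mem _ o3) o1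

end

/-! ### elements of odd order centralising a hyperplane of `Q` -/

theorem eq_one_of_odd {G : Type*} [Group G] {g : G} {k : ℕ} (h4 : g ^ 4 = 1) (hk : g ^ k = 1)
    (hodd : Odd k) : g = 1 := by
  have h1 : orderOf g ∣ 4 := orderOf_dvd_of_pow_eq_one h4
  have h2 : orderOf g ∣ k := orderOf_dvd_of_pow_eq_one hk
  have h3 : Nat.Coprime 4 k := by
    have : Nat.Coprime 2 k := by rwa [Nat.coprime_two_left]
    exact Nat.Coprime.pow_left 2 this
  have h4 : orderOf g ∣ 1 := by
    rw [← h3]; exact Nat.dvd_gcd h1 h2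
  exact orderOf_eq_one_iff.1 (Nat.dvd_one.1 h4)

theorem pow_four {G : Type*} [Group G] {Q : Subgroup G} {z : G} (h : Large Q z) {x : G} (hx : x ∈ Q) :
    x ^ 4 = 1 := by
  have e : x ^ 4 = (x * x) * (x * x) := by
    simp only [pow_succ, pow_zero, one_mul, mul_assoc]
  rw [e]
  rcases h.sq x hx with h1 | h1 <;> rw [h1]
  · exact one_mul 1
  · exact h.z_sq

theorem eq_one_of_centralizes {G : Type*} [Group G] {Q : Subgroup G} {z : G} (h : Large Q z) {u n : G}
    (hu : u ∈ Q) (hnz : n * z = z * n) (hnu : n * u = u * n)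
    (hY : ∀ x ∈ Q, x * u = u * x → n * x = x * n) {k : ℕ} (hk : Odd k) (hn : n ^ k = 1) : n = 1 := by
  have hzc : ∀ x ∈ Q, x * z = z * x := h.comm_z
  have hall : ∀ y ∈ Q, n * y = y * n := by
    intro y hy
    set c := y⁻¹ * (n * y * n⁻¹) with hc
    have hcQ : c ∈ Q := Q.mul_mem (Q.inv_mem hy) (h.conj_mem n hnz y hy)
    have hcx : ∀ x ∈ Q, x * u = u * x → c * x = x * c := by
      intro x hx hxu
      have hx' : y * x * y⁻¹ ∈ Q := Q.mul_mem (Q.mul_mem hy hx) (Q.inv_mem hy)
      have hx'u : y * x * y⁻¹ * u = u * (y * x * y⁻¹) := by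
        rcases h.comm y hy x hx with e | e
        · have : y * x * y⁻¹ = x := by rw [e]; group
          rw [this, hxu]
        · have : y * x * y⁻¹ = x * z := by
            rw [e, mul_assoc (x * y), ← (h.commz hy).inv_left.eq]; group
          rw [this, mul_assoc, ← hzc u hu, ← mul_assoc, hxu, mul_assoc]
      have e1 := hY _ hx' hx'u
      have e2 := hY _ hx hxu
      have e3 : n⁻¹ * x = x * n⁻¹ := by
        rw [inv_mul_eq_iff_eq_mul, ← mul_assoc, e2, mul_inv_cancel_right]
      calc c * x = y⁻¹ * (n * y * (n⁻¹ * x)) := by rw [hc]; group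
        _ = y⁻¹ * (n * y * (x * n⁻¹)) := by rw [e3]
        _ = y⁻¹ * (n * (y * x * y⁻¹)) * y * n⁻¹ := by group
        _ = y⁻¹ * ((y * x * y⁻¹) * n) * y * n⁻¹ := by rw [e1]
        _ = x * c := by rw [hc]; group
    have hcn : n * c = c * n := by
      by_cases hcen : ∀ x ∈ Q, c * x = x * c
      · rcases h.cent c hcQ hcen with e | e
        · rw [e]; group
        · rw [e]; exact hnz
      · push Not at hcen
        obtain ⟨w, hw, hcw⟩ := hcen
        have hcw' : c * w = w * c * z := by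
          rcases h.comm c hcQ w hw with e | e
          · exact absurd e hcw
          · exact e
        have hwu : w * u = u * w * z := by
          rcases h.comm w hw u hu with e | e
          · exact absurd (hcx w hw e) hcw
          · exact e
        have key : ∀ x ∈ Q, (c * u) * x = x * (c * u) := by
          intro x hx
          rcases h.comm x hx u hu with e | e
          · rw [mul_assoc, ← e, ← mul_assoc, hcx x hx e, mul_assoc]
          · have hwi : w⁻¹ * u = u * w⁻¹ * z := by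
              rw [inv_mul_eq_iff_eq_mul]
              calc u = u * w * z * (w⁻¹ * z) := by
                    rw [mul_assoc (u * w), ← mul_assoc z, ← (h.commz (Q.inv_mem hw)).eq, mul_assoc (w⁻¹),
                      h.z_sq]; group
                _ = w * u * (w⁻¹ * z) := by rw [hwu]
                _ = w * (u * w⁻¹ * z) := by group
            have e1 : x * w⁻¹ * u = u * (x * w⁻¹) := by
              calc x * w⁻¹ * u = x * (w⁻¹ * u) := by group
                _ = x * u * w⁻¹ * z := by rw [hwi]; group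
                _ = u * x * z * w⁻¹ * z := by rw [e]
                _ = u * x * (z * w⁻¹) * z := by group
                _ = u * x * (w⁻¹ * z) * z := by rw [(h.commz (Q.inv_mem hw)).eq]
                _ = u * (x * w⁻¹) * (z * z) := by group
                _ = _ := by rw [h.z_sq, mul_one]
            have e2 := hcx _ (Q.mul_mem hx (Q.inv_mem hw)) e1
            have e3 : c * x = x * c * z := by
              calc c * x = c * (x * w⁻¹) * w := by group
                _ = x * w⁻¹ * c * w := by rw [e2]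
                _ = x * w⁻¹ * (c * w) := by group
                _ = x * c * z := by rw [hcw']; group
            have e4 : u * x = x * u * z := by
              rw [e, mul_assoc, h.z_sq, mul_one]
            calc c * u * x = c * (u * x) := by group
              _ = c * x * u * z := by rw [e4]; group
              _ = x * c * (z * u) * z := by rw [e3]; group
              _ = x * c * (u * z) * z := by rw [hzc u hu]
              _ = x * (c * u) * (z * z) := by group
              _ = _ := by rw [h.z_sq, mul_one]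
        rcases h.cent _ (Q.mul_mem hcQ hu) key with e | e
        · have : c = u⁻¹ := eq_inv_of_mul_eq_one_left e
          rw [this]
          exact (Commute.inv_right (show Commute n u from hnu)).eq
        · have : c = z * u⁻¹ := by rw [← e]; group
          rw [this]
          exact ((show Commute n z from hnz).mul_right (Commute.inv_right (show Commute n u from hnu))).eq
    have hpow : ∀ i : ℕ, n ^ i * y = y * c ^ i * n ^ i := by
      intro i
      induction i with
      | zero => simp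
      | succ i ih =>
        have e1 : n * y = y * c * n := by rw [hc]; group
        have e2 : n * c ^ i = c ^ i * n := ((show Commute n c from hcn).pow_right i).eq
        calc n ^ (i + 1) * y = n * (n ^ i * y) := by rw [pow_succ']; group
          _ = n * y * c ^ i * n ^ i := by rw [ih]; group
          _ = y * c * (n * c ^ i) * n ^ i := by rw [e1]; group
          _ = y * (c * c ^ i) * (n * n ^ i) := by rw [e2]; group
          _ = _ := by rw [← pow_succ', ← pow_succ']
    have h1 := hpow k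
    rw [hn, one_mul, mul_one] at h1
    have h2 : c ^ k = 1 := (mul_eq_left.1 h1.symm)
    have h3 : c = 1 := eq_one_of_odd (pow_four h hcQ) h2 hk
    have h4 : n * y = y * c * n := by rw [hc]; group
    rw [h4, h3, mul_one]
  have hnQ := h.self n hnz hall
  exact eq_one_of_odd (pow_four h hnQ) hn hk

/-! ### the centraliser of the product of two points, modulo this product -/

section

variable {G : Type*} [Group G]

/-- `C_G(u)` -/
abbrev Ku (u : G) : Subgroup G := Subgroup.centralizer {u}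

/-- `u` as an element of its centraliser -/
def uK (u : G) : Ku u := ⟨u, Subgroup.mem_centralizer_singleton_iff.2 rfl⟩

/-- `⟨u⟩ ≤ C_G(u)` -/
def Zu (u : G) : Subgroup (Ku u) := Subgroup.zpowers (uK u)

theorem comm_of_mem {u : G} (k : Ku u) : (k : G) * u = u * k :=
  Subgroup.mem_centralizer_singleton_iff.1 k.2

instance (u : G) : (Zu u).Normal := by
  constructor
  intro n hn g
  obtain ⟨i, rfl⟩ := Subgroup.mem_zpowers_iff.1 hn
  have h1 : Commute g (uK u) := by
    apply Subtype.ext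
    exact comm_of_mem g
  have h2 : g * uK u ^ i * g⁻¹ = uK u ^ i := by
    rw [(h1.zpow_right i).eq, mul_inv_cancel_right]
  rw [h2]; exact hn

theorem mem_Zu {u : G} (huu : u * u = 1) (x : Ku u) : x ∈ Zu u ↔ (x : G) = 1 ∨ (x : G) = u := by
  constructor
  · intro hx
    obtain ⟨i, rfl⟩ := Subgroup.mem_zpowers_iff.1 hx
    have e : ((uK u ^ i : Ku u) : G) = u ^ i := by
      rw [Subgroup.coe_zpow]; rfl
    rw [e]
    have h2 : u ^ (2 : ℤ) = 1 := by
      rw [zpow_ofNat, pow_two]; exact huu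
    rcases Int.even_or_odd' i with ⟨j, hj | hj⟩
    · left; rw [hj, zpow_mul, h2, one_zpow]
    · right; rw [hj, zpow_add, zpow_mul, h2, one_zpow, one_mul, zpow_one]
  · rintro (hx | hx)
    · have : x = 1 := Subtype.ext hx
      rw [this]; exact Subgroup.one_mem _
    · have : x = uK u := Subtype.ext hx
      rw [this]; exact Subgroup.mem_zpowers _

theorem mk_eq_mk {u : G} (huu : u * u = 1) {x y : Ku u} :
    (QuotientGroup.mk x : Ku u ⧸ Zu u) = QuotientGroup.mk y ↔ (y : G) = x ∨ (y : G) = x * u := by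
  rw [QuotientGroup.eq, mem_Zu huu]
  constructor
  · rintro (h | h)
    · left
      have : (x : G)⁻¹ * y = 1 := h
      exact (inv_mul_eq_one.1 this).symm
    · right
      have : (x : G)⁻¹ * y = u := h
      exact inv_mul_eq_iff_eq_mul.1 this
  · rintro (h | h)
    · left
      show (x : G)⁻¹ * y = 1
      rw [h]; group
    · right
      show (x : G)⁻¹ * y = u
      rw [h]; group

variable {P : Set G} {Q : G → Subgroup G}

theorem IsLine.sq_mul (hg : Geo P Q) {p t r₁ r₂ r₃ : G} (h : IsLine P p t r₁ r₂ r₃) :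
    (p * t) * (p * t) = 1 := by
  have e : (p * t) * (p * t) = (p * p) * (t * t) := by
    rw [mul_assoc p t, ← mul_assoc t p, ← h.cpt.eq, mul_assoc p t, ← mul_assoc p p]
  rw [e, hg.sq h.hp, hg.sq h.ht, one_mul]

theorem IsLine.comm_r {p t r₁ r₂ r₃ : G} (h : IsLine P p t r₁ r₂ r₃) : Commute r₁ (p * t) :=
  h.cp1.symm.mul_right h.ct1.symm

/-- `r₁` has no fixed points in a normal subgroup of odd order of `C(u)/⟨u⟩`, `u = p t`. -/
theorem IsLine.fpf (hg : Geo P Q) {p t r₁ r₂ r₃ : G} (h : IsLine P p t r₁ r₂ r₃)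
    (M : Subgroup (Ku (p * t) ⧸ Zu (p * t))) [M.Normal] (hodd : Odd (Nat.card M))
    (rk : Ku (p * t)) (hrk : (rk : G) = r₁)
    (m : Ku (p * t) ⧸ Zu (p * t)) (hm : m ∈ M)
    (hfix : (QuotientGroup.mk rk : Ku (p * t) ⧸ Zu (p * t)) * m = m * QuotientGroup.mk rk) : m = 1 := by
  classical
  have huu := h.sq_mul hg
  obtain ⟨n, rfl⟩ := QuotientGroup.mk_surjective m
  have hk : ((QuotientGroup.mk n : Ku (p * t) ⧸ Zu (p * t))) ^ (Nat.card M) = 1 := by
    have : (⟨_, hm⟩ : M) ^ (Nat.card M) = 1 := pow_card_eq_one'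
    exact congrArg Subtype.val this
  set k := Nat.card M with hkdef
  -- `n' = n ^ 2` has odd order
  have hnk : (n ^ 2) ^ k = 1 := by
    have h1 : n ^ k ∈ Zu (p * t) := (QuotientGroup.eq_one_iff _).1 (by rw [← hk]; rfl)
    have h2 : n ^ k * n ^ k = 1 := by
      apply Subtype.ext
      show ((n ^ k : Ku (p * t)) : G) * (n ^ k : Ku (p * t)) = 1
      rcases (mem_Zu huu _).1 h1 with e | e <;> rw [e]
      · exact one_mul 1
      · exact huu
    rw [← pow_mul, mul_comm, pow_mul, pow_two]; exact h2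
  set n' : Ku (p * t) := n ^ 2 with hn'
  have hm' : (QuotientGroup.mk n' : Ku (p * t) ⧸ Zu (p * t)) ∈ M := by
    have : (QuotientGroup.mk n' : Ku (p * t) ⧸ Zu (p * t)) = (QuotientGroup.mk n) ^ 2 := rfl
    rw [this]; exact M.pow_mem hm 2
  have hfix' : (QuotientGroup.mk rk : Ku (p * t) ⧸ Zu (p * t)) * QuotientGroup.mk n' =
      QuotientGroup.mk n' * QuotientGroup.mk rk := by
    have e : (QuotientGroup.mk n' : Ku (p * t) ⧸ Zu (p * t)) = (QuotientGroup.mk n) ^ 2 := rfl
    rw [e]
    exact ((show Commute _ _ from hfix).pow_right 2).eq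
  -- `n'` commutes with `r₁`
  have hr : (n' : G) * r₁ = r₁ * n' := by
    have h1 : (QuotientGroup.mk (rk * n') : Ku (p * t) ⧸ Zu (p * t)) = QuotientGroup.mk (n' * rk) := hfix'
    rcases (mk_eq_mk huu).1 h1 with e | e
    · have : (n' : G) * rk = rk * n' := e
      rw [hrk] at this; exact this
    · exfalso
      have e1 : (n' : G) * rk = rk * n' * (p * t) := e
      rw [hrk] at e1
      have e2 : (n' : G) * r₁ * (n' : G)⁻¹ = r₁ * (p * t) := by
        rw [e1, mul_assoc r₁, comm_of_mem n']; group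
      have e3 := hg.conj_mem r₁ h.h1 n'
      rw [e2] at e3
      exact h.mul_notMem hg e3
  have hu1 : p * t ∈ Q r₁ := hg.mul_mem p h.hp t h.ht r₁ h.h1 h.pt h.p1 h.t1 h.cpt h.cp1 h.ct1
  have hL := hg.large r₁ h.h1
  have hnk' : (n' : G) ^ k = 1 := by
    have := congrArg (fun x : Ku (p * t) => (x : G)) hnk
    simpa using this
  have hY : ∀ x ∈ Q r₁, x * (p * t) = (p * t) * x → (n' : G) * x = x * n' := by
    intro x hx hxu
    set xk : Ku (p * t) := ⟨x, Subgroup.mem_centralizer_singleton_iff.2 hxu⟩ with hxk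
    have hcQ : (n' : G) * x * (n' : G)⁻¹ * x⁻¹ ∈ Q r₁ :=
      (Q r₁).mul_mem (hL.conj_mem _ hr x hx) ((Q r₁).inv_mem hx)
    have hcM : (QuotientGroup.mk (n' * xk * n'⁻¹ * xk⁻¹) : Ku (p * t) ⧸ Zu (p * t)) ∈ M := by
      have h1 : (QuotientGroup.mk (n' * xk * n'⁻¹ * xk⁻¹) : Ku (p * t) ⧸ Zu (p * t)) =
        QuotientGroup.mk n' * (QuotientGroup.mk xk * (QuotientGroup.mk n')⁻¹ * (QuotientGroup.mk xk)⁻¹) := by
        rw [← mul_assoc, ← mul_assoc]; rfl
      rw [h1]
      exact M.mul_mem hm' (‹M.Normal›.conj_mem _ (M.inv_mem hm') _)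
    have hc4 : (QuotientGroup.mk (n' * xk * n'⁻¹ * xk⁻¹) : Ku (p * t) ⧸ Zu (p * t)) ^ 4 = 1 := by
      have h1 : (n' * xk * n'⁻¹ * xk⁻¹) ^ 4 = 1 := by
        apply Subtype.ext
        have := pow_four hL hcQ
        simpa using this
      have h2 : (QuotientGroup.mk (n' * xk * n'⁻¹ * xk⁻¹) : Ku (p * t) ⧸ Zu (p * t)) ^ 4 =
        QuotientGroup.mk ((n' * xk * n'⁻¹ * xk⁻¹) ^ 4) := rfl
      rw [h2, h1]; rfl
    have hck : (QuotientGroup.mk (n' * xk * n'⁻¹ * xk⁻¹) : Ku (p * t) ⧸ Zu (p * t)) ^ k = 1 := by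
      have : (⟨_, hcM⟩ : M) ^ (Nat.card M) = 1 := pow_card_eq_one'
      exact congrArg Subtype.val this
    have hc1 := eq_one_of_odd hc4 hck hodd
    have hcZ : n' * xk * n'⁻¹ * xk⁻¹ ∈ Zu (p * t) := (QuotientGroup.eq_one_iff _).1 hc1
    -- `n' x = x n'` or `n' x = x n' u`
    rcases (mem_Zu huu _).1 hcZ with e | e
    · have e1 : (n' : G) * x * (n' : G)⁻¹ * x⁻¹ = 1 := e
      have : (n' : G) * x = ((n' : G) * x * (n' : G)⁻¹ * x⁻¹) * (x * n') := by group
      rw [this, e1, one_mul]
    · exfalso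
      have e1 : (n' : G) * x * (n' : G)⁻¹ * x⁻¹ = p * t := e
      have e2 : (n' : G) * x = (p * t) * x * n' :=
        mul_inv_eq_iff_eq_mul.1 (mul_inv_eq_iff_eq_mul.1 e1)
      have hpow : ∀ i : ℕ, (n' : G) ^ i * x = (p * t) ^ i * x * (n' : G) ^ i := by
        intro i
        induction i with
        | zero => simp
        | succ i ih =>
          have c1 : (n' : G) * (p * t) ^ i = (p * t) ^ i * n' :=
            ((show Commute (n' : G) (p * t) from comm_of_mem n').pow_right i).eq
          calc (n' : G) ^ (i + 1) * x = n' * ((n' : G) ^ i * x) := by rw [pow_succ']; group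
            _ = (n' * (p * t) ^ i) * x * (n' : G) ^ i := by rw [ih]; group
            _ = (p * t) ^ i * (n' * x) * (n' : G) ^ i := by rw [c1]; group
            _ = (p * t) ^ i * (p * t) * x * (n' * (n' : G) ^ i) := by rw [e2]; group
            _ = _ := by rw [← pow_succ, ← pow_succ']
      have h1 := hpow k
      rw [hnk', one_mul, mul_one] at h1
      have h2 : (p * t) ^ k = 1 := (right_eq_mul.1 h1)
      have h3 : (p * t) ^ 4 = 1 := pow_four hL hu1
      have h4 := eq_one_of_odd h3 h2 hodd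
      exact h.pt (by rw [← hg.inv h.ht]; exact eq_inv_of_mul_eq_one_left h4)
  have h1 : (n' : G) = 1 := eq_one_of_centralizes hL hu1 hr (comm_of_mem n') hY hodd hnk'
  have h2 : n' = 1 := Subtype.ext h1
  -- `n ^ 2 = 1` and odd order of `m`
  have h3 : (QuotientGroup.mk n : Ku (p * t) ⧸ Zu (p * t)) ^ 4 = 1 := by
    have e : (QuotientGroup.mk n : Ku (p * t) ⧸ Zu (p * t)) ^ 4 = QuotientGroup.mk ((n ^ 2) ^ 2) := by
      rw [← pow_mul]; rfl
    rw [e, ← hn', h2, one_pow]; rfl
  exact eq_one_of_odd h3 hk hodd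

/-- an involution acting without fixed points on a normal subgroup of odd order inverts it -/
theorem inverts {X : Type*} [Group X] [Finite X] (M : Subgroup X) [M.Normal]
    (r : X) (hr : r * r = 1) (hf : ∀ m ∈ M, r * m = m * r → m = 1) (m : X) (hm : m ∈ M) :
    r * m * r⁻¹ = m⁻¹ := by
  let φ : M →* M := (MulAut.conjNormal r : MulAut M).toMonoidHom
  have hφ : ∀ x : M, ((φ x : M) : X) = r * x * r⁻¹ := fun x => MulAut.conjNormal_apply r x
  have h1 : MonoidHom.FixedPointFree φ := by
    intro x hx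
    apply Subtype.ext
    apply hf x x.2
    have := congrArg Subtype.val hx
    rw [hφ] at this
    exact mul_inv_eq_iff_eq_mul.1 this
  have hinv : r⁻¹ = r := inv_eq_of_mul_eq_one_left hr
  have h2 : Function.Involutive φ := by
    intro x
    apply Subtype.ext
    rw [hφ, hφ, hinv]
    calc r * (r * (x : X) * r) * r = (r * r) * x * (r * r) := by group
      _ = x := by rw [hr, one_mul, mul_one]
  have h3 := h1.coe_eq_inv_of_involutive h2
  have h4 := congrArg Subtype.val (congrFun h3 ⟨m, hm⟩)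
  rw [hφ] at h4
  exact h4

/-- `C(u)/⟨u⟩` has no normal subgroups of odd order, `u = p t`. -/
theorem IsLine.core_trivial [Finite G] (hg : Geo P Q) {p t r₁ r₂ r₃ : G} (h : IsLine P p t r₁ r₂ r₃)
    (M : Subgroup (Ku (p * t) ⧸ Zu (p * t))) [M.Normal] (hodd : Odd (Nat.card M))
    (m : Ku (p * t) ⧸ Zu (p * t)) (hm : m ∈ M) : m = 1 := by
  classical
  have huu := h.sq_mul hg
  have hc1 : r₁ ∈ Ku (p * t) := Subgroup.mem_centralizer_singleton_iff.2 h.comm_r.eq
  have hc2 : r₂ ∈ Ku (p * t) := Subgroup.mem_centralizer_singleton_iff.2 h.rot.comm_r.eq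
  have hc3 : r₃ ∈ Ku (p * t) := Subgroup.mem_centralizer_singleton_iff.2 h.rot.rot.comm_r.eq
  have hsq : ∀ (r : G) (hr : r ∈ Ku (p * t)), r * r = 1 →
      (QuotientGroup.mk (⟨r, hr⟩ : Ku (p * t)) : Ku (p * t) ⧸ Zu (p * t)) * QuotientGroup.mk ⟨r, hr⟩ = 1 := by
    intro r hr hrr
    have e : (⟨r, hr⟩ : Ku (p * t)) * ⟨r, hr⟩ = 1 := Subtype.ext hrr
    have e2 : (QuotientGroup.mk (⟨r, hr⟩ : Ku (p * t)) : Ku (p * t) ⧸ Zu (p * t)) *
      QuotientGroup.mk ⟨r, hr⟩ = QuotientGroup.mk ((⟨r, hr⟩ : Ku (p * t)) * ⟨r, hr⟩) := rfl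
    rw [e2, e]; rfl
  have i1 := fun x hx => inverts M (QuotientGroup.mk (⟨r₁, hc1⟩ : Ku (p * t)))
    (hsq r₁ hc1 (hg.sq h.h1)) (fun m hm hf => h.fpf hg M hodd ⟨r₁, hc1⟩ rfl m hm hf) x hx
  have i2 := fun x hx => inverts M (QuotientGroup.mk (⟨r₂, hc2⟩ : Ku (p * t)))
    (hsq r₂ hc2 (hg.sq h.h2)) (fun m hm hf => h.rot.fpf hg M hodd ⟨r₂, hc2⟩ rfl m hm hf) x hx
  have i3 := fun x hx => inverts M (QuotientGroup.mk (⟨r₃, hc3⟩ : Ku (p * t)))
    (hsq r₃ hc3 (hg.sq h.h3)) (fun m hm hf => h.rot.rot.fpf hg M hodd ⟨r₃, hc3⟩ rfl m hm hf) x hx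
  have hprod : (QuotientGroup.mk (⟨r₁, hc1⟩ : Ku (p * t)) : Ku (p * t) ⧸ Zu (p * t)) *
      QuotientGroup.mk ⟨r₂, hc2⟩ * QuotientGroup.mk ⟨r₃, hc3⟩ = 1 := by
    have e : (QuotientGroup.mk (⟨r₁, hc1⟩ : Ku (p * t)) : Ku (p * t) ⧸ Zu (p * t)) *
      QuotientGroup.mk ⟨r₂, hc2⟩ * QuotientGroup.mk ⟨r₃, hc3⟩ =
      QuotientGroup.mk ((⟨r₁, hc1⟩ : Ku (p * t)) * ⟨r₂, hc2⟩ * ⟨r₃, hc3⟩) := rfl
    rw [e, QuotientGroup.eq_one_iff, mem_Zu huu]
    right
    show r₁ * r₂ * r₃ = p * t
    exact (h.eq_mul hg).symm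
  set a := (QuotientGroup.mk (⟨r₁, hc1⟩ : Ku (p * t)) : Ku (p * t) ⧸ Zu (p * t))
  set b := (QuotientGroup.mk (⟨r₂, hc2⟩ : Ku (p * t)) : Ku (p * t) ⧸ Zu (p * t))
  set c := (QuotientGroup.mk (⟨r₃, hc3⟩ : Ku (p * t)) : Ku (p * t) ⧸ Zu (p * t))
  have e1 : (a * b * c) * m * (a * b * c)⁻¹ = m⁻¹ := by
    calc (a * b * c) * m * (a * b * c)⁻¹ = a * (b * (c * m * c⁻¹) * b⁻¹) * a⁻¹ := by group
      _ = a * (b * m⁻¹ * b⁻¹) * a⁻¹ := by rw [i3 m hm]
      _ = a * m * a⁻¹ := by rw [i2 _ (M.inv_mem hm), inv_inv]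
      _ = m⁻¹ := i1 m hm
  rw [hprod] at e1
  have e2 : m = m⁻¹ := by
    rw [← e1]; group
  have e3 : m ^ 4 = 1 := by
    have : m * m = 1 := by
      nth_rewrite 1 [e2]; exact inv_mul_cancel m
    calc m ^ 4 = (m * m) * (m * m) := by simp only [pow_succ, pow_zero, one_mul, mul_assoc]
      _ = 1 := by rw [this, one_mul]
  have e4 : m ^ (Nat.card M) = 1 := by
    have : (⟨_, hm⟩ : M) ^ (Nat.card M) = 1 := pow_card_eq_one'
    exact congrArg Subtype.val this
  exact eq_one_of_odd e3 e4 hodd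

end

/-- (B1) `P ∩ C(p t)` consists of the points of the line `p t`. -/
theorem Geo.comm_of_comm_mul {G : Type u} [Group G] [Finite G] {P : Set G} {Q : G → Subgroup G}
    (hZ : ZStar.{u}) (hg : Geo P Q) {p t s : G} (hp : p ∈ P) (ht : t ∈ P) (hne : p ≠ t)
    (hc : Commute p t) (hs : s ∈ P) (hsu : Commute s (p * t)) : Commute s p := by
  classical
  obtain ⟨r₁, r₂, r₃, h⟩ := hg.isLine hp ht hne hc
  have huu := h.sq_mul hg
  have hpK : p ∈ Ku (p * t) := by
    refine Subgroup.mem_centralizer_singleton_iff.2 ?_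
    exact ((Commute.refl p).mul_right hc).eq
  have hsK : s ∈ Ku (p * t) := Subgroup.mem_centralizer_singleton_iff.2 hsu.eq
  set pk : Ku (p * t) := ⟨p, hpK⟩ with hpk
  -- a member of `P` commuting with `p` modulo `⟨p t⟩` commutes with `p`
  have key : ∀ x : Ku (p * t), (x : G) ∈ P →
      (QuotientGroup.mk (pk * x) : Ku (p * t) ⧸ Zu (p * t)) = QuotientGroup.mk (x * pk) →
      Commute (x : G) p := by
    intro x hx hcx
    rcases (mk_eq_mk huu).1 hcx with e | e
    · exact e
    · exfalso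
      have e1 : (x : G) * p = p * x * (p * t) := e
      apply hg.not_swap hp ht hne hc hx
      have hxx := hg.sq hx
      calc (x : G) * p * x = p * x * (p * t) * x := by rw [e1]
        _ = p * (x * ((p * t) * x)) := by group
        _ = p * (x * (x * (p * t))) := by rw [comm_of_mem x]
        _ = p * ((x * x) * (p * t)) := by group
        _ = (p * p) * t := by rw [hxx]; group
        _ = t := by rw [hg.sq hp, one_mul]
  have hiso : Cfsg.IsIsolatedInvolution (QuotientGroup.mk pk : Ku (p * t) ⧸ Zu (p * t)) := by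
    constructor
    · have h1 : (QuotientGroup.mk pk : Ku (p * t) ⧸ Zu (p * t)) ^ 2 = 1 := by
        have e : (QuotientGroup.mk pk : Ku (p * t) ⧸ Zu (p * t)) ^ 2 = QuotientGroup.mk (pk ^ 2) := rfl
        have e2 : pk ^ 2 = 1 := by
          apply Subtype.ext
          show p ^ 2 = 1
          rw [pow_two]; exact hg.sq hp
        rw [e, e2]; rfl
      refine orderOf_eq_prime h1 ?_
      intro h2
      rw [QuotientGroup.eq_one_iff, mem_Zu huu] at h2
      rcases h2 with h3 | h3
      · exact hg.ne_one hp h3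
      · have h4 : p = p * t := h3
        exact hg.ne_one ht (left_eq_mul.1 h4)
    · intro g hgc
      obtain ⟨k, rfl⟩ := QuotientGroup.mk_surjective g
      have hx : (((k * pk * k⁻¹ : Ku (p * t))) : G) ∈ P := hg.conj_mem p hp k
      have hcc : Commute ((k * pk * k⁻¹ : Ku (p * t)) : G) p := key _ hx hgc
      have ht' : (k : G) * t * (k : G)⁻¹ ∈ P := hg.conj_mem t ht k
      have hprod : (k : G) * p * (k : G)⁻¹ * ((k : G) * t * (k : G)⁻¹) = p * t := by
        calc (k : G) * p * (k : G)⁻¹ * ((k : G) * t * (k : G)⁻¹) = (k * (p * t)) * (k : G)⁻¹ := by group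
          _ = p * t := by rw [comm_of_mem k]; group
      have e0 : (QuotientGroup.mk k * QuotientGroup.mk pk * (QuotientGroup.mk k)⁻¹ :
        Ku (p * t) ⧸ Zu (p * t)) = QuotientGroup.mk (k * pk * k⁻¹) := rfl
      rw [e0, mk_eq_mk huu]
      rcases hg.eq_or_eq hp ht hne hc hx ht' hprod hcc with e | e
      · left; exact e.symm
      · right
        rw [e]
        calc p = (t * t) * p := by rw [hg.sq ht, one_mul]
          _ = t * (p * t) := by rw [mul_assoc, hc.eq]
  obtain ⟨N, hN, hodd, hcom⟩ := hZ _ _ hiso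
  apply key ⟨s, hsK⟩ hs
  have h1 := h.core_trivial hg N hodd _ (hcom (QuotientGroup.mk ⟨s, hsK⟩))
  rw [mul_inv_eq_one, mul_inv_eq_iff_eq_mul] at h1
  exact h1


end Cfsg.Agent.LargeExtra.WCEnd
end

-- part: LargeExtra/WCEndB
section
/-!
# Endgame of the weakly closed case, part two (helper622): 3-transpositions

* `Geo.odd_order`: noncommuting elements of `P` have a product of odd order;
* `Geo.meets`: every element of `P` commutes with a point of every line;
* `Geo.three`: noncommuting elements of `P` have a product of order three.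
-/

set_option autoImplicit false

namespace Cfsg.Agent.LargeExtra.WCEnd

open Cfsg.Agent.Co2Type.Quad Cfsg.Agent.LargeExtra.WC

universe u

section

variable {G : Type*} [Group G] {P : Set G} {Q : G → Subgroup G}

/-- An element of order two swapping two points of a line fixes another point of the line. -/
theorem Geo.exists_fix (hg : Geo P Q) {p t s : G} (hp : p ∈ P) (ht : t ∈ P) (hne : p ≠ t)
    (hc : Commute p t) (hss : s * s = 1) (hst : s * p * s = t) :
    ∃ r ∈ P, r ≠ p ∧ r ≠ t ∧ Commute p r ∧ Commute t r ∧ s * r * s = r := by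
  obtain ⟨r₁, r₂, r₃, h⟩ := hg.isLine hp ht hne hc
  have hsi : s⁻¹ = s := inv_eq_of_mul_eq_one_left hss
  have hts : s * t * s = p := by
    rw [← hst]
    calc s * (s * p * s) * s = (s * s) * p * (s * s) := by group
      _ = p := by rw [hss]; group
  have hcc : ∀ x y : G, Commute x y → Commute (s * x * s) (s * y * s) := by
    intro x y hxy
    show s * x * s * (s * y * s) = s * y * s * (s * x * s)
    calc s * x * s * (s * y * s) = s * x * (s * s) * y * s := by group
      _ = s * (x * y) * s := by rw [hss]; group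
      _ = s * (y * x) * s := by rw [hxy.eq]
      _ = s * y * (s * s) * x * s := by rw [hss]; group
      _ = _ := by group
  have hinj : ∀ x y : G, s * x * s = y → s * y * s = x := by
    rintro x y rfl
    calc s * (s * x * s) * s = (s * s) * x * (s * s) := by group
      _ = x := by rw [hss]; group
  have himg : ∀ r ∈ P, r ≠ p → r ≠ t → Commute p r → Commute t r →
      s * r * s = r₁ ∨ s * r * s = r₂ ∨ s * r * s = r₃ := by
    intro r hr hrp hrt c1 c2
    have m1 : s * r * s ∈ P := by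
      have := hg.conj_mem r hr s
      rwa [hsi] at this
    have d1 : Commute (s * r * s) t := by
      have := (hcc p r c1).symm
      rwa [hst] at this
    have d2 : Commute (s * r * s) p := by
      have := (hcc t r c2).symm
      rwa [hts] at this
    rcases h.mem _ m1 d2 d1 with e | e | e | e | e
    · exact absurd ((hinj _ _ e).symm.trans hst) hrt
    · exact absurd ((hinj _ _ e).symm.trans hts) hrp
    · exact Or.inl e
    · exact Or.inr (Or.inl e)
    · exact Or.inr (Or.inr e)
  have i1 := himg r₁ h.h1 h.p1.symm h.t1.symm h.cp1 h.ct1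
  have i2 := himg r₂ h.h2 h.p2.symm h.t2.symm h.cp2 h.ct2
  have i3 := himg r₃ h.h3 h.p3.symm h.t3.symm h.cp3 h.ct3
  by_cases f1 : s * r₁ * s = r₁
  · exact ⟨r₁, h.h1, h.p1.symm, h.t1.symm, h.cp1, h.ct1, f1⟩
  by_cases f2 : s * r₂ * s = r₂
  · exact ⟨r₂, h.h2, h.p2.symm, h.t2.symm, h.cp2, h.ct2, f2⟩
  by_cases f3 : s * r₃ * s = r₃
  · exact ⟨r₃, h.h3, h.p3.symm, h.t3.symm, h.cp3, h.ct3, f3⟩
  exfalso
  rcases i1 with e | e | e
  · exact f1 e
  · rcases i3 with e' | e' | e'
    · exact h.n23 (e.symm.trans (hinj _ _ e'))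
    · exact h.n13 ((hinj _ _ e).symm.trans (hinj _ _ e'))
    · exact f3 e'
  · rcases i2 with e' | e' | e'
    · exact h.n23 ((hinj _ _ e').symm.trans e)
    · exact f2 e'
    · exact h.n12 ((hinj _ _ e).symm.trans (hinj _ _ e'))

/-- the reflections of the dihedral group generated by two elements of `P` are in `P` -/
theorem Geo.refl_mem (hg : Geo P Q) {z s : G} (hz : z ∈ P) (hs : s ∈ P) :
    ∀ i : ℕ, z * (z * s) ^ i ∈ P := by
  have hzz := hg.sq hz
  have step : ∀ i : ℕ, z * (z * s) ^ i ∈ P → z * (z * s) ^ (i + 2) ∈ P := by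
    intro i hi
    have h1 := hg.conj_mem _ hi (z * s)⁻¹
    have e : (z * s)⁻¹ * (z * (z * s) ^ i) * (z * s)⁻¹⁻¹ = z * (z * s) ^ (i + 2) := by
      rw [inv_inv, mul_inv_rev, hg.inv hz, hg.inv hs]
      calc s * z * (z * (z * s) ^ i) * (z * s) = s * (z * z) * ((z * s) ^ i * (z * s)) := by group
        _ = s * (z * s) ^ (i + 1) := by rw [hzz, mul_one, ← pow_succ]
        _ = (z * z) * s * (z * s) ^ (i + 1) := by rw [hzz, one_mul]
        _ = z * ((z * s) * (z * s) ^ (i + 1)) := by simp only [mul_assoc]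
        _ = z * (z * s) ^ (i + 2) := by rw [← pow_succ']
    rwa [e] at h1
  intro i
  induction i using Nat.twoStepInduction with
  | zero => simpa using hz
  | one =>
    rw [pow_one, ← mul_assoc, hzz, one_mul]; exact hs
  | more i h0 _ => exact step i h0

theorem conj_pow_eq {z s : G} (hz : z * z = 1) (hs : s * s = 1) (i : ℕ) :
    z * (z * s) ^ i * z = ((z * s) ^ i)⁻¹ ∧ s * (z * s) ^ i * s = ((z * s) ^ i)⁻¹ := by
  have hzi : z⁻¹ = z := inv_eq_of_mul_eq_one_left hz
  have hsi : s⁻¹ = s := inv_eq_of_mul_eq_one_left hs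
  have h1 : z * (z * s) * z⁻¹ = (z * s)⁻¹ := by
    rw [mul_inv_rev, hsi, hzi, ← mul_assoc, hz, one_mul]
  have h2 : s * (z * s) * s⁻¹ = (z * s)⁻¹ := by
    rw [mul_inv_rev, hsi, hzi, mul_assoc s (z * s), mul_assoc z, hs, mul_one]
  constructor
  · calc z * (z * s) ^ i * z = z * (z * s) ^ i * z⁻¹ := by rw [hzi]
      _ = (z * (z * s) * z⁻¹) ^ i := by rw [conj_pow]
      _ = _ := by rw [h1, inv_pow]
  · calc s * (z * s) ^ i * s = s * (z * s) ^ i * s⁻¹ := by rw [hsi]
      _ = (s * (z * s) * s⁻¹) ^ i := by rw [conj_pow]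
      _ = _ := by rw [h2, inv_pow]

end

section

variable {G : Type u} [Group G] [Finite G] {P : Set G} {Q : G → Subgroup G}

/-- Noncommuting elements of `P` have a product of odd order. -/
theorem Geo.odd_order (hZ : ZStar.{u}) (hg : Geo P Q) {z s : G} (hz : z ∈ P) (hs : s ∈ P)
    (hnc : ¬ Commute z s) : Odd (orderOf (z * s)) := by
  rw [← Nat.not_even_iff_odd]
  rintro ⟨m, hm⟩
  apply hnc
  have hpos : 0 < orderOf (z * s) := orderOf_pos _
  set j := (z * s) ^ m with hj
  have hjj : j * j = 1 := by rw [hj, ← pow_add, ← hm, pow_orderOf_eq_one]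
  have hj1 : j ≠ 1 := by
    intro h
    have := orderOf_dvd_of_pow_eq_one h
    have := Nat.le_of_dvd (by omega) this
    omega
  have hji : j⁻¹ = j := inv_eq_of_mul_eq_one_left hjj
  obtain ⟨c1, c2⟩ := conj_pow_eq (hg.sq hz) (hg.sq hs) m
  rw [← hj, hji] at c1 c2
  have czj : Commute z j := by
    show z * j = j * z
    calc z * j = (z * j * z) * z⁻¹ := by group
      _ = j * z := by rw [c1, hg.inv hz]
  have csj : Commute s j := by
    show s * j = j * s
    calc s * j = (s * j * s) * s⁻¹ := by group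
      _ = j * s := by rw [c2, hg.inv hs]
  have ht : z * j ∈ P := hg.refl_mem hz hs m
  have hne : z ≠ z * j := by
    intro h
    exact hj1 (left_eq_mul.1 h)
  have hc : Commute z (z * j) := (Commute.refl z).mul_right czj
  have hprod : z * (z * j) = j := by rw [← mul_assoc, hg.sq hz, one_mul]
  exact (hg.comm_of_comm_mul hZ hz ht hne hc hs (by rw [hprod]; exact csj)).symm

/-- Both points commute with an element of `P` which commutes with the product. -/
theorem Geo.comm_both (hZ : ZStar.{u}) (hg : Geo P Q) {p t s : G} (hp : p ∈ P) (ht : t ∈ P) (hne : p ≠ t)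
    (hc : Commute p t) (hs : s ∈ P) (hsu : Commute s (p * t)) : Commute s p ∧ Commute s t :=
  ⟨hg.comm_of_comm_mul hZ hp ht hne hc hs hsu,
    hg.comm_of_comm_mul hZ ht hp hne.symm hc.symm hs (by rw [← hc.eq]; exact hsu)⟩

/-- Every element of `P` commutes with a point of every line. -/
theorem Geo.meets (hZ : ZStar.{u}) (hg : Geo P Q) {p t s : G} (hp : p ∈ P) (ht : t ∈ P) (hne : p ≠ t)
    (hc : Commute p t) (hs : s ∈ P) : ∃ r ∈ P, Commute r p ∧ Commute r t ∧ Commute r s := by
  obtain ⟨r₁, r₂, r₃, h⟩ := hg.isLine hp ht hne hc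
  have huu := h.sq_mul hg
  set u := p * t with hu
  have hui : u⁻¹ = u := inv_eq_of_mul_eq_one_left huu
  by_cases hsu : Commute s u
  · exact ⟨p, hp, Commute.refl p, hc, (hg.comm_of_comm_mul hZ hp ht hne hc hs hsu).symm⟩
  have hs' : u * s * u ∈ P := by
    have := hg.conj_mem s hs u
    rwa [hui] at this
  have hss' : s ≠ u * s * u := by
    intro e
    apply hsu
    show s * u = u * s
    calc s * u = (u * s * u) * u := by rw [← e]
      _ = u * s * (u * u) := by group
      _ = u * s := by rw [huu, mul_one]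
  by_cases hcs : Commute s (u * s * u)
  · obtain ⟨r, hr, -, -, c1, -, hf⟩ := hg.exists_fix hs hs' hss' hcs huu rfl
    have cru : Commute r u := by
      show r * u = u * r
      calc r * u = (u * r * u) * u := by rw [hf]
        _ = u * r * (u * u) := by group
        _ = u * r := by rw [huu, mul_one]
    obtain ⟨d1, d2⟩ := hg.comm_both hZ hp ht hne hc hr cru
    exact ⟨r, hr, d1, d2, c1.symm⟩
  · obtain ⟨k, hk⟩ := hg.odd_order hZ hs hs' hcs
    have e0 : s * (u * s * u) = (s * u) ^ 2 := by rw [pow_two]; group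
    rw [e0] at hk
    set j := (s * u) ^ (2 * k + 1) with hj
    have hjj : j * j = 1 := by
      rw [hj, ← pow_two, ← pow_mul, mul_comm, pow_mul, ← hk, pow_orderOf_eq_one]
    have hji : j⁻¹ = j := inv_eq_of_mul_eq_one_left hjj
    obtain ⟨c1, c2⟩ := conj_pow_eq (hg.sq hs) huu (2 * k + 1)
    rw [← hj, hji] at c1 c2
    have csj : Commute s j := by
      show s * j = j * s
      calc s * j = (s * j * s) * s⁻¹ := by group
        _ = j * s := by rw [c1, hg.inv hs]
    have cuj : Commute u j := by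
      show u * j = j * u
      calc u * j = (u * j * u) * u⁻¹ := by group
        _ = j * u := by rw [c2, hui]
    have hv : ∀ i : ℕ, u * (s * u) ^ (2 * i + 1) ∈ P := by
      intro i
      induction i with
      | zero =>
        have e : u * (s * u) ^ (2 * 0 + 1) = u * s * u := by
          rw [mul_zero, zero_add, pow_one]; group
        rw [e]; exact hs'
      | succ i ih =>
        have h1 := hg.conj_mem _ ih (s * u)⁻¹
        have e : (s * u)⁻¹ * (u * (s * u) ^ (2 * i + 1)) * (s * u)⁻¹⁻¹ =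
            u * (s * u) ^ (2 * (i + 1) + 1) := by
          rw [inv_inv, mul_inv_rev, hg.inv hs, hui]
          calc u * s * (u * (s * u) ^ (2 * i + 1)) * (s * u)
              = u * ((s * u) * ((s * u) ^ (2 * i + 1) * (s * u))) := by simp only [mul_assoc]
            _ = u * (s * u) ^ (2 * (i + 1) + 1) := by
                rw [← pow_succ, ← pow_succ', show 2 * i + 1 + 1 + 1 = 2 * (i + 1) + 1 from by ring]
        rwa [e] at h1
    have hvP := hv k
    rw [← hj] at hvP
    have cvu : Commute (u * j) u := (Commute.refl u).mul_left cuj.symm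
    obtain ⟨d1, d2⟩ := hg.comm_both hZ hp ht hne hc hvP cvu
    have hjv : j = u * (u * j) := by rw [← mul_assoc, huu, one_mul]
    rcases h.mem _ hvP d1 d2 with e | e | e | e | e
    · -- `v = p`, `j = t`
      have hjt : j = t := by
        rw [hjv, e, hu, mul_assoc, ← hc.eq, ← mul_assoc, hg.sq hp, one_mul]
      exact ⟨t, ht, hc.symm, Commute.refl t, by rw [← hjt]; exact csj.symm⟩
    · have hjp : j = p := by
        rw [hjv, e, hu, mul_assoc, hg.sq ht, mul_one]
      exact ⟨p, hp, Commute.refl p, hc, by rw [← hjp]; exact csj.symm⟩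
    · have hj2 : j = r₂ * r₃ := by
        rw [hjv, e, ← h.comm_r.eq, h.mul_eq hg]
      have h2 := hg.comm_of_comm_mul hZ h.h2 h.h3 h.n23 h.c23 hs (by rw [← hj2]; exact csj)
      exact ⟨r₂, h.h2, h.cp2.symm, h.ct2.symm, h2.symm⟩
    · have hj2 : j = r₃ * r₁ := by
        rw [hjv, e, ← h.rot.comm_r.eq, h.rot.mul_eq hg]
      have h2 := hg.comm_of_comm_mul hZ h.h3 h.h1 h.n13.symm h.c13.symm hs (by rw [← hj2]; exact csj)
      exact ⟨r₃, h.h3, h.cp3.symm, h.ct3.symm, h2.symm⟩
    · have hj2 : j = r₁ * r₂ := by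
        rw [hjv, e, ← h.rot.rot.comm_r.eq, h.rot.rot.mul_eq hg]
      have h2 := hg.comm_of_comm_mul hZ h.h1 h.h2 h.n12 h.c12 hs (by rw [← hj2]; exact csj)
      exact ⟨r₁, h.h1, h.cp1.symm, h.ct1.symm, h2.symm⟩

/-- `P` is a set of 3-transpositions. -/
theorem Geo.three (hZ : ZStar.{u}) (hg : Geo P Q) (hex : ∃ p ∈ P, ∃ t ∈ P, p ≠ t ∧ Commute p t)
    {x y : G} (hx : x ∈ P) (hy : y ∈ P) (hnc : ¬ Commute x y) : (x * y) ^ 3 = 1 := by
  obtain ⟨p, hp, t, ht, hne, hc⟩ := hex
  obtain ⟨g, hgx⟩ := hg.exists_conj p hp x hx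
  have ht' : g * t * g⁻¹ ∈ P := hg.conj_mem t ht g
  have hne' : x ≠ g * t * g⁻¹ := by
    rw [← hgx]
    intro h
    apply hne
    have := mul_right_cancel h
    exact mul_left_cancel this
  have hc' : Commute x (g * t * g⁻¹) := by
    rw [← hgx]
    show g * p * g⁻¹ * (g * t * g⁻¹) = g * t * g⁻¹ * (g * p * g⁻¹)
    calc g * p * g⁻¹ * (g * t * g⁻¹) = g * (p * t) * g⁻¹ := by group
      _ = g * (t * p) * g⁻¹ := by rw [hc.eq]
      _ = _ := by group
  obtain ⟨r, hr, c1, -, c3⟩ := hg.meets hZ hx ht' hne' hc' hy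
  obtain ⟨o1, -⟩ := hg.ord_three r hr x hx y hy c1.symm c3.symm hnc
  have h4 := pow_four (hg.large r hr) o1
  have hodd := hg.odd_order hZ hx hy hnc
  have h5 : ((x * y) ^ 3) ^ (orderOf (x * y)) = 1 := by
    rw [← pow_mul, mul_comm, pow_mul, pow_orderOf_eq_one, one_pow]
  exact eq_one_of_odd h4 h5 hodd

end

end Cfsg.Agent.LargeExtra.WCEnd
end

-- part: LargeExtra/WCEndSol
section
/-!
# Endgame of the weakly closed case, part three (helper622): solvability

`Geo.solvable_closure`: for `x ∈ P` the members of `P` commuting with `x` generate a solvable group.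
-/

set_option autoImplicit false

namespace Cfsg.Agent.LargeExtra.WCEnd

open Cfsg.Agent.Co2Type.Quad Cfsg.Agent.LargeExtra.WC

/-- A subgroup with solvable image and solvable kernel of the map is solvable. -/
theorem isSolvable_of_map {B B' : Type*} [Group B] [Group B'] (f : B →* B') (A : Subgroup B)
    (h1 : Group.IsSolvable f.ker) (h2 : Group.IsSolvable (A.map f)) : Group.IsSolvable A := by
  let i : (f.ker.subgroupOf A) →* A := (f.ker.subgroupOf A).subtype
  let g : A →* (A.map f) := f.subgroupMap A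
  have hk : Group.IsSolvable (f.ker.subgroupOf A) := by
    refine Group.isSolvable_of_isSolvable_injective
      (f := ((A.subtype.comp (f.ker.subgroupOf A).subtype).codRestrict f.ker fun x => x.2)) ?_
    intro x y hxy
    apply Subtype.ext
    apply Subtype.ext
    exact congrArg (fun t : f.ker => (t : B)) hxy
  refine Group.isSolvable_of_ker_le_range i g ?_
  intro x hx
  refine ⟨⟨x, ?_⟩, rfl⟩
  have h3 : g x = 1 := hx
  have h4 : f x = 1 := congrArg Subtype.val h3
  exact h4

theorem isSolvable_of_isPGroup {p : ℕ} [Fact p.Prime] {G : Type*} [Group G] [Finite G] (h : IsPGroup p G) :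
    Group.IsSolvable G := by
  have := h.isNilpotent
  infer_instance

section

variable {G : Type*} [Group G] [Finite G]

/-- A conjugation invariant set of involutions with products of order one or three generates a solvable
group. -/
theorem isSolvable_closure_hall {T : Set G} (hinv : ∀ a ∈ T, a * a = 1)
    (hconj : ∀ g : G, ∀ a ∈ T, g * a * g⁻¹ ∈ T) (h3 : ∀ a ∈ T, ∀ b ∈ T, (a * b) ^ 3 = 1) :
    Group.IsSolvable (Subgroup.closure T) := by
  classical
  have hf3 : Fact (Nat.Prime 3) := ⟨Nat.prime_three⟩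
  set S : Subgroup G := Subgroup.closure {x : G | ∃ a ∈ T, ∃ b ∈ T, x = a * b} with hS
  have hSp : IsPGroup 3 S := Cfsg.Agent.Lib.HallTriple.isPGroup_closure_mul_of_normal hinv hconj h3
  have hSn : S.Normal := by
    constructor
    intro n hn g
    rw [hS] at hn
    induction hn using Subgroup.closure_induction with
    | mem x hx =>
      obtain ⟨a, ha, b, hb, rfl⟩ := hx
      refine Subgroup.subset_closure ⟨g * a * g⁻¹, hconj g a ha, g * b * g⁻¹, hconj g b hb, ?_⟩
      group
    | one => rw [mul_one, mul_inv_cancel]; exact S.one_mem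
    | mul x y _ _ hx hy =>
      have e : g * (x * y) * g⁻¹ = (g * x * g⁻¹) * (g * y * g⁻¹) := by group
      rw [e]; exact S.mul_mem hx hy
    | inv x _ hx =>
      have e : g * x⁻¹ * g⁻¹ = (g * x * g⁻¹)⁻¹ := by group
      rw [e]; exact S.inv_mem hx
  refine isSolvable_of_map (QuotientGroup.mk' S) _ ?_ ?_
  · rw [QuotientGroup.ker_mk']
    exact isSolvable_of_isPGroup hSp
  · rw [MonoidHom.map_closure]
    -- all images are equal
    by_cases hT : T.Nonempty
    · obtain ⟨a, ha⟩ := hT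
      have hsub : (QuotientGroup.mk' S) '' T ⊆ (Subgroup.zpowers (QuotientGroup.mk' S a) : Set (G ⧸ S)) := by
        rintro _ ⟨b, hb, rfl⟩
        have h1 : QuotientGroup.mk' S b = QuotientGroup.mk' S a := by
          refine QuotientGroup.eq.2 ?_
          have hbi : b⁻¹ = b := inv_eq_of_mul_eq_one_left (hinv b hb)
          rw [hbi]
          exact Subgroup.subset_closure ⟨b, hb, a, ha, rfl⟩
        rw [h1]; exact Subgroup.mem_zpowers _
      have hle := (Subgroup.closure_le _).2 hsub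
      refine Group.isSolvable_of_isSolvable_injective (f := Subgroup.inclusion hle)
        (Subgroup.inclusion_injective hle)
    · rw [Set.not_nonempty_iff_eq_empty] at hT
      rw [hT, Set.image_empty, Subgroup.closure_empty]
      infer_instance

variable {P : Set G} {Q : G → Subgroup G}

/-- For `x ∈ P` the members of `P` commuting with `x` generate a solvable group. -/
theorem Geo.solvable_closure (hg : Geo P Q) {x : G} (hx : x ∈ P) :
    Group.IsSolvable (Subgroup.closure {y : G | y ∈ P ∧ y ≠ x ∧ Commute x y}) := by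
  classical
  have hf2 : Fact (Nat.Prime 2) := ⟨Nat.prime_two⟩
  have hL := hg.large x hx
  set D : Set G := {y : G | y ∈ P ∧ y ≠ x ∧ Commute x y} with hD
  set C : Subgroup G := Subgroup.centralizer {x} with hC
  have hCx : ∀ c : C, (c : G) * x = x * c := fun c => Subgroup.mem_centralizer_singleton_iff.1 c.2
  have hDC : D ⊆ C := by
    intro y hy
    exact Subgroup.mem_centralizer_singleton_iff.2 hy.2.2.eq.symm
  let N : Subgroup C := (Q x).subgroupOf C
  have hNn : N.Normal := by
    constructor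
    intro n hn g
    exact hL.conj_mem g (hCx g) n hn
  have hNp : IsPGroup 2 N := by
    intro n
    refine ⟨2, ?_⟩
    apply Subtype.ext
    apply Subtype.ext
    have := pow_four hL (show ((n : C) : G) ∈ Q x from n.2)
    simpa using this
  let T : Set (C ⧸ N) := {a | ∃ y : C, (y : G) ∈ D ∧ QuotientGroup.mk y = a}
  have hTs : Group.IsSolvable (Subgroup.closure T) := by
    refine isSolvable_closure_hall ?_ ?_ ?_
    · rintro _ ⟨y, hy, rfl⟩
      have e : y * y = 1 := Subtype.ext (hg.sq hy.1)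
      have e2 : (QuotientGroup.mk y : C ⧸ N) * QuotientGroup.mk y = QuotientGroup.mk (y * y) := rfl
      rw [e2, e]; rfl
    · rintro g _ ⟨y, hy, rfl⟩
      obtain ⟨k, rfl⟩ := QuotientGroup.mk_surjective g
      refine ⟨k * y * k⁻¹, ⟨hg.conj_mem y hy.1 k, ?_, ?_⟩, rfl⟩
      · intro h
        apply hy.2.1
        have h1 : (k : G) * y * (k : G)⁻¹ = x := h
        have h2 : (k : G) * y = x * k := mul_inv_eq_iff_eq_mul.1 h1
        rw [← hCx k] at h2
        exact mul_left_cancel h2
      · show x * ((k : G) * y * (k : G)⁻¹) = (k : G) * y * (k : G)⁻¹ * x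
        have h1 : (k : G)⁻¹ * x = x * (k : G)⁻¹ := by
          rw [inv_mul_eq_iff_eq_mul, ← mul_assoc, hCx k, mul_inv_cancel_right]
        calc x * ((k : G) * y * (k : G)⁻¹) = (x * k) * y * (k : G)⁻¹ := by group
          _ = (k * x) * y * (k : G)⁻¹ := by rw [hCx k]
          _ = k * (x * y) * (k : G)⁻¹ := by group
          _ = k * (y * x) * (k : G)⁻¹ := by rw [hy.2.2.eq]
          _ = k * y * (x * (k : G)⁻¹) := by group
          _ = k * y * ((k : G)⁻¹ * x) := by rw [h1]
          _ = _ := by group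
    · rintro _ ⟨y, hy, rfl⟩ _ ⟨w, hw, rfl⟩
      have e : ((QuotientGroup.mk y : C ⧸ N) * QuotientGroup.mk w) ^ 3 = QuotientGroup.mk ((y * w) ^ 3) := rfl
      rw [e, QuotientGroup.eq_one_iff]
      show ((y : G) * w) ^ 3 ∈ Q x
      by_cases hyw : y = w
      · subst hyw
        rw [hg.sq hy.1, one_pow]; exact (Q x).one_mem
      · have hyw' : (y : G) ≠ w := fun h => hyw (Subtype.ext h)
        by_cases hc : Commute (y : G) w
        · exact (Q x).pow_mem (hg.mul_mem y hy.1 w hw.1 x hx hyw' hy.2.1 hw.2.1 hc hy.2.2.symm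
            hw.2.2.symm) 3
        · exact (hg.ord_three x hx y hy.1 w hw.1 hy.2.2.symm hw.2.2.symm hc).1
  -- the closure inside `C`
  have hTC : Group.IsSolvable (Subgroup.closure {y : C | (y : G) ∈ D}) := by
    refine isSolvable_of_map (QuotientGroup.mk' N) _ ?_ ?_
    · rw [QuotientGroup.ker_mk']
      exact isSolvable_of_isPGroup hNp
    · rw [MonoidHom.map_closure]
      have e : (QuotientGroup.mk' N) '' {y : C | (y : G) ∈ D} = T := by
        ext a
        constructor
        · rintro ⟨y, hy, rfl⟩; exact ⟨y, hy, rfl⟩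
        · rintro ⟨y, hy, rfl⟩; exact ⟨y, hy, rfl⟩
      rw [e]; exact hTs
  have hmap : (Subgroup.closure {y : C | (y : G) ∈ D}).map C.subtype = Subgroup.closure D := by
    rw [MonoidHom.map_closure]
    congr 1
    ext y
    constructor
    · rintro ⟨w, hw, rfl⟩; exact hw
    · intro hy; exact ⟨⟨y, hDC hy⟩, hy, rfl⟩
  rw [← hmap]
  exact Group.isSolvable_of_surjective (f := C.subtype.subgroupMap (Subgroup.closure {y : C | (y : G) ∈ D}))
    (C.subtype.subgroupMap_surjective _)

end

end Cfsg.Agent.LargeExtra.WCEnd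
end

-- part: LargeExtra/WCEndPSU
section
/-!
# Endgame of the weakly closed case, part four (helper622): identification

* `psu_of_geo`: a finite non-abelian simple group with a geometry `Geo P Q` is `PSU 4 F 2` or `PSU 5 F 2`;
* `psu5_of_geom`: with `WCGeom P Q` (`|Q p| = 2 ^ 7`) it is `PSU 5 F 2`.
-/

set_option autoImplicit false

namespace Cfsg.Agent.LargeExtra.WCEnd

open Cfsg.Agent.Co2Type.Quad Cfsg.Agent.LargeExtra.WC

universe u

theorem zStar : ZStar.{u} := by
  intro X _ _ t ht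
  have : Fact (Nat.Prime 2) := ⟨Nat.prime_two⟩
  have hzp : IsPGroup 2 (Subgroup.zpowers t) := by
    apply IsPGroup.of_card (n := 1)
    rw [Nat.card_zpowers, ht.1, pow_one]
  obtain ⟨P, hP⟩ := hzp.exists_le_sylow
  have hzP : t ∈ P := hP (Subgroup.mem_zpowers t)
  exact Cfsg.Agent.S0215.result P t ht.1 hzP
    (fun g hg => Cfsg.Agent.S1180.eq_of_conj_mem_isPGroup t ht P P.isPGroup' hzP g hg)

theorem not_isSimpleGroup_perm {n : ℕ} (hn : 3 ≤ n) : ¬ IsSimpleGroup (Equiv.Perm (Fin n)) := by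
  intro h
  have h0 : (0 : ℕ) < n := by omega
  have h1 : (1 : ℕ) < n := by omega
  have h2 : (2 : ℕ) < n := by omega
  set a : Fin n := ⟨0, h0⟩
  set b : Fin n := ⟨1, h1⟩
  set c : Fin n := ⟨2, h2⟩
  have hab : a ≠ b := by intro e; exact absurd (congrArg Fin.val e) (by norm_num [a, b])
  have hbc : b ≠ c := by intro e; exact absurd (congrArg Fin.val e) (by norm_num [b, c])
  have hac : a ≠ c := by intro e; exact absurd (congrArg Fin.val e) (by norm_num [a, c])
  rcases h.eq_bot_or_eq_top_of_normal (alternatingGroup (Fin n)) inferInstance with e | e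
  · have hm : Equiv.swap a b * Equiv.swap b c ∈ alternatingGroup (Fin n) := by
      rw [Equiv.Perm.mem_alternatingGroup, Equiv.Perm.sign_mul, Equiv.Perm.sign_swap hab,
        Equiv.Perm.sign_swap hbc]
      rfl
    rw [e, Subgroup.mem_bot] at hm
    have h3 := congrArg (fun f : Equiv.Perm (Fin n) => f c) hm
    simp only [Equiv.Perm.mul_apply, Equiv.swap_apply_right, Equiv.Perm.one_apply] at h3
    exact hac h3
  · have hm : Equiv.swap a b ∈ alternatingGroup (Fin n) := by rw [e]; trivial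
    rw [Equiv.Perm.mem_alternatingGroup, Equiv.Perm.sign_swap hab] at hm
    exact absurd hm (by decide)

section

variable {G : Type u} [Group G] [Finite G] {P : Set G} {Q : G → Subgroup G}

theorem psu_of_geo [IsSimpleGroup G] (hG : ¬ IsMulCommutative G) (hg : Geo P Q) {z : G} (hz : z ∈ P) :
    ∃ (F : Type) (_ : Field F) (_ : Fintype F), Fintype.card F = 4 ∧
      (Nonempty (G ≃* Cfsg.PSU 4 F 2) ∨ Nonempty (G ≃* Cfsg.PSU 5 F 2)) := by
  classical
  have hns : ¬ ∀ a b : G, a * b = b * a := by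
    intro h
    exact hG ⟨⟨h⟩⟩
  have hnsol : ¬ Group.IsSolvable G := by
    intro h
    exact hns (IsSimpleGroup.comm_iff_isSolvable.2 h)
  have hz2 : orderOf z = 2 := orderOf_eq_prime (by rw [pow_two]; exact hg.sq hz) (hg.ne_one hz)
  -- a commuting pair
  obtain ⟨g, hg1, hg2⟩ := Cfsg.Agent.StandardComponent.AltFinal.exists_conj hG hz2
  have hex : ∃ p ∈ P, ∃ t ∈ P, p ≠ t ∧ Commute p t :=
    ⟨z, hz, g * z * g⁻¹, hg.conj_mem z hz g, hg1.symm, hg2.symm⟩
  have hcl : Subgroup.closure P = ⊤ := by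
    have hn : (Subgroup.closure P).Normal := by
      constructor
      intro n hn g
      induction hn using Subgroup.closure_induction with
      | mem x hx => exact Subgroup.subset_closure (hg.conj_mem x hx g)
      | one => rw [mul_one, mul_inv_cancel]; exact Subgroup.one_mem _
      | mul x y _ _ hx hy =>
        have e : g * (x * y) * g⁻¹ = (g * x * g⁻¹) * (g * y * g⁻¹) := by group
        rw [e]; exact Subgroup.mul_mem _ hx hy
      | inv x _ hx =>
        have e : g * x⁻¹ * g⁻¹ = (g * x * g⁻¹)⁻¹ := by group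
        rw [e]; exact Subgroup.inv_mem _ hx
    rcases hn.eq_bot_or_eq_top with h | h
    · exfalso
      have : z ∈ Subgroup.closure P := Subgroup.subset_closure hz
      rw [h, Subgroup.mem_bot] at this
      exact hg.ne_one hz this
    · exact h
  have hD : Cfsg.IsThreeTranspositionClass P := by
    refine ⟨⟨?_, ?_⟩, ⟨z, hz, ?_⟩, hcl⟩
    · intro d hd
      exact orderOf_eq_prime (by rw [pow_two]; exact hg.sq hd) (hg.ne_one hd)
    · intro d hd e he
      by_cases hc : Commute d e
      · left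
        rw [hc.mul_pow, pow_two, pow_two, hg.sq hd, hg.sq he, one_mul]
      · right
        exact hg.three zStar hex hd he hc
    · ext x
      constructor
      · intro hx
        exact isConj_iff.2 (hg.exists_conj z hz x hx)
      · intro hx
        obtain ⟨c, rfl⟩ := isConj_iff.1 (show IsConj z x from hx)
        exact hg.conj_mem z hz c
  have hsol : ∀ N : Subgroup G, N.Normal → Group.IsSolvable ↥N → N = ⊥ := by
    intro N hN hs
    rcases hN.eq_bot_or_eq_top with h | h
    · exact h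
    · exfalso
      subst h
      apply hnsol
      exact Group.isSolvable_of_surjective (f := (Subgroup.topEquiv (G := G)).toMonoidHom)
        (Subgroup.topEquiv (G := G)).surjective
  have hcom : commutator G = ⊤ := by
    rcases (inferInstance : (commutator G).Normal).eq_bot_or_eq_top with h | h
    · exfalso
      apply hns
      intro a b
      have h5 : a * b * a⁻¹ * b⁻¹ ∈ commutator G :=
        Subgroup.commutator_mem_commutator (Subgroup.mem_top a) (Subgroup.mem_top b)
      rw [h, Subgroup.mem_bot, mul_inv_eq_one, mul_inv_eq_iff_eq_mul] at h5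
      exact h5
    · exact h
  have hperf : ⁅commutator G, commutator G⁆ = commutator G := by
    rw [hcom]; exact hcom
  rcases Cfsg.Agent.S1614.result hsol hperf hD z hz (hg.solvable_closure hz) with h | h | h
  · exfalso
    obtain ⟨e⟩ := h
    have : IsSimpleGroup (Equiv.Perm (Fin 5)) := IsSimpleGroup.isSimpleGroup_of_surjective
      e.toMonoidHom e.surjective
    exact not_isSimpleGroup_perm (by norm_num) this
  · exfalso
    obtain ⟨e⟩ := h
    have : IsSimpleGroup (Equiv.Perm (Fin 6)) := IsSimpleGroup.isSimpleGroup_of_surjective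
      e.toMonoidHom e.surjective
    exact not_isSimpleGroup_perm (by norm_num) this
  · exact h

theorem card_psu_four {F : Type} [Field F] [Fintype F] (hF : Fintype.card F = 4) :
    Nat.card (Cfsg.PSU 4 F 2) = 25920 := by
  have h1 := Cfsg.Agent.S0280.result (F := F) (q := 2) (by rw [hF]; norm_num) 4 (by norm_num)
  have h2 : Nat.gcd 4 (2 + 1) = 1 := by norm_num
  have h3 : (∏ i ∈ Finset.range 4, (if Even i then 2 ^ (i + 1) + 1 else 2 ^ (i + 1) - 1)) = 1215 := by
    decide
  rw [h2, h3] at h1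
  norm_num at h1
  omega

/-- the form used for S1762: `|Q p| = 2 ^ 7` -/
theorem psu5_of_geo [IsSimpleGroup G] (hG : ¬ IsMulCommutative G) (hg : Geo P Q) {z : G} (hz : z ∈ P)
    (hcard : 2 ^ 7 ∣ Nat.card (Q z)) :
    ∃ (F : Type) (_ : Field F) (_ : Fintype F), Fintype.card F = 4 ∧ Nonempty (G ≃* Cfsg.PSU 5 F 2) := by
  obtain ⟨F, hF1, hF2, hF, h | h⟩ := psu_of_geo hG hg hz
  · exfalso
    obtain ⟨e⟩ := h
    have h1 : Nat.card G = 25920 := (Nat.card_congr e.toEquiv).trans (card_psu_four hF)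
    have h2 : 2 ^ 7 ∣ Nat.card G := hcard.trans (Subgroup.card_subgroup_dvd_card (Q z))
    rw [h1] at h2
    exact absurd h2 (by norm_num)
  · exact ⟨F, hF1, hF2, hF, h⟩

theorem psu5_of_geom [IsSimpleGroup G] (hG : ¬ IsMulCommutative G) (hg : WCGeom P Q) {z : G} (hz : z ∈ P)
    (hcard : Nat.card (Q z) = 2 ^ 7) :
    ∃ (F : Type) (_ : Field F) (_ : Fintype F), Fintype.card F = 4 ∧ Nonempty (G ≃* Cfsg.PSU 5 F 2) :=
  psu5_of_geo hG (geo_of_wc hg) hz (by rw [hcard])

end

end Cfsg.Agent.LargeExtra.WCEnd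
end
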