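import Cfsg.Agent.LargeExtra.Siegel
set_option linter.all false

/-!
# Case II with `|D̃| = 2`: `C_G(z)` contains all Siegel elements (helper73)

* `O2 h`: every normal 2-subgroup of `C_G(z)` lies in `Q`; `o2_of_genFitting`.
* `eq_one_of_normal`: the image `H` of `C_G(z)` in `GL(V)` has no nontrivial normal 2-subgroup.
* `param_of_perp`: if the orbit `ã^H` is totally isotropic, then a Siegel element `sg ã w ∈ H` with
  `w ⟂ ã^H` has `w ∈ {0, ã}`.
* `exists_conj`: for `|D̃| = 2`, `|V| > 4`: `H` is transitive on the nonzero singular vectors;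
  `E_le_H`: `H` contains all Siegel elements; `exists_conj_G`: the statement in `G`.
-/

set_option autoImplicit false

namespace Cfsg.Agent.LargeExtra.SiegelOrbit

open Cfsg.Agent.Co2Type.Quad Cfsg.Agent.LargeExtra.Base Cfsg.Agent.LargeExtra.TwoCentral
open Cfsg.Agent.LargeExtra.Siegel
open Cfsg.Agent.LieClassical.OrthCore

variable {G : Type*} [Group G] {Q : Subgroup G} {z : G}

/-- every normal 2-subgroup of `C_G(z)` lies in `Q` -/
def O2 (_h : Large Q z) : Prop :=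
  ∀ N : Subgroup (Subgroup.centralizer ({z} : Set G)), N.Normal → IsPGroup 2 N →
    ∀ x ∈ N, (x : G) ∈ Q

theorem o2_of_genFitting [Finite G] (h : Large Q z)
    (hQ : Q = (Cfsg.generalizedFittingSubgroup ↥(Subgroup.centralizer ({z} : Set G))).map
      (Subgroup.centralizer ({z} : Set G)).subtype) : O2 h := by
  intro N hN h2 x hx
  rw [hQ]
  exact ⟨x, le_of_normal_two hN h2 hx, rfl⟩

/-- the image of `C_G(z)` in `GL(V)` has no nontrivial normal 2-subgroup -/
theorem eq_one_of_normal [Finite G] (h : Large Q z) (hO : O2 h)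
    {N : Subgroup (h.V ≃ₗ[ZMod 2] h.V)} (hle : N ≤ h.act.range)
    (hn : ∀ f ∈ h.act.range, ∀ g ∈ N, f * g * f⁻¹ ∈ N) (h2 : ∀ g ∈ N, ∃ k : ℕ, g ^ 2 ^ k = 1)
    {g : h.V ≃ₗ[ZMod 2] h.V} (hg : g ∈ N) : g = 1 := by
  have hM : (N.comap h.act).Normal := by
    refine ⟨fun x hx c => ?_⟩
    rw [Subgroup.mem_comap] at hx ⊢
    rw [map_mul, map_mul, map_inv]
    exact hn _ ⟨c, rfl⟩ _ hx
  have hM2 : IsPGroup 2 (N.comap h.act) := by
    intro x
    obtain ⟨k, hk⟩ := h2 _ (Subgroup.mem_comap.1 x.2)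
    rw [← map_pow] at hk
    have h3 := h.mem_of_act _ hk
    obtain ⟨m, hm⟩ := isPGroup h ⟨_, h3⟩
    refine ⟨k + m, ?_⟩
    apply Subtype.ext
    apply Subtype.ext
    have h4 := congrArg Subtype.val hm
    show ((x : Subgroup.centralizer ({z} : Set G)) : G) ^ 2 ^ (k + m) = 1
    rw [pow_add, pow_mul]
    exact h4
  obtain ⟨c, rfl⟩ := hle hg
  exact h.act_mem c (hO _ hM hM2 c hg)

section pair

variable {A : Subgroup G} {a : G}

theorem inv_apply {V : Type*} [AddCommGroup V] [Module (ZMod 2) V] (f : V ≃ₗ[ZMod 2] V) (v : V) :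
    f (f⁻¹ v) = v := f.apply_symm_apply v

theorem apply_inv {V : Type*} [AddCommGroup V] [Module (ZMod 2) V] (f : V ≃ₗ[ZMod 2] V) (v : V) :
    f⁻¹ (f v) = v := f.symm_apply_apply v

/-- the span of the orbit of `ã` -/
noncomputable def U (p : Pair Q z A a) : Submodule (ZMod 2) p.lz.V :=
  Submodule.span (ZMod 2) {v | ∃ f ∈ p.H, f p.va = v}

theorem va_mem_U (p : Pair Q z A a) : p.va ∈ U p :=
  Submodule.subset_span ⟨1, p.H.one_mem, rfl⟩

theorem U_inv (p : Pair Q z A a) {g : p.lz.V ≃ₗ[ZMod 2] p.lz.V} (hg : g ∈ p.H) {v : p.lz.V}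
    (hv : v ∈ U p) : g v ∈ U p := by
  induction hv using Submodule.span_induction with
  | mem x hx =>
    obtain ⟨f, hf, rfl⟩ := hx
    exact Submodule.subset_span ⟨g * f, p.H.mul_mem hg hf, rfl⟩
  | zero => rw [map_zero]; exact (U p).zero_mem
  | add x y _ _ hx hy => rw [map_add]; exact (U p).add_mem hx hy
  | smul c x _ hx => rw [map_smul]; exact (U p).smul_mem c hx

theorem perp_U (p : Pair Q z A a) {w : p.lz.V} (hw : ∀ f ∈ p.H, p.lz.b (f p.va) w = 0) :
    ∀ u ∈ U p, p.lz.b u w = 0 := by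
  intro u hu
  induction hu using Submodule.span_induction with
  | mem x hx =>
    obtain ⟨f, hf, rfl⟩ := hx
    exact hw f hf
  | zero => rw [map_zero, LinearMap.zero_apply]
  | add x y _ _ hx hy => rw [map_add, LinearMap.add_apply, hx, hy, add_zero]
  | smul c x _ hx => rw [map_smul, LinearMap.smul_apply, hx, smul_zero]

theorem b_inv (p : Pair Q z A a) {f : p.lz.V ≃ₗ[ZMod 2] p.lz.V} (hf : f ∈ p.H) (v w : p.lz.V) :
    p.lz.b v (f w) = p.lz.b (f⁻¹ v) w := by
  rw [← b_of_mem_O p.lz (H_le_O p hf) (f⁻¹ v) w, inv_apply]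

/-- the unipotent group of a totally isotropic orbit -/
def N (p : Pair Q z A a) :
    Subgroup (p.lz.V ≃ₗ[ZMod 2] p.lz.V) where
  carrier := {f | f ∈ p.H ∧ (∀ u ∈ U p, f u = u) ∧
    ∀ v, (∀ u ∈ U p, p.lz.b u v = 0) → f v + v ∈ U p}
  one_mem' := ⟨p.H.one_mem, fun u _ => rfl, fun v _ => by
    show v + v ∈ U p
    rw [p.lz.add_self]; exact (U p).zero_mem⟩
  mul_mem' := by
    rintro f g ⟨hf, hf1, hf2⟩ ⟨hg, hg1, hg2⟩
    refine ⟨p.H.mul_mem hf hg, fun u hu => ?_, fun v hv => ?_⟩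
    · show f (g u) = u
      rw [hg1 u hu, hf1 u hu]
    · show f (g v) + v ∈ U p
      have e : f (g v) + v = f (g v + v) + (f v + v) := by
        rw [map_add]
        calc f (g v) + v = f (g v) + (f v + f v) + v := by rw [p.lz.add_self, add_zero]
          _ = _ := by abel
      rw [e, hf1 _ (hg2 v hv)]
      exact (U p).add_mem (hg2 v hv) (hf2 v hv)
  inv_mem' := by
    rintro f ⟨hf, hf1, hf2⟩
    have hi : ∀ u ∈ U p, f⁻¹ u = u := fun u hu => by
      nth_rewrite 1 [← hf1 u hu]; exact apply_inv f u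
    refine ⟨p.H.inv_mem hf, hi, fun v hv => ?_⟩
    have h1 : ∀ u ∈ U p, p.lz.b u (f⁻¹ v) = 0 := by
      intro u hu
      rw [b_inv p (p.H.inv_mem hf), inv_inv, hf1 u hu]
      exact hv u hu
    have h2 := hf2 _ h1
    rw [inv_apply, add_comm] at h2
    exact h2

/-- if the orbit of `ã` is totally isotropic, a Siegel element `sg ã w ∈ H`, `w ⟂ ã^H`, has
`w ∈ {0, ã}` -/
theorem param_of_perp [Finite G] (p : Pair Q z A a) (hO : O2 p.lz)
    (hperp : ∀ f ∈ p.H, p.lz.b p.va (f p.va) = 0) {w : p.lz.V} (hw : p.lz.b p.va w = 0)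
    (hX : sg p.lz p.va w (q_va p) hw ∈ p.H) (hwU : ∀ f ∈ p.H, p.lz.b (f p.va) w = 0) :
    w = 0 ∨ w = p.va := by
  rw [← sg_eq_one p.lz (q_va p) hw p.va_ne]
  have hUU : ∀ u ∈ U p, p.lz.b p.va u = 0 := by
    intro u hu
    rw [p.lz.b_comm]
    exact perp_U p (fun f hf => by rw [p.lz.b_comm]; exact hperp f hf) u hu
  have hUw := perp_U p hwU
  apply eq_one_of_normal p.lz hO (N := N p)
  · intro f hf; exact hf.1
  · rintro g hg f ⟨hf, hf1, hf2⟩
    have hg' : g ∈ p.H := hg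
    refine ⟨p.H.mul_mem (p.H.mul_mem hg' hf) (p.H.inv_mem hg'), fun u hu => ?_, fun v hv => ?_⟩
    · show g (f (g⁻¹ u)) = u
      rw [hf1 _ (U_inv p (p.H.inv_mem hg') hu), inv_apply]
    · show g (f (g⁻¹ v)) + v ∈ U p
      have h1 : ∀ u ∈ U p, p.lz.b u (g⁻¹ v) = 0 := by
        intro u hu
        rw [b_inv p (p.H.inv_mem hg'), inv_inv]
        exact hv _ (U_inv p hg' hu)
      have h2 := U_inv p hg' (hf2 _ h1)
      rw [map_add, inv_apply] at h2
      exact h2
  · rintro f ⟨hf, hf1, hf2⟩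
    refine ⟨2, ?_⟩
    have key : ∀ v, ∃ u ∈ U p, f (f v) = v + u := by
      intro v
      have h1 : ∀ u ∈ U p, p.lz.b u (f v + v) = 0 := by
        intro u hu
        have hi : f⁻¹ u = u := by
          nth_rewrite 1 [← hf1 u hu]; exact apply_inv f u
        rw [map_add, b_inv p hf, hi, CharTwo.add_self_eq_zero]
      refine ⟨f (f v + v) + (f v + v), hf2 _ h1, ?_⟩
      rw [map_add]
      calc f (f v) = f (f v) + (f v + f v) + (v + v) := by
            rw [p.lz.add_self, p.lz.add_self, add_zero, add_zero]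
        _ = _ := by abel
    ext v
    obtain ⟨u, hu, h1⟩ := key v
    obtain ⟨u', hu', h2⟩ := key (f (f v))
    show (f ^ 2 ^ 2) v = v
    have e : (f ^ 2 ^ 2) v = f (f (f (f v))) := rfl
    rw [e, h1, map_add, map_add, hf1 u hu, hf1 u hu, h1, add_assoc, p.lz.add_self, add_zero]
  · refine ⟨hX, fun u hu => ?_, fun v hv => ?_⟩
    · rw [sg_perp p.lz _ _ (hUU u hu), p.lz.b_comm, hUw u hu, zero_smul, add_zero]
    · rw [sg_perp p.lz _ _ (hv _ (va_mem_U p)), add_right_comm, p.lz.add_self, zero_add]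
      exact (U p).smul_mem _ (va_mem_U p)

/-- `|D̃| = 2`: some conjugate of `ã` is not perpendicular to `ã`. -/
theorem exists_not_perp [Finite G] (p : Pair Q z A a) (hO : O2 p.lz) (hD : Nat.card p.D = 2)
    (hV : 4 < Nat.card p.lz.V) : ∃ f ∈ p.H, p.lz.b p.va (f p.va) = 1 := by
  by_contra hcon
  push Not at hcon
  have hperp : ∀ f ∈ p.H, p.lz.b p.va (f p.va) = 0 := by
    intro f hf
    rcases zmod_two (p.lz.b p.va (f p.va)) with h1 | h1
    · exact h1
    · exact absurd h1 (hcon f hf)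
  have h1 : ∀ w : p.lz.V, (∀ u ∈ U p, p.lz.b u w = 0) → w = 0 ∨ w = p.va := by
    intro w hw
    have hw1 : p.lz.b p.va w = 0 := hw _ (va_mem_U p)
    refine param_of_perp p hO hperp hw1 (p.X_le_H (sg_mem_X p hD hw1)) ?_
    intro f hf
    exact hw _ (Submodule.subset_span ⟨f, hf, rfl⟩)
  have h2 := Perp.card_perp p.lz (U p)
  have hc : Nat.card (p.lz.b.orthogonal (U p)) ≤ 2 := by
    have hinj : Function.Injective (fun x : p.lz.b.orthogonal (U p) => (x : p.lz.V) = 0) := by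
      intro x y hxy
      have hxy' : ((x : p.lz.V) = 0) = ((y : p.lz.V) = 0) := hxy
      apply Subtype.ext
      rcases h1 x ((Perp.mem_perp p.lz _).1 x.2) with h3 | h3
      · rw [h3, eq_comm, ← hxy']; exact h3
      · rcases h1 y ((Perp.mem_perp p.lz _).1 y.2) with h4 | h4
        · rw [h4, hxy']; exact h4
        · rw [h3, h4]
    have h3 := Nat.card_le_card_of_injective _ hinj
    rwa [Nat.card_eq_fintype_card (α := Prop), Fintype.card_prop] at h3
  have hle : U p ≤ p.lz.b.orthogonal (U p) := by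
    intro v hv
    rw [Perp.mem_perp]
    apply perp_U
    intro f hf
    rw [p.lz.b_comm]
    revert v
    apply perp_U
    intro g hg
    rw [b_inv p hf, p.lz.b_comm]
    rw [b_inv p (p.H.inv_mem hf)]
    rw [inv_inv]
    have := hperp (g⁻¹ * f) (p.H.mul_mem (p.H.inv_mem hg) hf)
    rw [← this]
    show p.lz.b (f p.va) (g p.va) = p.lz.b p.va (g⁻¹ (f p.va))
    rw [b_inv p (p.H.inv_mem hg), inv_inv, p.lz.b_comm]
  have h3 := Nat.card_le_card_of_injective _ (Submodule.inclusion_injective hle)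
  have h4 : Nat.card (U p) * Nat.card (p.lz.b.orthogonal (U p)) ≤ 2 * 2 :=
    Nat.mul_le_mul (h3.trans hc) hc
  omega

/-- Siegel elements with centre in the orbit of `ã` -/
theorem sg_mem_H [Finite G] (p : Pair Q z A a) (hD : Nat.card p.D = 2)
    {f : p.lz.V ≃ₗ[ZMod 2] p.lz.V} (hf : f ∈ p.H) {c w : p.lz.V} (hc : f p.va = c)
    (hq : p.lz.q c = 0) (hw : p.lz.b c w = 0) : sg p.lz c w hq hw ∈ p.H := by
  subst hc
  have h1 : p.lz.b p.va (f⁻¹ w) = 0 := by
    rw [b_inv p (p.H.inv_mem hf), inv_inv]; exact hw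
  have h2 := sg_conj p.lz (H_le_O p hf) (q_va p) h1 hq (by rw [inv_apply]; exact hw)
  rw [← sg_congr p.lz hq (by rw [inv_apply]; exact hw) hq hw rfl (inv_apply f w), ← h2]
  exact p.H.mul_mem (p.H.mul_mem hf (p.X_le_H (sg_mem_X p hD h1))) (p.H.inv_mem hf)

/-- `|D̃| = 2`: `H` is transitive on nonzero singular vectors. -/
theorem exists_conj [Finite G] (p : Pair Q z A a) (hO : O2 p.lz) (hD : Nat.card p.D = 2)
    (hV : 4 < Nat.card p.lz.V) {u : p.lz.V} (hu : p.lz.q u = 0) (hu0 : u ≠ 0) :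
    ∃ f ∈ p.H, f p.va = u := by
  obtain ⟨f0, hf0, hf01⟩ := exists_not_perp p hO hD hV
  -- step A
  have stepA : ∀ c u : p.lz.V, (∃ g ∈ p.H, g p.va = c) → p.lz.q u = 0 → p.lz.b c u = 1 →
      ∃ f ∈ p.H, f p.va = u := by
    rintro c u ⟨g, hg, rfl⟩ hu hcu
    have hq : p.lz.q (g p.va) = 0 := by rw [q_of_mem_O p.lz (H_le_O p hg)]; exact q_va p
    have hcc' : p.lz.b (g p.va) (g (f0 p.va)) = 1 := by
      rw [b_of_mem_O p.lz (H_le_O p hg)]; exact hf01
    have hw : p.lz.b (g p.va) (u + g (f0 p.va)) = 0 := by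
      rw [map_add, hcu, hcc']; decide
    have h1 := sg_mem_H p hD hg rfl hq hw
    refine ⟨sg p.lz (g p.va) (u + g (f0 p.va)) hq hw * (g * f0),
      p.H.mul_mem h1 (p.H.mul_mem hg hf0), ?_⟩
    show sg p.lz (g p.va) (u + g (f0 p.va)) hq hw (g (f0 p.va)) = u
    have hq' : p.lz.q (g (f0 p.va)) = 0 := by
      rw [q_of_mem_O p.lz (H_le_O p hg), q_of_mem_O p.lz (H_le_O p hf0)]; exact q_va p
    rw [sg_apply, hcc', one_smul, mul_one, p.lz.q_add', hu, hq', map_add, LinearMap.add_apply,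
      p.lz.b_self, add_zero, zero_add, zero_add, CharTwo.add_self_eq_zero, zero_smul, add_zero]
    rw [add_comm u, ← add_assoc, p.lz.add_self, zero_add]
  rcases zmod_two (p.lz.b p.va u) with h1 | h1
  · by_cases hua : u = p.va
    · exact ⟨1, p.H.one_mem, hua.symm⟩
    · obtain ⟨v1, hv1, hv1u⟩ : ∃ v, p.lz.b p.va v = 0 ∧ p.lz.b u v ≠ 0 := by
        by_contra hcon
        push Not at hcon
        rcases eq_of_perp p.lz hcon with h2 | h2
        · exact hu0 h2
        · exact hua h2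
      have hv1u' := zmod_two_ne hv1u
      obtain ⟨y, hy⟩ : ∃ y, p.lz.b p.va y ≠ 0 := by
        by_contra hcon
        push Not at hcon
        exact p.va_ne (p.lz.b_nondeg hcon)
      have hy' := zmod_two_ne hy
      obtain ⟨v, hv1, hv2⟩ : ∃ v, p.lz.b p.va v = 1 ∧ p.lz.b u v = 1 := by
        rcases zmod_two (p.lz.b u y) with h2 | h2
        · exact ⟨y + v1, by rw [map_add, hy', hv1, add_zero], by rw [map_add, h2, hv1u', zero_add]⟩
        · exact ⟨y, hy', h2⟩
      obtain ⟨c, hc0, hc1, hc2⟩ : ∃ c, p.lz.q c = 0 ∧ p.lz.b p.va c = 1 ∧ p.lz.b u c = 1 := by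
        rcases zmod_two (p.lz.q v) with h2 | h2
        · exact ⟨v, h2, hv1, hv2⟩
        · refine ⟨v + p.va, ?_, ?_, ?_⟩
          · rw [p.lz.q_add', h2, q_va p, p.lz.b_comm, hv1]; decide
          · rw [map_add, hv1, p.lz.b_self, add_zero]
          · rw [map_add, hv2, p.lz.b_comm u, h1, add_zero]
      exact stepA c u (stepA p.va c ⟨1, p.H.one_mem, rfl⟩ hc0 hc1) hu (by rw [p.lz.b_comm]; exact hc2)
  · exact stepA p.va u ⟨1, p.H.one_mem, rfl⟩ hu h1

/-- `|D̃| = 2`: `H` contains all Siegel elements. -/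
theorem E_le_H [Finite G] (p : Pair Q z A a) (hO : O2 p.lz) (hD : Nat.card p.D = 2)
    (hV : 4 < Nat.card p.lz.V) : E (qf p.lz) ≤ p.H := by
  rw [E, Subgroup.closure_le]
  rintro _ ⟨u, w, hu, hw, rfl⟩
  have hw' : p.lz.b u w = 0 := by rw [← polar_qf]; exact hw
  have hu : p.lz.q u = 0 := hu
  show sg p.lz u w hu hw' ∈ p.H
  by_cases hu0 : u = 0
  · have : sg p.lz u w hu hw' = 1 := by
      ext v
      rw [sg_apply, hu0, map_zero, LinearMap.zero_apply, zero_smul, smul_zero, add_zero, add_zero]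
      rfl
    rw [this]
    exact p.H.one_mem
  · obtain ⟨f, hf, hfu⟩ := exists_conj p hO hD hV hu hu0
    exact sg_mem_H p hD hf hfu hu hw'

/-- The statement in `G`: `C_G(z)` is transitive on the involutions of `Q` other than `z`. -/
theorem exists_conj_G [Finite G] (p : Pair Q z A a) (hO : O2 p.lz) (hD : Nat.card p.D = 2)
    (hV : 4 < Nat.card p.lz.V) {x : G} (hx : x ∈ Q) (hxx : x * x = 1) (hx1 : x ≠ 1) (hxz : x ≠ z) :
    ∃ c : G, c * z = z * c ∧ c * a * c⁻¹ = x := by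
  have h0 : p.lz.pr ⟨x, hx⟩ ≠ 0 := by
    intro h1
    rcases p.lz.pr_eq_zero.1 h1 with h2 | h2
    · exact hx1 h2
    · exact hxz h2
  obtain ⟨f, ⟨c, rfl⟩, hf⟩ := exists_conj p hO hD hV (p.lz.q_eq_zero.2 hxx) h0
  have hcz : (c : G) * z = z * c := Subgroup.mem_centralizer_singleton_iff.1 c.2
  rw [Pair.va, p.lz.act_pr, p.lz.pr_eq_pr, p.lz.conjQ_coe] at hf
  have hf' : (c : G) * a * (c : G)⁻¹ = x ∨ (c : G) * a * (c : G)⁻¹ = x * z := hf
  rcases hf' with h1 | h1
  · exact ⟨c, hcz, h1⟩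
  · obtain ⟨y, hy, hyx⟩ := exists_not_comm p.lz hx hx1 hxz
    have hyz := p.lz.comm_z y hy
    refine ⟨y * c, ?_, ?_⟩
    · rw [mul_assoc, hcz, ← mul_assoc, hyz, mul_assoc]
    · calc y * (c : G) * a * (y * (c : G))⁻¹ = y * ((c : G) * a * (c : G)⁻¹) * y⁻¹ := by group
        _ = y * x * z * y⁻¹ := by rw [h1]; group
        _ = x * (y * (z * z)) * y⁻¹ := by rw [hyx]; group
        _ = x := by rw [p.lz.z_sq]; group

end pair

end Cfsg.Agent.LargeExtra.SiegelOrbit
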