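import Mathlib
import Cfsg.Agent.LargeExtra.SiegelOrbit
import Cfsg.Agent.LargeExtra.TOne
set_option linter.all false

-- part: LargeExtra/SixFam
section
/-!
# S1762, case II: the abstract family on the six-dimensional space `V = Q / ⟨z⟩` (helper416)

`V` is a vector space over `F₂` with `64` elements, `q` a nondegenerate quadratic form with polar form `b`,
`H` a group of isometries, `O` an orbit of `H`, and for `c ∈ O` there are submodules `D c` (totally singular) and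
`W c ≤ c^⊥` with `|D c| |W c| = 64`, such that all Siegel maps `r_{c,w}`, `w ∈ W c`, are in `H`.
-/

set_option autoImplicit false

namespace Cfsg.Agent.LargeExtra.Six

variable {V : Type*} [AddCommGroup V] [Module (ZMod 2) V]

/-- The Siegel map `r_{c,w}`. -/
def sg (q : V → ZMod 2) (b : LinearMap.BilinForm (ZMod 2) V) (c w v : V) : V :=
  v + b v w • c + b v c • w + (q w * b v c) • c

/-- The abstract situation of case II for `w = 3`. -/
structure SixFam (q : V → ZMod 2) (b : LinearMap.BilinForm (ZMod 2) V) (H : Subgroup (V ≃ₗ[ZMod 2] V))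
    (O : Set V) (D W : V → Submodule (ZMod 2) V) : Prop where
  card : Nat.card V = 64
  q_add : ∀ v w, q (v + w) = q v + q w + b v w
  nondeg : ∀ v, (∀ w, b v w = 0) → v = 0
  q_H : ∀ h ∈ H, ∀ v, q (h v) = q v
  ne : O.Nonempty
  zero : ∀ c ∈ O, c ≠ 0
  stable : ∀ h ∈ H, ∀ c ∈ O, h c ∈ O
  trans : ∀ c ∈ O, ∀ c' ∈ O, ∃ h ∈ H, h c = c'
  self_D : ∀ c ∈ O, c ∈ D c
  q_D : ∀ c ∈ O, ∀ v ∈ D c, q v = 0
  self_W : ∀ c ∈ O, c ∈ W c
  perp_W : ∀ c ∈ O, ∀ v ∈ W c, b c v = 0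
  D_map : ∀ h ∈ H, ∀ c ∈ O, ∀ v ∈ D c, h v ∈ D (h c)
  W_map : ∀ h ∈ H, ∀ c ∈ O, ∀ v ∈ W c, h v ∈ W (h c)
  siegel : ∀ c ∈ O, ∀ w ∈ W c, ∃ h ∈ H, ∀ v, h v = sg q b c w v
  cap : ∀ c ∈ O, ∀ v ∈ D c, (∀ w ∈ W c, b v w = 0) → v = 0 ∨ v = c
  card_DW : ∀ c ∈ O, Nat.card (D c) * Nat.card (W c) = 64

theorem zm (c : ZMod 2) : c = 0 ∨ c = 1 := by revert c; decide

theorem add_self (v : V) : v + v = 0 := by
  have : (2 : ZMod 2) • v = 0 := by rw [show (2 : ZMod 2) = 0 from rfl, zero_smul]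
  rwa [two_smul] at this

theorem zadd (c : ZMod 2) : c + c = 0 := by revert c; decide

theorem eq_of_add {v w : V} (h : v + w = 0) : v = w := by
  calc v = v + (w + w) := by rw [add_self, add_zero]
    _ = (v + w) + w := by rw [add_assoc]
    _ = w := by rw [h, zero_add]

theorem add_cancel' (v w : V) : v + w + w = v := by rw [add_assoc, add_self, add_zero]

namespace SixFam

variable {q : V → ZMod 2} {b : LinearMap.BilinForm (ZMod 2) V} {H : Subgroup (V ≃ₗ[ZMod 2] V)}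
  {O : Set V} {D W : V → Submodule (ZMod 2) V}

theorem q_zero (F : SixFam q b H O D W) : q 0 = 0 := by
  have h := F.q_add 0 0
  rw [add_zero, map_zero, add_zero, zadd] at h
  exact h

theorem b_eq (F : SixFam q b H O D W) (v w : V) : b v w = q (v + w) + q v + q w := by
  rw [F.q_add]
  generalize q v = x, q w = y, b v w = z
  revert x y z; decide

theorem b_comm (F : SixFam q b H O D W) (v w : V) : b v w = b w v := by
  rw [F.b_eq, F.b_eq, add_comm w v]; ring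

theorem b_self (F : SixFam q b H O D W) (v : V) : b v v = 0 := by
  rw [F.b_eq, add_self, F.q_zero, zero_add, zadd]

theorem q_self (F : SixFam q b H O D W) {c : V} (hc : c ∈ O) : q c = 0 := F.q_D c hc c (F.self_D c hc)

theorem b_H (F : SixFam q b H O D W) {h : V ≃ₗ[ZMod 2] V} (hh : h ∈ H) (v w : V) :
    b (h v) (h w) = b v w := by
  rw [F.b_eq, F.b_eq, ← map_add, F.q_H h hh, F.q_H h hh, F.q_H h hh]

theorem b_D (F : SixFam q b H O D W) {c : V} (hc : c ∈ O) {v w : V} (hv : v ∈ D c) (hw : w ∈ D c) :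
    b v w = 0 := by
  rw [F.b_eq, F.q_D c hc _ ((D c).add_mem hv hw), F.q_D c hc v hv, F.q_D c hc w hw]; rfl

theorem finite (F : SixFam q b H O D W) : Finite V :=
  Nat.finite_of_card_ne_zero (by rw [F.card]; norm_num)

theorem sg_mem (F : SixFam q b H O D W) {c w v : V} (hc : c ∈ O) (hw : w ∈ W c) (hv : v ∈ O) :
    sg q b c w v ∈ O := by
  obtain ⟨h, hh, e⟩ := F.siegel c hc w hw
  rw [← e]; exact F.stable h hh v hv

theorem D_map_iff (F : SixFam q b H O D W) {h : V ≃ₗ[ZMod 2] V} (hh : h ∈ H) {c : V} (hc : c ∈ O) (v : V) :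
    h v ∈ D (h c) ↔ v ∈ D c := by
  refine ⟨fun hv => ?_, F.D_map h hh c hc v⟩
  have := F.D_map h⁻¹ (H.inv_mem hh) (h c) (F.stable h hh c hc) _ hv
  have e : ∀ v, (h⁻¹ : V ≃ₗ[ZMod 2] V) (h v) = v := fun v => h.symm_apply_apply v
  rwa [e, e] at this

theorem W_map_iff (F : SixFam q b H O D W) {h : V ≃ₗ[ZMod 2] V} (hh : h ∈ H) {c : V} (hc : c ∈ O) (v : V) :
    h v ∈ W (h c) ↔ v ∈ W c := by
  refine ⟨fun hv => ?_, F.W_map h hh c hc v⟩
  have := F.W_map h⁻¹ (H.inv_mem hh) (h c) (F.stable h hh c hc) _ hv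
  have e : ∀ v, (h⁻¹ : V ≃ₗ[ZMod 2] V) (h v) = v := fun v => h.symm_apply_apply v
  rwa [e, e] at this

theorem card_D_eq (F : SixFam q b H O D W) {c c' : V} (hc : c ∈ O) (hc' : c' ∈ O) :
    Nat.card (D c) = Nat.card (D c') := by
  obtain ⟨h, hh, rfl⟩ := F.trans c hc c' hc'
  refine Nat.card_congr ⟨fun v => ⟨h v, F.D_map h hh c hc v v.2⟩,
    fun v => ⟨h.symm v, (F.D_map_iff hh hc _).1 (by rw [h.apply_symm_apply]; exact v.2)⟩, ?_, ?_⟩
  · intro v; exact Subtype.ext (h.symm_apply_apply _)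
  · intro v; exact Subtype.ext (h.apply_symm_apply _)

theorem card_W_eq (F : SixFam q b H O D W) {c c' : V} (hc : c ∈ O) (hc' : c' ∈ O) :
    Nat.card (W c) = Nat.card (W c') := by
  obtain ⟨h, hh, rfl⟩ := F.trans c hc c' hc'
  refine Nat.card_congr ⟨fun v => ⟨h v, F.W_map h hh c hc v v.2⟩,
    fun v => ⟨h.symm v, (F.W_map_iff hh hc _).1 (by rw [h.apply_symm_apply]; exact v.2)⟩, ?_, ?_⟩
  · intro v; exact Subtype.ext (h.symm_apply_apply _)
  · intro v; exact Subtype.ext (h.apply_symm_apply _)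

end SixFam

end Cfsg.Agent.LargeExtra.Six
end

-- part: LargeExtra/SixInst
section
/-!
# The abstract six-dimensional family of a pair (helper73)

`sixFam : SixFam p.lz.q p.lz.b p.H (orb p) (fD p) (fW p)` for a pair `p` with `|V| = 64`; `orb p = ã^H`,
`fD p (f ã) = f D̃`, `fW p (f ã) = f W̃` for `f ∈ H`.
-/

set_option autoImplicit false

namespace Cfsg.Agent.LargeExtra.SixInst

open Cfsg.Agent.Co2Type.Quad Cfsg.Agent.LargeExtra.Base Cfsg.Agent.LargeExtra.TwoCentral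
open Cfsg.Agent.LargeExtra.Siegel Cfsg.Agent.LargeExtra.SiegelOrbit
open Cfsg.Agent.LieClassical.OrthCore

variable {G : Type*} [Group G] {Q A : Subgroup G} {z a : G}

theorem W_inv (p : Pair Q z A a) {f : p.lz.V ≃ₗ[ZMod 2] p.lz.V} (hf : f ∈ p.H)
    (hfa : f p.va = p.va) {w : p.lz.V} (hw : w ∈ pW p) : f w ∈ pW p := by
  obtain ⟨h1, h2⟩ := hw
  have h3 := p.X_normal hf hfa h2
  have h4 : p.lz.b p.va (f w) = 0 := by
    nth_rewrite 1 [← hfa]
    rw [b_of_mem_O p.lz (H_le_O p hf)]; exact h1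
  have h5 := sg_conj p.lz (H_le_O p hf) (q_va p) h1 (by rw [hfa]; exact q_va p)
    (by rw [hfa]; exact h4)
  rw [h5, sg_congr p.lz _ _ (q_va p) h4 hfa rfl] at h3
  exact ⟨h4, h3⟩

/-- the orbit of `ã` -/
def orb (p : Pair Q z A a) : Set p.lz.V := {v | ∃ f ∈ p.H, f p.va = v}

/-- transport of an `H_ã`-invariant submodule along the orbit -/
noncomputable def fam (p : Pair Q z A a) (S : Submodule (ZMod 2) p.lz.V) (c : p.lz.V) :
    Submodule (ZMod 2) p.lz.V := by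
  classical
  exact if h : ∃ f ∈ p.H, f p.va = c then S.map (h.choose : p.lz.V →ₗ[ZMod 2] p.lz.V) else ⊥

/-- `S` is invariant under the stabiliser of `ã` -/
def Inv (p : Pair Q z A a) (S : Submodule (ZMod 2) p.lz.V) : Prop :=
  ∀ f ∈ p.H, f p.va = p.va → ∀ v ∈ S, f v ∈ S

theorem fam_eq (p : Pair Q z A a) {S : Submodule (ZMod 2) p.lz.V} (hS : Inv p S)
    {f : p.lz.V ≃ₗ[ZMod 2] p.lz.V} (hf : f ∈ p.H) :
    fam p S (f p.va) = S.map (f : p.lz.V →ₗ[ZMod 2] p.lz.V) := by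
  classical
  have hex : ∃ g ∈ p.H, g p.va = f p.va := ⟨f, hf, rfl⟩
  have e : fam p S (f p.va) = S.map (hex.choose : p.lz.V →ₗ[ZMod 2] p.lz.V) := by
    rw [fam, dif_pos hex]
  rw [e]
  obtain ⟨h1, h2⟩ := hex.choose_spec
  generalize hex.choose = g at h1 h2
  have key : ∀ g g' : p.lz.V ≃ₗ[ZMod 2] p.lz.V, g ∈ p.H → g' ∈ p.H → g p.va = g' p.va →
      S.map (g : p.lz.V →ₗ[ZMod 2] p.lz.V) ≤ S.map (g' : p.lz.V →ₗ[ZMod 2] p.lz.V) := by
    rintro g g' hg hg' hgg _ ⟨s, hs, rfl⟩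
    refine ⟨g'⁻¹ (g s), ?_, ?_⟩
    · refine hS (g'⁻¹ * g) (p.H.mul_mem (p.H.inv_mem hg') hg) ?_ s hs
      show g'⁻¹ (g p.va) = p.va
      rw [hgg, apply_inv]
    · show g' (g'⁻¹ (g s)) = g s
      rw [inv_apply]
  exact le_antisymm (key g f h1 hf h2) (key f g hf h1 h2.symm)

theorem mem_fam (p : Pair Q z A a) {S : Submodule (ZMod 2) p.lz.V} (hS : Inv p S)
    {f : p.lz.V ≃ₗ[ZMod 2] p.lz.V} (hf : f ∈ p.H) {v : p.lz.V} :
    v ∈ fam p S (f p.va) ↔ ∃ s ∈ S, f s = v := by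
  rw [fam_eq p hS hf]
  rfl

theorem fam_map (p : Pair Q z A a) {S : Submodule (ZMod 2) p.lz.V} (hS : Inv p S)
    {h : p.lz.V ≃ₗ[ZMod 2] p.lz.V} (hh : h ∈ p.H) {c : p.lz.V} (hc : c ∈ orb p) {v : p.lz.V}
    (hv : v ∈ fam p S c) : h v ∈ fam p S (h c) := by
  obtain ⟨f, hf, rfl⟩ := hc
  rw [mem_fam p hS hf] at hv
  obtain ⟨s, hs, rfl⟩ := hv
  exact (mem_fam p hS (p.H.mul_mem hh hf)).2 ⟨s, hs, rfl⟩

theorem inv_D (p : Pair Q z A a) : Inv p p.D := fun _ hf hfa _ hv => p.D_inv hf hfa hv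

theorem inv_W (p : Pair Q z A a) : Inv p (pW p) := fun _ hf hfa _ hv => W_inv p hf hfa hv

theorem card_map (p : Pair Q z A a) (S : Submodule (ZMod 2) p.lz.V)
    (f : p.lz.V ≃ₗ[ZMod 2] p.lz.V) :
    Nat.card (S.map (f : p.lz.V →ₗ[ZMod 2] p.lz.V)) = Nat.card S :=
  (Nat.card_congr (LinearEquiv.submoduleMap f S).toEquiv).symm

/-- **the instance** -/
theorem sixFam [Finite G] (p : Pair Q z A a) (hV : Nat.card p.lz.V = 64) :
    Six.SixFam p.lz.q p.lz.b p.H (orb p) (fam p p.D) (fam p (pW p)) where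
  card := hV
  q_add := p.lz.q_add'
  nondeg := fun v hv => p.lz.b_nondeg hv
  q_H := fun h hh v => H_le_O p hh v
  ne := ⟨p.va, 1, p.H.one_mem, rfl⟩
  zero := by
    rintro _ ⟨f, hf, rfl⟩ h0
    exact p.va_ne (f.map_eq_zero_iff.1 h0)
  stable := by
    rintro h hh _ ⟨f, hf, rfl⟩
    exact ⟨h * f, p.H.mul_mem hh hf, rfl⟩
  trans := by
    rintro _ ⟨f, hf, rfl⟩ _ ⟨g, hg, rfl⟩
    refine ⟨g * f⁻¹, p.H.mul_mem hg (p.H.inv_mem hf), ?_⟩
    show g (f⁻¹ (f p.va)) = g p.va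
    rw [apply_inv]
  self_D := by
    rintro _ ⟨f, hf, rfl⟩
    exact (mem_fam p (inv_D p) hf).2 ⟨p.va, p.va_mem_D, rfl⟩
  q_D := by
    rintro _ ⟨f, hf, rfl⟩ v hv
    obtain ⟨s, hs, rfl⟩ := (mem_fam p (inv_D p) hf).1 hv
    rw [q_of_mem_O p.lz (H_le_O p hf)]
    exact p.q_D hs
  self_W := by
    rintro _ ⟨f, hf, rfl⟩
    exact (mem_fam p (inv_W p) hf).2 ⟨p.va, va_mem_pW p, rfl⟩
  perp_W := by
    rintro _ ⟨f, hf, rfl⟩ v hv
    obtain ⟨s, hs, rfl⟩ := (mem_fam p (inv_W p) hf).1 hv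
    rw [b_of_mem_O p.lz (H_le_O p hf)]
    exact hs.1
  D_map := fun h hh c hc v hv => fam_map p (inv_D p) hh hc hv
  W_map := fun h hh c hc v hv => fam_map p (inv_W p) hh hc hv
  siegel := by
    rintro _ ⟨f, hf, rfl⟩ w hw
    obtain ⟨s, hs, rfl⟩ := (mem_fam p (inv_W p) hf).1 hw
    refine ⟨f * sg p.lz p.va s (q_va p) hs.1 * f⁻¹,
      p.H.mul_mem (p.H.mul_mem hf (p.X_le_H hs.2)) (p.H.inv_mem hf), fun v => ?_⟩
    rw [sg_conj p.lz (H_le_O p hf) (q_va p) hs.1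
      (by rw [q_of_mem_O p.lz (H_le_O p hf)]; exact q_va p)
      (by rw [b_of_mem_O p.lz (H_le_O p hf)]; exact hs.1), sg_apply, Six.sg, p.lz.b_comm v,
      p.lz.b_comm v, add_smul]
    abel
  cap := by
    rintro _ ⟨f, hf, rfl⟩ v hv hw
    obtain ⟨s, hs, rfl⟩ := (mem_fam p (inv_D p) hf).1 hv
    have h1 : s = 0 ∨ s = p.va := by
      apply eq_of_mem_D_perp p (fun g hg => exists_sg64 p hV hg) hs
      intro w hw'
      have h2 := hw (f w) ((mem_fam p (inv_W p) hf).2 ⟨w, hw', rfl⟩)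
      rw [b_of_mem_O p.lz (H_le_O p hf)] at h2
      rw [p.lz.b_comm]; exact h2
    rcases h1 with rfl | rfl
    · left; rw [map_zero]
    · right; rfl
  card_DW := by
    rintro _ ⟨f, hf, rfl⟩
    rw [fam_eq p (inv_D p) hf, fam_eq p (inv_W p) hf, card_map p, card_map p, mul_comm, ← hV]
    exact card_pW p fun g hg => exists_sg64 p hV hg

/-- the value of the family at `ã` -/
theorem fam_va (p : Pair Q z A a) {S : Submodule (ZMod 2) p.lz.V} (hS : Inv p S) :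
    fam p S p.va = S := by
  have h1 := fam_eq p hS p.H.one_mem
  have h2 : (1 : p.lz.V ≃ₗ[ZMod 2] p.lz.V) p.va = p.va := rfl
  rw [h2] at h1
  rw [h1]
  ext v
  constructor
  · rintro ⟨s, hs, rfl⟩; exact hs
  · intro hv; exact ⟨v, hv, rfl⟩

theorem va_mem_orb (p : Pair Q z A a) : p.va ∈ orb p := ⟨1, p.H.one_mem, rfl⟩

/-- normal 2-subgroups of `H` are trivial (form for `Six`) -/
theorem o2_H [Finite G] (p : Pair Q z A a) (hO : O2 p.lz) (N : Subgroup (p.lz.V ≃ₗ[ZMod 2] p.lz.V))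
    (hN : N ≤ p.H) (hn : ∀ h ∈ p.H, ∀ g ∈ N, h * g * h⁻¹ ∈ N)
    (h2 : ∀ g ∈ N, ∃ k : ℕ, g ^ 2 ^ k = 1) : ∀ g ∈ N, g = 1 :=
  fun _ hg => eq_one_of_normal p.lz hO hN hn h2 hg

/-- `H` fixes no nonzero vector (form for `Six`) -/
theorem no_fixed [Finite G] (hG : ∀ H : Subgroup G, H.index ≠ 2) (p : Pair Q z A a)
    (h8 : 8 < Nat.card Q) {v : p.lz.V} (hv : ∀ h ∈ p.H, h v = v) : v = 0 :=
  TOne.eq_zero_of_fixed hG p.lz h8 fun c => hv _ ⟨c, rfl⟩

end Cfsg.Agent.LargeExtra.SixInst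
end
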