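import Cfsg.Agent.LargeExtra.WC2
import Cfsg.Agent.LargeExtra.Local
import Cfsg.Agent.LargeExtra.TwoCentral
import Cfsg.Agent.LargeExtra.LemmaR
import Cfsg.Agent.LargeExtra.Perp
import Cfsg.Agent.SporRec.LyReduce
set_option linter.all false

-- part: LargeExtra/WCIrrA
section
/-!
# Large extraspecial 2-subgroups, case I (`z` weakly closed in `Q`), any width: good pairs (helper821)

`Base P Q`: `P` a conjugacy class of involutions, `Q p` the large extraspecial subgroup of `p ∈ P`,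
`P ∩ Q p = {p}`.  `Good P p t`: `p, t ∈ P` are distinct, commute, and `p t ∉ P`.
-/

set_option autoImplicit false

namespace Cfsg.Agent.LargeExtra.WCIrr

open Cfsg.Agent.Co2Type.Quad Cfsg.Agent.LargeExtra.WC

/-- `P` a conjugacy class of involutions, `Q p` the large extraspecial subgroup of `p ∈ P`,
`P ∩ Q p = {p}` -/
structure Base {G : Type*} [Group G] (P : Set G) (Q : G → Subgroup G) : Prop where
  conj_mem : ∀ p ∈ P, ∀ g : G, g * p * g⁻¹ ∈ P
  exists_conj : ∀ p ∈ P, ∀ q ∈ P, ∃ g : G, g * p * g⁻¹ = q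
  large : ∀ p ∈ P, Large (Q p) p
  Q_conj : ∀ p ∈ P, ∀ g x : G, x ∈ Q p → g * x * g⁻¹ ∈ Q (g * p * g⁻¹)
  eq_of_mem : ∀ p ∈ P, ∀ x ∈ P, x ∈ Q p → x = p

/-- good pairs -/
structure Good {G : Type*} [Group G] (P : Set G) (p t : G) : Prop extends Com P p t where
  nmem : p * t ∉ P

section base

variable {G : Type*} [Group G] {P : Set G} {Q : G → Subgroup G} (B : Base P Q)
include B

theorem Base.sq {p : G} (hp : p ∈ P) : p * p = 1 := (B.large p hp).z_sq

theorem Base.inv {p : G} (hp : p ∈ P) : p⁻¹ = p := (B.large p hp).z_inv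

theorem Base.conj_iff {p : G} (hp : p ∈ P) (g x : G) : g * x * g⁻¹ ∈ Q (g * p * g⁻¹) ↔ x ∈ Q p := by
  constructor
  · intro h
    have h1 := B.Q_conj _ (B.conj_mem p hp g) g⁻¹ _ h
    have e1 : g⁻¹ * (g * x * g⁻¹) * g⁻¹⁻¹ = x := by group
    have e2 : g⁻¹ * (g * p * g⁻¹) * g⁻¹⁻¹ = p := by group
    rwa [e1, e2] at h1
  · exact B.Q_conj p hp g x

theorem Base.card_eq {p t : G} (hp : p ∈ P) (ht : t ∈ P) : Nat.card (Q p) = Nat.card (Q t) := by
  obtain ⟨g, rfl⟩ := B.exists_conj p hp t ht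
  apply Nat.card_congr
  exact
    { toFun := fun x => ⟨g * x * g⁻¹, B.Q_conj p hp g x x.2⟩
      invFun := fun x => ⟨g⁻¹ * x * g, by
        rw [← B.conj_iff hp g]
        have : g * (g⁻¹ * (x : G) * g) * g⁻¹ = x := by group
        rw [this]; exact x.2⟩
      left_inv := fun x => Subtype.ext (by show g⁻¹ * (g * (x : G) * g⁻¹) * g = x; group)
      right_inv := fun x => Subtype.ext (by show g * (g⁻¹ * (x : G) * g) * g⁻¹ = x; group) }

end base

namespace Com

open Cfsg.Agent.LargeExtra.WC.Com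

variable {G : Type*} [Group G] {P : Set G} {Q : G → Subgroup G} {p t : G}

variable (B : Base P Q) (c : Com P p t)
include B c

theorem notMem : t ∉ Q p := fun h => c.ne (B.eq_of_mem p c.hp t c.ht h).symm

/-- `[x, t]` for `x ∈ Q p` -/
theorem u_mem {x : G} (hx : x ∈ Q p) : t * x * t⁻¹ * x⁻¹ ∈ Q p :=
  mul_mem ((B.large p c.hp).conj_mem t c.com.symm x hx) (inv_mem hx)

theorem inv_aux {x : G} : t * (t * x * t⁻¹ * x⁻¹) * t⁻¹ = (t * x * t⁻¹ * x⁻¹)⁻¹ := by
  have h1 := B.sq c.ht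
  have h2 := B.inv c.ht
  simp only [mul_inv_rev, inv_inv, h2]
  calc t * (t * x * t * x⁻¹) * t = (t * t) * (x * t * x⁻¹ * t) := by group
    _ = _ := by rw [h1]; group

/-- `x t x⁻¹ = t [t, x]` -/
theorem conj_eq (x : G) : x * t * x⁻¹ = t * (t * x * t⁻¹ * x⁻¹) := by
  have h1 := B.sq c.ht
  have h2 := B.inv c.ht
  calc x * t * x⁻¹ = (t * t) * (x * t⁻¹ * x⁻¹) := by rw [h1, h2, one_mul]
    _ = _ := by group

/-- action of `t` on `Q p / ⟨p⟩` -/
noncomputable def T : (B.large p c.hp).V ≃ₗ[ZMod 2] (B.large p c.hp).V :=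
  ac (B.large p c.hp) t c.com.symm

theorem T_inv : (qs (B.large p c.hp)).Inv (Com.T B c) := by
  refine ⟨ac_iso _ _ _, fun v => ?_⟩
  obtain ⟨x, hx, rfl⟩ := pr_surj _ v
  rw [T, ac_pr, ac_pr]
  congr 1
  apply Subtype.ext
  show t * (t * x * t⁻¹) * t⁻¹ = x
  calc t * (t * x * t⁻¹) * t⁻¹ = (t * t) * x * (t * t)⁻¹ := by group
    _ = x := by rw [B.sq c.ht]; group

theorem T_ne [Finite G] : ∃ v, Com.T B c v ≠ v := by
  by_contra hcon
  push Not at hcon
  exact notMem B c (mem_of_ac _ _ _ hcon)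

/-- `D = Q p ∩ Q t` -/
theorem D_sq {d : G} (h1 : d ∈ Q p) (h2 : d ∈ Q t) : d * d = 1 := by
  rcases (B.large p c.hp).sq d h1 with h | h
  · exact h
  · rcases (B.large t c.ht).sq d h2 with h' | h'
    · exact h'
    · exact absurd (h.symm.trans h') c.ne

theorem D_comm {d e : G} (h1 : d ∈ Q p) (h2 : d ∈ Q t) (h3 : e ∈ Q p) (h4 : e ∈ Q t) :
    d * e = e * d := by
  rcases (B.large p c.hp).comm d h1 e h3 with h | h
  · exact h
  · rcases (B.large t c.ht).comm d h2 e h4 with h' | h'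
    · exact h'
    · exfalso
      rw [h] at h'
      exact c.ne (mul_left_cancel h')

/-- `D` is central in `C_{Q p}(t)` -/
theorem D_central {d r : G} (h1 : d ∈ Q p) (h2 : d ∈ Q t) (h3 : r ∈ Q p) (h4 : r * t = t * r) :
    r * d = d * r := by
  have hc : r * d * r⁻¹ * d⁻¹ ∈ Q t :=
    mul_mem ((B.large t c.ht).conj_mem r h4 d h2) (inv_mem h2)
  rcases (B.large p c.hp).comm r h3 d h1 with h | h
  · exact h
  · exfalso
    have e : r * d * r⁻¹ * d⁻¹ = p := by
      rw [h, mul_assoc (d * r), ((B.large p c.hp).commz h3).inv_left.eq.symm,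
        mul_assoc (d * r), mul_assoc r⁻¹, ((B.large p c.hp).commz h1).inv_left.eq.symm]
      group
    rw [e] at hc
    exact notMem B c.symm hc

/-- elements of `D` commute with `t` -/
theorem D_t {d : G} (h2 : d ∈ Q t) : d * t = t * d := (B.large t c.ht).comm_z d h2

theorem D_p {d : G} (h1 : d ∈ Q p) : d * p = p * d := (B.large p c.hp).comm_z d h1

/-- `[R, X] ≤ D` -/
theorem RX {r x : G} (hr : r ∈ Q p) (hrt : r * t = t * r) (hx : x ∈ Q t) (hxp : x * p = p * x) :
    x * r * x⁻¹ * r⁻¹ ∈ Q p ⊓ Q t := by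
  refine Subgroup.mem_inf.2 ⟨mul_mem ((B.large p c.hp).conj_mem x hxp r hr) (inv_mem hr), ?_⟩
  have h3 := (B.large t c.ht).conj_mem r hrt x⁻¹ (inv_mem hx)
  have h4 := mul_mem hx h3
  have e : x * (r * x⁻¹ * r⁻¹) = x * r * x⁻¹ * r⁻¹ := by group
  rwa [e] at h4

end Com

namespace Good

variable {G : Type*} [Group G] {P : Set G} {Q : G → Subgroup G} {p t : G}

theorem symm (c : Good P p t) : Good P t p := by
  refine ⟨c.toCom.symm, ?_⟩
  rw [← c.com]; exact c.nmem

variable (B : Base P Q) (c : Good P p t)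
include B c

/-- no `x` conjugates `t` to `t p` -/
theorem tau (y : G) : y * t * y⁻¹ ≠ t * p := by
  intro h
  apply c.nmem
  rw [c.com, ← h]
  exact B.conj_mem t c.ht y

theorem ne_p (x : G) : t * x * t⁻¹ * x⁻¹ ≠ p := by
  intro h
  apply c.tau B x
  rw [Com.conj_eq B c.toCom, h]

theorem sq_comm {x : G} (hx : x ∈ Q p) : (t * x * t⁻¹ * x⁻¹) * (t * x * t⁻¹ * x⁻¹) = 1 := by
  rcases (B.large p c.hp).sq _ (Com.u_mem B c.toCom hx) with h | h
  · exact h
  · exfalso
    have h1 := Com.inv_aux B c.toCom (x := x)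
    have hu := Com.u_mem B c.toCom hx
    revert h h1 hu
    generalize t * x * t⁻¹ * x⁻¹ = u
    intro h h1 hu
    have h2 : u⁻¹ = u * p := by
      rw [inv_eq_iff_mul_eq_one, ← mul_assoc, h]; exact B.sq c.hp
    refine c.tau B u⁻¹ ?_
    rw [inv_inv, mul_assoc, inv_mul_eq_iff_eq_mul]
    have h3 : t * u = u * p * t := by
      rw [← h2, ← h1]; group
    rw [h3, mul_assoc, c.com]

theorem comm_of {x : G} (h : (t * x * t⁻¹ = x ∨ t * x * t⁻¹ = x * p)) (hx : x ∈ Q p) : t * x = x * t := by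
  rcases h with h | h
  · rw [mul_inv_eq_iff_eq_mul] at h; exact h
  · exfalso
    refine c.ne_p B x ?_
    rw [h, ((B.large p c.hp).commz hx).eq]; group

/-- `W` is totally singular -/
theorem q_W {w : (B.large p c.hp).V} (hw : w ∈ QS.W (Com.T B c.toCom)) : (B.large p c.hp).q w = 0 := by
  obtain ⟨v, rfl⟩ := hw
  obtain ⟨x, hx, rfl⟩ := pr_surj _ v
  show (B.large p c.hp).q (Com.T B c.toCom ((B.large p c.hp).pr ⟨x, hx⟩) +
    (B.large p c.hp).pr ⟨x, hx⟩) = 0
  rw [Com.T, ac_add]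
  exact (B.large p c.hp).q_eq_zero.2 (c.sq_comm B hx)

theorem fix_iff {x : G} (hx : x ∈ Q p) :
    (B.large p c.hp).pr ⟨x, hx⟩ ∈ (qs (B.large p c.hp)).perp (QS.W (Com.T B c.toCom)) ↔
      t * x = x * t := by
  rw [← (Com.T_inv B c.toCom).fix_iff, Com.T, ac_pr, (B.large p c.hp).pr_eq_pr]
  constructor
  · exact fun h => c.comm_of B h hx
  · intro h; left
    show t * x * t⁻¹ = x
    rw [h]; group

/-- `D̃ ≤ W` -/
theorem D_le [Finite G] {d : G} (h1 : d ∈ Q p) (h2 : d ∈ Q t) :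
    (B.large p c.hp).pr ⟨d, h1⟩ ∈ QS.W (Com.T B c.toCom) := by
  rw [← (qs (B.large p c.hp)).perp_perp (QS.W (Com.T B c.toCom)), QS.mem_perp]
  intro v hv
  obtain ⟨r, hr, rfl⟩ := pr_surj _ v
  rw [c.fix_iff B] at hv
  exact ((B.large p c.hp).b_pr _ _).2 (Com.D_central B c.toCom h1 h2 hr hv.symm)

/-- if `[t, x]` is `d ∈ D` modulo `⟨p⟩`, `d ≠ 1`, then `t^x = t d p` -/
theorem conj_of {x d : G} (hx : x ∈ Q p) (h1 : d ∈ Q p) (h2 : d ∈ Q t) (hd : d ≠ 1)
    (h : Com.T B c.toCom ((B.large p c.hp).pr ⟨x, hx⟩) + (B.large p c.hp).pr ⟨x, hx⟩ =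
      (B.large p c.hp).pr ⟨d, h1⟩) : x * t * x⁻¹ = t * (d * p) := by
  rw [Com.T, ac_add, (B.large p c.hp).pr_eq_pr] at h
  rcases h with h | h
  · exfalso
    have h3 : x * t * x⁻¹ = t * d := by rw [Com.conj_eq B c.toCom]; exact congrArg (t * ·) h
    have h4 : t * d ∈ P := h3 ▸ B.conj_mem t c.ht x
    have h5 := B.eq_of_mem t c.ht _ h4 (mul_mem (B.large t c.ht).z_mem h2)
    exact hd (mul_eq_left.1 h5)
  · rw [Com.conj_eq B c.toCom]; exact congrArg (t * ·) h

/-- each `d ∈ D`, `d ≠ 1`, has `x ∈ Q p` with `t^x = t d p` -/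
theorem exists_x [Finite G] {d : G} (h1 : d ∈ Q p) (h2 : d ∈ Q t) (hd : d ≠ 1) :
    ∃ x ∈ Q p, x * t * x⁻¹ = t * (d * p) := by
  obtain ⟨v, hv⟩ := c.D_le B h1 h2
  obtain ⟨x, hx, rfl⟩ := pr_surj _ v
  exact ⟨x, hx, c.conj_of B hx h1 h2 hd hv⟩

theorem T_of_conj {x d : G} (hx : x ∈ Q p) (h1 : d ∈ Q p) (h : x * t * x⁻¹ = t * (d * p)) :
    Com.T B c.toCom ((B.large p c.hp).pr ⟨x, hx⟩) + (B.large p c.hp).pr ⟨x, hx⟩ =
      (B.large p c.hp).pr ⟨d, h1⟩ := by
  rw [Com.T, ac_add, (B.large p c.hp).pr_eq_pr]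
  right
  rw [Com.conj_eq B c.toCom] at h
  exact mul_left_cancel h

/-- `[d, x_d] = 1` -/
theorem comm_x {x d : G} (hx : x ∈ Q p) (h1 : d ∈ Q p)
    (h : x * t * x⁻¹ = t * (d * p)) : x * d = d * x := by
  have h3 := c.T_of_conj B hx h1 h
  have h4 := (Com.T_inv B c.toCom).iso.q_f ((B.large p c.hp).pr ⟨x, hx⟩)
  rw [h3] at h4
  have h5 : (B.large p c.hp).q ((B.large p c.hp).pr ⟨d, h1⟩) = 0 := by
    rw [← h3]; exact c.q_W B (QS.f_mem_W _ _)
  have h6 : (B.large p c.hp).b ((B.large p c.hp).pr ⟨x, hx⟩) ((B.large p c.hp).pr ⟨d, h1⟩) = 0 :=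
    h4.symm.trans h5
  exact ((B.large p c.hp).b_pr _ _).1 h6

/-- `[d, x_e] = p` for `d ≠ e` -/
theorem comm_x' [Finite G] {x d e : G} (hx : x ∈ Q p) (h1 : d ∈ Q p) (h2 : d ∈ Q t) (h3 : e ∈ Q p)
    (h4 : e ∈ Q t) (hd : d ≠ 1) (hde : d ≠ e) (h : x * t * x⁻¹ = t * (e * p)) : x * d * x⁻¹ = d * p := by
  rcases (B.large p c.hp).comm x hx d h1 with h5 | h5
  · exfalso
    -- `d ∈ Q (t e p)`
    have h6 : d ∈ Q (t * (e * p)) := by
      rw [← h]
      have : d = x * d * x⁻¹ := by rw [h5]; group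
      rw [this]
      exact B.Q_conj t c.ht x d h2
    have hr : t * (e * p) ∈ P := by rw [← h]; exact B.conj_mem t c.ht x
    -- the pair `(p, t e p)` is good
    have hpx : x * p * x⁻¹ = p := by rw [(B.large p c.hp).comm_z x hx]; group
    have c' : Good P p (t * (e * p)) := by
      refine ⟨⟨c.hp, hr, ?_, ?_⟩, ?_⟩
      · intro h7
        have : p ∈ Q t := by
          have h8 : p = t * (e * p) := h7
          have h9 : t * e = 1 := by
            have : t * e * p = p := by rw [mul_assoc]; exact h8.symm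
            exact mul_eq_right.1 this
          exfalso
          have h10 : e = t := by
            rw [← B.inv c.ht]; exact (inv_eq_of_mul_eq_one_right h9).symm
          rw [h10] at h3
          exact Com.notMem B c.toCom h3
        exact Com.notMem B c.toCom.symm this
      · have e1 := Com.D_p B c.toCom h3
        have e2 := c.com
        calc p * (t * (e * p)) = (p * t) * (e * p) := by group
          _ = t * (p * e) * p := by rw [e2]; group
          _ = t * (e * p) * p := by rw [← e1]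
      · have : p * (t * (e * p)) = x * (p * t) * x⁻¹ := by
          calc p * (t * (e * p)) = (x * p * x⁻¹) * (x * t * x⁻¹) := by rw [hpx, h]
            _ = _ := by group
        rw [this]
        intro h7
        apply c.nmem
        have h8 := B.conj_mem _ h7 x⁻¹
        have h9 : x⁻¹ * (x * (p * t) * x⁻¹) * x⁻¹⁻¹ = p * t := by group
        rwa [h9] at h8
    obtain ⟨y, hy, hy2⟩ := c'.exists_x B h1 h6 hd
    have h7 : y * (t * (e * p)) * y⁻¹ = t * (e * d) := by
      rw [hy2]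
      have e1 := Com.D_p B c.toCom h1
      calc t * (e * p) * (d * p) = t * e * (p * (d * p)) := by group
        _ = t * e * (p * (p * d)) := by rw [e1]
        _ = t * e * ((p * p) * d) := by group
        _ = t * (e * d) := by rw [B.sq c.hp]; group
    have h8 : t * (e * d) ∈ P := by rw [← h7]; exact B.conj_mem _ hr y
    have h9 := B.eq_of_mem t c.ht _ h8 (mul_mem (B.large t c.ht).z_mem (mul_mem h4 h2))
    have h10 : e * d = 1 := mul_eq_left.1 h9
    apply hde
    have h11 := Com.D_sq B c.toCom h3 h4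
    have : e * d = e * e := h10.trans h11.symm
    exact mul_left_cancel this
  · rw [h5, mul_assoc (d * x), ← ((B.large p c.hp).commz hx).inv_left.eq]
    group

/-- `|D| ≤ 4` -/
theorem D_three [Finite G] {d e f : G} (hd1 : d ∈ Q p) (hd2 : d ∈ Q t) (he1 : e ∈ Q p) (he2 : e ∈ Q t)
    (hf1 : f ∈ Q p) (hf2 : f ∈ Q t) (hd : d ≠ 1) (he : e ≠ 1) (hf : f ≠ 1) (hde : d ≠ e) (hdf : d ≠ f)
    (hef : e ≠ f) : f = d * e := by
  by_contra hne
  obtain ⟨x, hx, hxf⟩ := c.exists_x B hf1 hf2 hf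
  have h1 := c.comm_x' B hx hd1 hd2 hf1 hf2 hd hdf hxf
  have h2 := c.comm_x' B hx he1 he2 hf1 hf2 he hef hxf
  have hde1 : d * e ≠ 1 := by
    intro h
    apply hde
    rw [← inv_eq_of_mul_eq_one_left (Com.D_sq B c.toCom he1 he2)]
    exact eq_inv_of_mul_eq_one_left h
  have h3 := c.comm_x' B hx (mul_mem hd1 he1) (mul_mem hd2 he2) hf1 hf2 hde1 (Ne.symm hne) hxf
  have h4 : x * (d * e) * x⁻¹ = d * e := by
    calc x * (d * e) * x⁻¹ = (x * d * x⁻¹) * (x * e * x⁻¹) := by group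
      _ = d * p * (e * p) := by rw [h1, h2]
      _ = d * p * (p * e) := by rw [Com.D_p B c.toCom he1]
      _ = d * (p * p) * e := by group
      _ = d * e := by rw [B.sq c.hp]; group
  rw [h4] at h3
  exact (B.large p c.hp).z_ne (mul_eq_left.1 h3.symm)

end Good

end Cfsg.Agent.LargeExtra.WCIrr
end

-- part: LargeExtra/WCIrrB
section
/-!
# Large extraspecial 2-subgroups, case I, any width: the dichotomy (helper821)

For a good pair `(p, t)`: if `X = C_{Q t}(p)` is nonabelian, then `W = D̃` and `|D| = 4`.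
-/

set_option autoImplicit false

namespace Cfsg.Agent.LargeExtra.WCIrr

open Cfsg.Agent.Co2Type.Quad Cfsg.Agent.LargeExtra.WC

/-! ### linear algebra -/

section lin

variable {V : Type*} [AddCommGroup V] [Module (ZMod 2) V] {S : QS V}

theorem add_cancel_pair (a b c e v : V) : a + e = (a + b + (c + v)) + (e + c + (b + v)) := by
  have h : (a + b + (c + v)) + (e + c + (b + v)) = a + e + (b + b) + (c + c) + (v + v) := by abel
  rw [h, vadd_self, vadd_self, vadd_self, add_zero, add_zero, add_zero]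

theorem duality [Finite V] {U W : Submodule (ZMod 2) V} {X : V ≃ₗ[ZMod 2] V} (hX : S.Iso X)
    (hXU : ∀ u ∈ U, X u = u) (hXW : ∀ r ∈ S.perp W, X r + r ∈ U) {v : V} (hv : v ∈ S.perp U) :
    X v + v ∈ W := by
  rw [← S.perp_perp W, S.mem_perp]
  intro r hr
  have h1 := hXW r hr
  have h2 : S.b r (X v + v) = S.b (X r + r) (X v) := by
    rw [map_add, map_add, LinearMap.add_apply, hX.b_eq, add_comm]
  rw [h2]
  have h3 : S.b (X r + r) (X v) = S.b (X (X r + r)) (X v) := by rw [hXU _ h1]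
  rw [h3, hX.b_eq]
  exact S.mem_perp.1 hv _ h1

theorem quad [Finite V] {U W : Submodule (ZMod 2) V} {X Y : V ≃ₗ[ZMod 2] V} (hX : S.Iso X) (hY : S.Iso Y)
    (hXU : ∀ u ∈ U, X u = u) (hYU : ∀ u ∈ U, Y u = u) (hXW : ∀ r ∈ S.perp W, X r + r ∈ U)
    (hYW : ∀ r ∈ S.perp W, Y r + r ∈ U) (hW : W ≤ S.perp W) {v : V} (hv : v ∈ S.perp U) :
    X (Y v) + Y (X v) ∈ U := by
  have h1 := duality hX hXU hXW hv
  have h2 := duality hY hYU hYW hv
  have h3 := hXW _ (hW h2)
  have h4 := hYW _ (hW h1)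
  have h5 := U.add_mem h3 h4
  rw [map_add, map_add] at h5
  rw [add_cancel_pair (X (Y v)) (X v) (Y v) (Y (X v)) v]
  exact h5

theorem card_four {W : Submodule (ZMod 2) V} {a b : V} (ha : a ∈ W) (hb : b ∈ W) (ha0 : a ≠ 0)
    (hb0 : b ≠ 0) (hab : a ≠ b) (h : ∀ v ∈ W, v = 0 ∨ v = a ∨ v = b ∨ v = a + b) : Nat.card W = 4 := by
  classical
  have hab0 : a + b ≠ 0 := fun h => hab (eq_of_add h)
  have haab : a ≠ a + b := fun h => hb0 (left_eq_add.1 h)
  have hbab : b ≠ a + b := fun h => ha0 (right_eq_add.1 h)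
  have h1 : (W : Set V) = (({0, a, b, a + b} : Finset V) : Set V) := by
    ext v
    simp only [SetLike.mem_coe, Finset.coe_insert, Finset.coe_singleton, Set.mem_insert_iff,
      Set.mem_singleton_iff]
    constructor
    · exact h v
    · rintro (rfl | rfl | rfl | rfl)
      · exact W.zero_mem
      · exact ha
      · exact hb
      · exact W.add_mem ha hb
  have h2 : Nat.card W = Nat.card (W : Set V) := rfl
  rw [h2, h1, Nat.card_coe_set_eq, Set.ncard_coe_finset, Finset.card_insert_of_notMem,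
    Finset.card_insert_of_notMem, Finset.card_insert_of_notMem, Finset.card_singleton]
  · simpa using hbab
  · simp only [Finset.mem_insert, Finset.mem_singleton, not_or]
    exact ⟨hab, haab⟩
  · simp only [Finset.mem_insert, Finset.mem_singleton, not_or]
    exact ⟨Ne.symm ha0, Ne.symm hb0, Ne.symm hab0⟩

theorem card_le_four {W : Submodule (ZMod 2) V}
    (h : ∀ a ∈ W, ∀ b ∈ W, ∀ c ∈ W, a ≠ 0 → b ≠ 0 → c ≠ 0 → a ≠ b → a ≠ c → b ≠ c → c = a + b) :
    Nat.card W ≤ 4 := by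
  classical
  by_cases h1 : ∀ v ∈ W, v = 0
  · have : Subsingleton W := ⟨fun v w => Subtype.ext ((h1 v v.2).trans (h1 w w.2).symm)⟩
    rw [Nat.card_unique]; norm_num
  push Not at h1
  obtain ⟨a, ha, ha0⟩ := h1
  by_cases h2 : ∀ v ∈ W, v = 0 ∨ v = a
  · have h3 : (W : Set V) ⊆ (({0, a} : Finset V) : Set V) := by
      intro v hv
      simp only [Finset.coe_insert, Finset.coe_singleton, Set.mem_insert_iff, Set.mem_singleton_iff]
      exact h2 v hv
    have h4 : Nat.card W = Set.ncard (W : Set V) := rfl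
    rw [h4]
    calc _ ≤ Set.ncard (({0, a} : Finset V) : Set V) := Set.ncard_le_ncard h3 (Finset.finite_toSet _)
      _ = ({0, a} : Finset V).card := Set.ncard_coe_finset _
      _ ≤ 2 := Finset.card_le_two
      _ ≤ 4 := by norm_num
  · push Not at h2
    obtain ⟨b, hb, hb0, hab⟩ := h2
    apply le_of_eq
    apply card_four ha hb ha0 hb0 (Ne.symm hab)
    intro v hv
    by_cases hv0 : v = 0
    · exact Or.inl hv0
    by_cases hva : v = a
    · exact Or.inr (Or.inl hva)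
    by_cases hvb : v = b
    · exact Or.inr (Or.inr (Or.inl hvb))
    · exact Or.inr (Or.inr (Or.inr (h a ha b hb v hv ha0 hb0 hv0 (Ne.symm hab) (Ne.symm hva) (Ne.symm hvb))))

end lin

/-! ### good pairs -/

namespace Com

variable {G : Type*} [Group G] {P : Set G} {Q : G → Subgroup G} {p t : G}

variable (B : Base P Q) (c : Com P p t)

/-- `D̃` -/
def U (B : Base P Q) (c : Com P p t) : Submodule (ZMod 2) (B.large p c.hp).V :=
  Local.sub (B.large p c.hp) (Q t)

include B c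

theorem mem_U {v : (B.large p c.hp).V} : v ∈ U B c ↔ ∃ (d : G) (h1 : d ∈ Q p) (_ : d ∈ Q t),
    (B.large p c.hp).pr ⟨d, h1⟩ = v := by
  constructor
  · rintro ⟨x, hx, rfl⟩
    exact ⟨x, x.2, hx, rfl⟩
  · rintro ⟨d, h1, h2, rfl⟩
    exact ⟨⟨d, h1⟩, h2, rfl⟩

/-- an element of `C_{Q t}(p)` centralises `D` -/
theorem X_U {x : G} (hx : x ∈ Q t) (hxp : x * p = p * x) {u : (B.large p c.hp).V} (hu : u ∈ U B c) :
    ac (B.large p c.hp) x hxp u = u := by
  obtain ⟨d, h1, h2, rfl⟩ := (mem_U B c).1 hu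
  rw [ac_pr]
  congr 1
  apply Subtype.ext
  show x * d * x⁻¹ = d
  rw [D_central B c.symm h2 h1 hx hxp]; group

end Com

namespace Good

variable {G : Type*} [Group G] {P : Set G} {Q : G → Subgroup G} {p t : G}

variable (B : Base P Q) (c : Good P p t)
include B c

theorem X_perp {x : G} (hx : x ∈ Q t) (hxp : x * p = p * x) {v : (B.large p c.hp).V}
    (hv : v ∈ (qs (B.large p c.hp)).perp (QS.W (Com.T B c.toCom))) :
    ac (B.large p c.hp) x hxp v + v ∈ Com.U B c.toCom := by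
  obtain ⟨r, hr, rfl⟩ := pr_surj _ v
  rw [c.fix_iff B] at hv
  rw [ac_add]
  have h1 := Subgroup.mem_inf.1 (Com.RX B c.toCom hr hv.symm hx hxp)
  exact (Com.mem_U B c.toCom).2 ⟨_, h1.1, h1.2, rfl⟩

/-- three distinct nonzero vectors of `D̃` -/
theorem card_U [Finite G] : Nat.card (Com.U B c.toCom) ≤ 4 := by
  apply card_le_four
  intro a ha b hb v hv ha0 hb0 hv0 hab hav hbv
  obtain ⟨d, h1, h2, rfl⟩ := (Com.mem_U B c.toCom).1 ha
  obtain ⟨e, h3, h4, rfl⟩ := (Com.mem_U B c.toCom).1 hb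
  obtain ⟨f, h5, h6, rfl⟩ := (Com.mem_U B c.toCom).1 hv
  have key : ∀ (d : G) (h1 : d ∈ Q p), (B.large p c.hp).pr ⟨d, h1⟩ ≠ 0 → d ≠ 1 := by
    rintro d h1 h rfl
    exact h ((B.large p c.hp).pr_eq_zero.2 (Or.inl rfl))
  have key2 : ∀ (d e : G) (h1 : d ∈ Q p) (h2 : e ∈ Q p),
      (B.large p c.hp).pr ⟨d, h1⟩ ≠ (B.large p c.hp).pr ⟨e, h2⟩ → d ≠ e := by
    rintro d e h1 h2 h rfl
    exact h rfl
  have h7 := c.D_three B h1 h2 h3 h4 h5 h6 (key _ _ ha0) (key _ _ hb0) (key _ _ hv0) (key2 _ _ _ _ hab)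
    (key2 _ _ _ _ hav) (key2 _ _ _ _ hbv)
  rw [← (B.large p c.hp).pr_mul]
  congr 1
  exact Subtype.ext h7

/-- if `X` is nonabelian, `[D̃^⊥, t] ≤ D̃` -/
theorem T_U [Finite G] {x y : G} (hx : x ∈ Q t) (hxp : x * p = p * x) (hy : y ∈ Q t) (hyp : y * p = p * y)
    (hxy : x * y = y * x * t) {v : (B.large p c.hp).V} (hv : v ∈ (qs (B.large p c.hp)).perp (Com.U B c.toCom)) :
    Com.T B c.toCom v + v ∈ Com.U B c.toCom := by
  have h1 := quad (ac_iso (B.large p c.hp) x hxp) (ac_iso (B.large p c.hp) y hyp)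
    (fun u hu => Com.X_U B c.toCom hx hxp hu) (fun u hu => Com.X_U B c.toCom hy hyp hu)
    (fun r hr => c.X_perp B hx hxp hr) (fun r hr => c.X_perp B hy hyp hr)
    (Com.T_inv B c.toCom).W_le hv
  have hxyp : x * y * p = p * (x * y) := by rw [mul_assoc, hyp, ← mul_assoc, hxp, mul_assoc]
  have hyxp : y * x * p = p * (y * x) := by rw [mul_assoc, hxp, ← mul_assoc, hyp, mul_assoc]
  have hyxtp : y * x * t * p = p * (y * x * t) := by rw [← hxy]; exact hxyp
  have h2 : ac (B.large p c.hp) (x * y) hxyp v = ac (B.large p c.hp) (y * x * t) hyxtp v := by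
    have : ∀ (a b : G) (ha : a * p = p * a) (hb : b * p = p * b), a = b →
        ac (B.large p c.hp) a ha = ac (B.large p c.hp) b hb := by
      rintro a b ha hb rfl; rfl
    rw [this _ _ hxyp hyxtp hxy]
  rw [ac_mul _ _ _ hyxp c.com.symm, ac_mul _ _ _ hxp hyp, ac_mul _ _ _ hyp hxp] at h2
  rw [h2, ← map_add, ← map_add] at h1
  set m := Com.T B c.toCom v + v with hm
  have h3 : ac (B.large p c.hp) y hyp (ac (B.large p c.hp) x hxp m) ∈ Com.U B c.toCom := h1
  have h4 : ac (B.large p c.hp) y hyp (ac (B.large p c.hp) x hxp m) =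
      ac (B.large p c.hp) y hyp (ac (B.large p c.hp) x hxp
        (ac (B.large p c.hp) y hyp (ac (B.large p c.hp) x hxp m))) := by
    rw [Com.X_U B c.toCom hx hxp h3, Com.X_U B c.toCom hy hyp h3]
  have h5 := (ac (B.large p c.hp) x hxp).injective ((ac (B.large p c.hp) y hyp).injective h4)
  rw [h5]; exact h3

/-- if `D` has two distinct nontrivial elements, `X` nonabelian, then `W ≤ D̃` -/
theorem W_le_U_aux [Finite G] {d e : G} (h1 : d ∈ Q p) (h2 : d ∈ Q t) (h3 : e ∈ Q p) (h4 : e ∈ Q t)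
    (hd : d ≠ 1) (he : e ≠ 1) (hde : d ≠ e)
    (hT : ∀ v ∈ (qs (B.large p c.hp)).perp (Com.U B c.toCom), Com.T B c.toCom v + v ∈ Com.U B c.toCom) :
    QS.W (Com.T B c.toCom) ≤ Com.U B c.toCom := by
  set S := qs (B.large p c.hp) with hS
  have key : S.perp (Com.U B c.toCom) ≤ S.perp (QS.W (Com.T B c.toCom)) := by
    intro v hv
    rw [← (Com.T_inv B c.toCom).fix_iff]
    obtain ⟨f, h5, h6, h7⟩ := (Com.mem_U B c.toCom).1 (hT v hv)
    by_cases hf : f = 1
    · have : (B.large p c.hp).pr ⟨f, h5⟩ = 0 := (B.large p c.hp).pr_eq_zero.2 (Or.inl hf)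
      rw [this] at h7
      exact eq_of_add h7.symm
    · exfalso
      obtain ⟨x, hx, rfl⟩ := pr_surj _ v
      have h8 := c.conj_of B hx h5 h6 hf h7.symm
      have hcomm : ∀ e : G, ∀ h3 : e ∈ Q p, e ∈ Q t → x * e * x⁻¹ = e := by
        intro e h3 h4
        have h9 : (B.large p c.hp).b ((B.large p c.hp).pr ⟨e, h3⟩) ((B.large p c.hp).pr ⟨x, hx⟩) = 0 :=
          S.mem_perp.1 hv _ ((Com.mem_U B c.toCom).2 ⟨e, h3, h4, rfl⟩)
        have h10 : e * x = x * e := ((B.large p c.hp).b_pr _ _).1 h9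
        rw [← h10]; group
      have hne : ∀ e : G, e ≠ e * p := fun e he => (B.large p c.hp).z_ne (mul_eq_left.1 he.symm)
      by_cases hdf : d = f
      · have hef : e ≠ f := fun h => hde (hdf.trans h.symm)
        have h9 := c.comm_x' B hx h3 h4 h5 h6 he hef h8
        rw [hcomm e h3 h4] at h9
        exact hne e h9
      · have h9 := c.comm_x' B hx h1 h2 h5 h6 hd hdf h8
        rw [hcomm d h1 h2] at h9
        exact hne d h9
  intro w hw
  rw [← S.perp_perp (Com.U B c.toCom), S.mem_perp]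
  intro u hu
  rw [S.b_comm]
  exact S.mem_perp.1 (key hu) w hw

/-- **Dichotomy, one side**: if `X` is nonabelian, then `W ≤ D̃` and `|D| ≥ 4`. -/
theorem of_noncomm [Finite G] {x y : G} (hx : x ∈ Q t) (hxp : x * p = p * x) (hy : y ∈ Q t)
    (hyp : y * p = p * y) (hxy : x * y = y * x * t) :
    QS.W (Com.T B c.toCom) ≤ Com.U B c.toCom ∧
      ∃ d ∈ Q p, d ∈ Q t ∧ d ≠ 1 ∧ ∃ e ∈ Q p, e ∈ Q t ∧ e ≠ 1 ∧ d ≠ e := by
  have hT : ∀ v ∈ (qs (B.large p c.hp)).perp (Com.U B c.toCom), Com.T B c.toCom v + v ∈ Com.U B c.toCom :=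
    fun v hv => c.T_U B hx hxp hy hyp hxy hv
  by_cases hex : ∃ d ∈ Q p, d ∈ Q t ∧ d ≠ 1 ∧ ∃ e ∈ Q p, e ∈ Q t ∧ e ≠ 1 ∧ d ≠ e
  · refine ⟨?_, hex⟩
    obtain ⟨d, h1, h2, hd, e, h3, h4, he, hde⟩ := hex
    exact c.W_le_U_aux B h1 h2 h3 h4 hd he hde hT
  exfalso
  set S := qs (B.large p c.hp) with hS
  obtain ⟨v1, hv1⟩ := Com.T_ne B c.toCom
  by_cases hex1 : ∃ d ∈ Q p, d ∈ Q t ∧ d ≠ 1
  · obtain ⟨d, h1, h2, hd⟩ := hex1
    have hD : ∀ e ∈ Q p, e ∈ Q t → e = 1 ∨ e = d := by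
      intro e h3 h4
      by_contra hcon
      push Not at hcon
      exact hex ⟨d, h1, h2, hd, e, h3, h4, hcon.1, Ne.symm hcon.2⟩
    set c0 := (B.large p c.hp).pr ⟨d, h1⟩ with hc0
    have hc00 : c0 ≠ 0 := by
      intro h
      rcases (B.large p c.hp).pr_eq_zero.1 h with h5 | h5
      · exact hd h5
      · have h5' : d = p := h5
        rw [h5'] at h2
        exact Com.notMem B c.toCom.symm h2
    have hU : ∀ u ∈ Com.U B c.toCom, u = 0 ∨ u = c0 := by
      intro u hu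
      obtain ⟨e, h3, h4, rfl⟩ := (Com.mem_U B c.toCom).1 hu
      rcases hD e h3 h4 with rfl | rfl
      · left; exact (B.large p c.hp).pr_eq_zero.2 (Or.inl rfl)
      · right; rfl
    have hcU : c0 ∈ Com.U B c.toCom := (Com.mem_U B c.toCom).2 ⟨d, h1, h2, rfl⟩
    have hcW : c0 ∈ QS.W (Com.T B c.toCom) := c.D_le B h1 h2
    have hT' : ∀ v, S.b c0 v = 0 → Com.T B c.toCom v + v = 0 ∨ Com.T B c.toCom v + v = c0 := by
      intro v hv
      apply hU
      apply hT
      rw [S.mem_perp]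
      intro u hu
      rcases hU u hu with rfl | rfl
      · rw [map_zero]; rfl
      · exact hv
    -- a vector `w ∈ W` outside `{0, c0}`
    obtain ⟨v0, hv0⟩ : ∃ v0, Com.T B c.toCom v0 + v0 ≠ 0 ∧ Com.T B c.toCom v0 + v0 ≠ c0 := by
      by_contra hcon
      push Not at hcon
      have h5 : Com.T B c.toCom = 1 := by
        apply TwoCentral.eq_one_of_fix_perp (B.large p c.hp) (a := c0)
        · exact c.q_W B hcW
        · exact (Com.T_inv B c.toCom).iso
        · intro v hv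
          rw [(Com.T_inv B c.toCom).fix_iff, QS.mem_perp]
          rintro _ ⟨w, rfl⟩
          show (B.large p c.hp).b (Com.T B c.toCom w + w) v = 0
          by_cases hw : Com.T B c.toCom w + w = 0
          · rw [hw, map_zero]; rfl
          · rw [hcon w hw]; exact hv
      apply hv1
      rw [h5]; rfl
    set w0 := Com.T B c.toCom v0 + v0 with hw0
    have hb0 : S.b c0 v0 = 1 := by
      rcases zm_cases (S.b c0 v0) with h | h
      · rcases hT' v0 h with h' | h'
        · exact absurd h' hv0.1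
        · exact absurd h' hv0.2
      · exact h
    have hcard : Nat.card (QS.W (Com.T B c.toCom)) = 4 := by
      apply card_four hcW (QS.f_mem_W _ v0) hc00 hv0.1 (Ne.symm hv0.2)
      rintro _ ⟨v, rfl⟩
      show Com.T B c.toCom v + v = 0 ∨ Com.T B c.toCom v + v = c0 ∨ Com.T B c.toCom v + v = w0 ∨
        Com.T B c.toCom v + v = c0 + w0
      rcases zm_cases (S.b c0 v) with h | h
      · rcases hT' v h with h' | h'
        · exact Or.inl h'
        · exact Or.inr (Or.inl h')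
      · have h5 : S.b c0 (v + v0) = 0 := by rw [map_add, h, hb0]; decide
        have h6 : Com.T B c.toCom (v + v0) + (v + v0) = (Com.T B c.toCom v + v) + w0 := by
          rw [map_add, hw0]; abel
        rcases hT' _ h5 with h' | h' <;> rw [h6] at h'
        · exact Or.inr (Or.inr (Or.inl (eq_of_add h')))
        · exact Or.inr (Or.inr (Or.inr (add_eq_iff.1 h')))
    have hXp : ∀ x (hx : x ∈ Q t) (hxp : x * p = p * x), ∀ v ∈ S.perp (QS.W (Com.T B c.toCom)),
        ac (B.large p c.hp) x hxp v = v ∨ ac (B.large p c.hp) x hxp v = v + c0 := by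
      intro x hx hxp v hv
      rcases hU _ (c.X_perp B hx hxp hv) with h | h
      · exact Or.inl (eq_of_add h)
      · right
        rw [add_comm v]
        exact add_eq_iff.1 h
    have hcomm := QS.siegel hcard (fun u hu => c.q_W B hu) hcW hc00 (ac_iso (B.large p c.hp) x hxp)
      (ac_iso (B.large p c.hp) y hyp) (Com.X_U B c.toCom hx hxp hcU) (Com.X_U B c.toCom hy hyp hcU)
      (hXp x hx hxp) (hXp y hy hyp)
    apply hv1
    have hxyp : x * y * p = p * (x * y) := by rw [mul_assoc, hyp, ← mul_assoc, hxp, mul_assoc]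
    have hyxp : y * x * p = p * (y * x) := by rw [mul_assoc, hxp, ← mul_assoc, hyp, mul_assoc]
    have hyxtp : y * x * t * p = p * (y * x * t) := by rw [← hxy]; exact hxyp
    have h5 : ac (B.large p c.hp) (x * y) hxyp v1 = ac (B.large p c.hp) (y * x) hyxp v1 := by
      rw [ac_mul _ _ _ hxp hyp, ac_mul _ _ _ hyp hxp, hcomm]
    have h6 : ac (B.large p c.hp) (x * y) hxyp v1 = ac (B.large p c.hp) (y * x * t) hyxtp v1 := by
      have : ∀ (a b : G) (ha : a * p = p * a) (hb : b * p = p * b), a = b →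
          ac (B.large p c.hp) a ha = ac (B.large p c.hp) b hb := by
        rintro a b ha hb rfl; rfl
      rw [this _ _ hxyp hyxtp hxy]
    rw [ac_mul _ _ _ hyxp c.com.symm, h5] at h6
    exact ((ac (B.large p c.hp) (y * x) hyxp).injective h6).symm
  · push Not at hex1
    apply hv1
    have h1 : v1 ∈ S.perp (Com.U B c.toCom) := by
      rw [S.mem_perp]
      intro u hu
      obtain ⟨e, h3, h4, rfl⟩ := (Com.mem_U B c.toCom).1 hu
      have : (B.large p c.hp).pr ⟨e, h3⟩ = 0 := (B.large p c.hp).pr_eq_zero.2 (Or.inl (hex1 e h3 h4))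
      rw [this, map_zero]; rfl
    obtain ⟨e, h3, h4, h5⟩ := (Com.mem_U B c.toCom).1 (hT v1 h1)
    have : (B.large p c.hp).pr ⟨e, h3⟩ = 0 := (B.large p c.hp).pr_eq_zero.2 (Or.inl (hex1 e h3 h4))
    rw [this] at h5
    exact eq_of_add h5.symm

end Good

end Cfsg.Agent.LargeExtra.WCIrr
end

-- part: LargeExtra/WCIrrC
section
/-!
# Large extraspecial 2-subgroups, case I, any width: good pairs of type U (helper821)

* `exists_good`: good pairs exist (Lemma R).
* `exists_typeU`: good pairs with `W = D̃`, `|D| = 4` on both sides exist.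
-/

set_option autoImplicit false

namespace Cfsg.Agent.LargeExtra.WCIrr

open Cfsg.Agent.Co2Type.Quad Cfsg.Agent.LargeExtra.WC

variable {G : Type*} [Group G] {P : Set G} {Q : G → Subgroup G} {p t : G}

/-- type U -/
structure TypeU (B : Base P Q) (c : Good P p t) : Prop where
  W_le : QS.W (Com.T B c.toCom) ≤ Com.U B c.toCom
  W_le' : QS.W (Com.T B c.symm.toCom) ≤ Com.U B c.symm.toCom
  ex : ∃ d ∈ Q p, d ∈ Q t ∧ d ≠ 1 ∧ ∃ e ∈ Q p, e ∈ Q t ∧ e ≠ 1 ∧ d ≠ e

/-- type F -/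
structure TypeF (Q : G → Subgroup G) (p t : G) : Prop where
  comm : ∀ x ∈ Q p, ∀ y ∈ Q p, t * x = x * t → t * y = y * t → x * y = y * x
  comm' : ∀ x ∈ Q t, ∀ y ∈ Q t, p * x = x * p → p * y = y * p → x * y = y * x

theorem TypeF.symm (f : TypeF Q p t) : TypeF Q t p := ⟨f.comm', f.comm⟩

theorem Base.cardV_eq [Finite G] (B : Base P Q) (hp : p ∈ P) (ht : t ∈ P) :
    Nat.card (B.large p hp).V = Nat.card (B.large t ht).V := by
  have h1 := (B.large p hp).card_eq
  have h2 := (B.large t ht).card_eq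
  have h3 := B.card_eq hp ht
  omega

namespace Good

variable [Finite G] (B : Base P Q) (c : Good P p t)
include B c

/-- `X` nonabelian implies `R` nonabelian (`|V| ≥ 64`) -/
theorem exists_noncomm (h64 : 64 ≤ Nat.card (B.large p c.hp).V)
    (hW : QS.W (Com.T B c.toCom) ≤ Com.U B c.toCom) :
    ∃ x ∈ Q p, ∃ y ∈ Q p, x * t = t * x ∧ y * t = t * y ∧ x * y = y * x * p := by
  by_contra hcon
  push Not at hcon
  set S := qs (B.large p c.hp) with hS
  have h1 : S.perp (QS.W (Com.T B c.toCom)) ≤ S.perp (S.perp (QS.W (Com.T B c.toCom))) := by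
    intro v hv
    rw [S.mem_perp]
    intro u hu
    obtain ⟨x, hx, rfl⟩ := pr_surj _ v
    obtain ⟨y, hy, rfl⟩ := pr_surj _ u
    rw [c.fix_iff B] at hu hv
    have h3 := hcon x hx y hy hv.symm hu.symm
    exact ((B.large p c.hp).b_pr _ _).2 (((B.large p c.hp).comm x hx y hy).resolve_right h3).symm
  rw [S.perp_perp] at h1
  have h2 := S.card_perp (QS.W (Com.T B c.toCom))
  have h3 : ∀ (M N : Submodule (ZMod 2) (B.large p c.hp).V), M ≤ N → Nat.card M ≤ Nat.card N :=
    fun M N h => Nat.card_le_card_of_injective (Submodule.inclusion h) (Submodule.inclusion_injective h)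
  have h4 := h3 _ _ h1
  have h5 := h3 _ _ hW
  have h6 := c.card_U B
  have h7 : Nat.card (QS.W (Com.T B c.toCom)) * Nat.card (S.perp (QS.W (Com.T B c.toCom))) ≤ 4 * 4 :=
    Nat.mul_le_mul (h5.trans h6) ((h4.trans h5).trans h6)
  omega

/-- **Dichotomy**: a good pair is of type U or of type F -/
theorem dichotomy (h64 : 64 ≤ Nat.card (B.large p c.hp).V) : TypeU B c ∨ TypeF Q p t := by
  have key : ∀ {p t : G} (c : Good P p t) (_ : 64 ≤ Nat.card (B.large p c.hp).V) (x : G) (_ : x ∈ Q t)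
      (y : G) (_ : y ∈ Q t) (_ : x * p = p * x) (_ : y * p = p * y) (_ : x * y = y * x * t),
      TypeU B c := by
    intro p t c h64 x hx y hy hxp hyp hxy
    obtain ⟨h1, h2⟩ := c.of_noncomm B hx hxp hy hyp hxy
    obtain ⟨x', hx', y', hy', h3, h4, h5⟩ := c.exists_noncomm B h64 h1
    exact ⟨h1, (c.symm.of_noncomm B hx' h3 hy' h4 h5).1, h2⟩
  by_cases h1 : ∃ x ∈ Q t, ∃ y ∈ Q t, x * p = p * x ∧ y * p = p * y ∧ x * y = y * x * t
  · obtain ⟨x, hx, y, hy, h2, h3, h4⟩ := h1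
    exact Or.inl (key c h64 x hx y hy h2 h3 h4)
  by_cases h2 : ∃ x ∈ Q p, ∃ y ∈ Q p, x * t = t * x ∧ y * t = t * y ∧ x * y = y * x * p
  · obtain ⟨x, hx, y, hy, h2, h3, h4⟩ := h2
    have h5 := key c.symm (by rw [B.cardV_eq c.ht c.hp]; exact h64) x hx y hy h2 h3 h4
    refine Or.inl ⟨h5.W_le', h5.W_le, ?_⟩
    obtain ⟨d, h6, h7, h8, e, h9, h10, h11, h12⟩ := h5.ex
    exact ⟨d, h7, h6, h8, e, h10, h9, h11, h12⟩
  · right
    refine ⟨fun x hx y hy h3 h4 => ?_, fun x hx y hy h3 h4 => ?_⟩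
    · refine ((B.large p c.hp).comm x hx y hy).resolve_right fun h5 => h2 ⟨x, hx, y, hy, h3.symm, h4.symm, h5⟩
    · refine ((B.large t c.ht).comm x hx y hy).resolve_right fun h5 => h1 ⟨x, hx, y, hy, h3.symm, h4.symm, h5⟩

/-- type F: `W = W^⊥` -/
theorem W_eq (f : TypeF Q p t) : (qs (B.large p c.hp)).perp (QS.W (Com.T B c.toCom)) =
    QS.W (Com.T B c.toCom) := by
  set S := qs (B.large p c.hp) with hS
  apply le_antisymm
  · have h1 : S.perp (QS.W (Com.T B c.toCom)) ≤ S.perp (S.perp (QS.W (Com.T B c.toCom))) := by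
      intro v hv
      rw [S.mem_perp]
      intro u hu
      obtain ⟨x, hx, rfl⟩ := pr_surj _ v
      obtain ⟨y, hy, rfl⟩ := pr_surj _ u
      rw [c.fix_iff B] at hu hv
      exact ((B.large p c.hp).b_pr _ _).2 (f.comm x hx y hy hv hu).symm
    rwa [S.perp_perp] at h1
  · exact (Com.T_inv B c.toCom).W_le

theorem card_W (f : TypeF Q p t) : Nat.card (QS.W (Com.T B c.toCom)) * Nat.card (QS.W (Com.T B c.toCom)) =
    Nat.card (B.large p c.hp).V := by
  have h1 := (qs (B.large p c.hp)).card_perp (QS.W (Com.T B c.toCom))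
  rwa [c.W_eq B f] at h1

/-- `|R| = 2 |W^⊥|` -/
theorem card_R : Nat.card ↥(Subgroup.centralizer ({t} : Set G) ⊓ Q p) =
    2 * Nat.card ((qs (B.large p c.hp)).perp (QS.W (Com.T B c.toCom))) := by
  have hz : p ∈ Subgroup.centralizer ({t} : Set G) := Subgroup.mem_centralizer_singleton_iff.2 c.com
  rw [Local.card_sub (B.large p c.hp) hz]
  congr 1
  have h1 : Local.sub (B.large p c.hp) (Subgroup.centralizer ({t} : Set G)) =
      (qs (B.large p c.hp)).perp (QS.W (Com.T B c.toCom)) := by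
    ext v
    obtain ⟨x, hx, rfl⟩ := pr_surj _ v
    rw [c.fix_iff B, Local.pr_mem_sub _ hz, Subgroup.mem_centralizer_singleton_iff]
    exact eq_comm
  rw [h1]

theorem card_R_eq (f : TypeF Q p t) : Nat.card ↥(Subgroup.centralizer ({t} : Set G) ⊓ Q p) =
    Nat.card ↥(Subgroup.centralizer ({p} : Set G) ⊓ Q t) := by
  rw [c.card_R B, c.symm.card_R B, c.W_eq B f, c.symm.W_eq B f.symm]
  congr 1
  have h1 := c.card_W B f
  have h2 := c.symm.card_W B f.symm
  rw [B.cardV_eq c.ht c.hp, ← h1] at h2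
  exact (Nat.mul_self_inj.1 h2).symm

end Good

/-- **The shift**: a good pair of type F gives a good pair with larger `D`. -/
theorem Good.shift [Finite G] (B : Base P Q) (c : Good P p t) (h64 : 64 ≤ Nat.card (B.large p c.hp).V)
    (f : TypeF Q p t) : ∃ s, Good P t s ∧ Nat.card ↥(Q p ⊓ Q t) < Nat.card ↥(Q t ⊓ Q s) := by
  classical
  set S := qs (B.large p c.hp) with hS
  have hWW := c.W_eq B f
  -- `q` commutes with `D`, not with `t`
  obtain ⟨q, hq, hqD, hqt⟩ : ∃ q ∈ Q p, (∀ d ∈ Q p, d ∈ Q t → q * d = d * q) ∧ t * q ≠ q * t := by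
    by_contra hcon
    push Not at hcon
    have h1 : S.perp (Com.U B c.toCom) ≤ S.perp (QS.W (Com.T B c.toCom)) := by
      intro v hv
      obtain ⟨x, hx, rfl⟩ := pr_surj _ v
      rw [c.fix_iff B]
      apply hcon x hx
      intro d h1 h2
      have h9 : (B.large p c.hp).b ((B.large p c.hp).pr ⟨d, h1⟩) ((B.large p c.hp).pr ⟨x, hx⟩) = 0 :=
        S.mem_perp.1 hv _ ((Com.mem_U B c.toCom).2 ⟨d, h1, h2, rfl⟩)
      have h10 : d * x = x * d := ((B.large p c.hp).b_pr _ _).1 h9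
      exact h10.symm
    have h2 : QS.W (Com.T B c.toCom) ≤ Com.U B c.toCom := by
      intro w hw
      rw [← S.perp_perp (Com.U B c.toCom), S.mem_perp]
      intro u hu
      rw [S.b_comm]
      exact S.mem_perp.1 (h1 hu) w hw
    have h3 : Nat.card (QS.W (Com.T B c.toCom)) ≤ 4 :=
      (Nat.card_le_card_of_injective (Submodule.inclusion h2) (Submodule.inclusion_injective h2)).trans
        (c.card_U B)
    have h4 := c.card_W B f
    have h5 := Nat.mul_le_mul h3 h3
    omega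
  -- `[q, x]` for `x ∈ X`
  have hcom : ∀ x ∈ Q t, x * p = p * x → q * x * q⁻¹ * x⁻¹ ∈ Q p ∧
      t * (q * x * q⁻¹ * x⁻¹) = (q * x * q⁻¹ * x⁻¹) * t ∧
      q * (q * x * q⁻¹ * x⁻¹) = (q * x * q⁻¹ * x⁻¹) * q := by
    intro x hx hxp
    have h1 : x * q⁻¹ * x⁻¹ ∈ Q p := (B.large p c.hp).conj_mem x hxp _ (inv_mem hq)
    have h2 : q * x * q⁻¹ * x⁻¹ ∈ Q p := by
      have := mul_mem hq h1
      have e : q * (x * q⁻¹ * x⁻¹) = q * x * q⁻¹ * x⁻¹ := by group
      rwa [e] at this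
    have h3 : (B.large p c.hp).pr ⟨q * x * q⁻¹ * x⁻¹, h2⟩ =
        ac (B.large p c.hp) x hxp ((B.large p c.hp).pr ⟨q, hq⟩) + (B.large p c.hp).pr ⟨q, hq⟩ := by
      have e1 : (⟨q * x * q⁻¹ * x⁻¹, h2⟩ : Q p) = ⟨q, hq⟩ * ⟨x * q * x⁻¹,
          (B.large p c.hp).conj_mem x hxp _ hq⟩⁻¹ := by
        apply Subtype.ext
        show q * x * q⁻¹ * x⁻¹ = q * (x * q * x⁻¹)⁻¹
        group
      rw [e1, (B.large p c.hp).pr_mul, (B.large p c.hp).pr_inv, (B.large p c.hp).neg_eq, ac_pr, add_comm]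
    have h4 : (B.large p c.hp).pr ⟨q, hq⟩ ∈ S.perp (Com.U B c.toCom) := by
      rw [S.mem_perp]
      intro u hu
      obtain ⟨d, h5, h6, rfl⟩ := (Com.mem_U B c.toCom).1 hu
      exact ((B.large p c.hp).b_pr _ _).2 (hqD d h5 h6).symm
    have h5 := duality (ac_iso (B.large p c.hp) x hxp) (fun u hu => Com.X_U B c.toCom hx hxp hu)
      (fun r hr => c.X_perp B hx hxp hr) h4
    refine ⟨h2, ?_, ?_⟩
    · rw [← c.fix_iff B h2, h3, hWW]
      exact h5
    · have h6 := (ac_iso (B.large p c.hp) x hxp).q_f ((B.large p c.hp).pr ⟨q, hq⟩)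
      have h7 : (qs (B.large p c.hp)).q (ac (B.large p c.hp) x hxp ((B.large p c.hp).pr ⟨q, hq⟩) +
          (B.large p c.hp).pr ⟨q, hq⟩) = 0 := c.q_W B h5
      rw [h7, ← h3] at h6
      exact ((B.large p c.hp).b_pr _ _).1 h6.symm
  set s := q * t * q⁻¹ with hs
  have hsP : s ∈ P := B.conj_mem t c.ht q
  have hts : t * s = t * q * t⁻¹ * q⁻¹ := by rw [hs, B.inv c.ht]; group
  have hgood : Good P t s := by
    refine ⟨⟨c.ht, hsP, ?_, ?_⟩, ?_⟩
    · intro h
      apply hqt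
      have : s * q = q * t := by rw [hs]; group
      rw [← this, ← h]
    · have h1 := c.sq_comm B hq
      rw [← hts] at h1
      have h2 : (t * s)⁻¹ = t * s := inv_eq_of_mul_eq_one_left h1
      rw [mul_inv_rev, B.inv c.ht, B.inv hsP] at h2
      exact h2.symm
    · intro h
      have h1 : t * s ∈ Q p := by rw [hts]; exact Com.u_mem B c.toCom hq
      have h2 := B.eq_of_mem p c.hp _ h h1
      rw [hts] at h2
      exact c.ne_p B q h2
  refine ⟨s, hgood, ?_⟩
  -- `D ≤ Q s`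
  have hDs : ∀ d ∈ Q p, d ∈ Q t → d ∈ Q s := by
    intro d h1 h2
    have : d = q * d * q⁻¹ := by rw [hqD d h1 h2]; group
    rw [this]
    exact B.Q_conj t c.ht q d h2
  by_contra hcard
  push Not at hcard
  -- the groups
  set X : Subgroup G := Subgroup.centralizer ({p} : Set G) ⊓ Q t with hX
  set K : Subgroup G := (Subgroup.centralizer ({t} : Set G) ⊓ Q p) ⊓ Subgroup.centralizer ({q} : Set G) with hK
  set D : Subgroup G := Q p ⊓ Q t with hD
  have hDX : D ≤ X := by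
    intro d hd
    obtain ⟨h1, h2⟩ := Subgroup.mem_inf.1 hd
    exact Subgroup.mem_inf.2 ⟨Subgroup.mem_centralizer_singleton_iff.2 (Com.D_p B c.toCom h1), h2⟩
  have hDK : D ≤ K := by
    intro d hd
    obtain ⟨h1, h2⟩ := Subgroup.mem_inf.1 hd
    exact Subgroup.mem_inf.2 ⟨Subgroup.mem_inf.2 ⟨Subgroup.mem_centralizer_singleton_iff.2
      (Com.D_t B c.toCom h2), h1⟩, Subgroup.mem_centralizer_singleton_iff.2 (hqD d h1 h2).symm⟩
  -- `D = Q t ∩ Q s`
  have hDle : D ≤ Q t ⊓ Q s := by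
    intro d hd
    obtain ⟨h1, h2⟩ := Subgroup.mem_inf.1 hd
    exact Subgroup.mem_inf.2 ⟨h2, hDs d h1 h2⟩
  have hDeq : Q t ⊓ Q s = D := (Subgroup.eq_of_le_of_card_ge hDle hcard).symm
  have hmem : ∀ x ∈ X, q * x * q⁻¹ * x⁻¹ ∈ D → x ∈ D := by
    intro x hx h1
    obtain ⟨hx1, hx2⟩ := Subgroup.mem_inf.1 hx
    rw [← hDeq]
    refine Subgroup.mem_inf.2 ⟨hx2, ?_⟩
    have h2 : q * x * q⁻¹ ∈ Q s := B.Q_conj t c.ht q x hx2
    have h3 : q * x * q⁻¹ * x⁻¹ ∈ Q s := by
      obtain ⟨h4, h5⟩ := Subgroup.mem_inf.1 h1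
      exact hDs _ h4 h5
    have h4 := mul_mem (inv_mem h3) h2
    have e : (q * x * q⁻¹ * x⁻¹)⁻¹ * (q * x * q⁻¹) = x := by group
    rwa [e] at h4
  have hXK : ∀ x : X, q * (x : G) * q⁻¹ * (x : G)⁻¹ ∈ K := by
    rintro ⟨x, hx⟩
    obtain ⟨hx1, hx2⟩ := Subgroup.mem_inf.1 hx
    obtain ⟨h1, h2, h3⟩ := hcom x hx2 (Subgroup.mem_centralizer_singleton_iff.1 hx1)
    exact Subgroup.mem_inf.2 ⟨Subgroup.mem_inf.2 ⟨Subgroup.mem_centralizer_singleton_iff.2 h2.symm, h1⟩,
      Subgroup.mem_centralizer_singleton_iff.2 h3.symm⟩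
  -- conjugation by `x ∈ X` on `K` modulo `D`
  have hconj : ∀ x ∈ X, ∀ k ∈ K, x * k * x⁻¹ ∈ D ↔ k ∈ D := by
    intro x hx k hk
    obtain ⟨hx1, hx2⟩ := Subgroup.mem_inf.1 hx
    obtain ⟨hk1, hk2⟩ := Subgroup.mem_inf.1 (Subgroup.mem_inf.1 hk).1
    have h1 : x * k * x⁻¹ * k⁻¹ ∈ D := Com.RX B c.toCom hk2
      (Subgroup.mem_centralizer_singleton_iff.1 hk1) hx2 (Subgroup.mem_centralizer_singleton_iff.1 hx1)
    have e : x * k * x⁻¹ = x * k * x⁻¹ * k⁻¹ * k := by group
    rw [e, Subgroup.mul_mem_cancel_left _ h1]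
  have hdiff : ∀ x ∈ X, ∀ y ∈ X, x⁻¹ * y ∈ D ↔
      (q * x * q⁻¹ * x⁻¹)⁻¹ * (q * y * q⁻¹ * y⁻¹) ∈ D := by
    intro x hx y hy
    have hxy : x⁻¹ * y ∈ X := mul_mem (inv_mem hx) hy
    have e : (q * x * q⁻¹ * x⁻¹)⁻¹ * (q * y * q⁻¹ * y⁻¹) =
        x * (q * (x⁻¹ * y) * q⁻¹ * (x⁻¹ * y)⁻¹) * x⁻¹ := by group
    rw [e, hconj x hx _ (hXK ⟨_, hxy⟩)]
    constructor
    · intro h
      have h1 : q * (x⁻¹ * y) * q⁻¹ * (x⁻¹ * y)⁻¹ = 1 := by
        obtain ⟨h2, h3⟩ := Subgroup.mem_inf.1 h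
        rw [hqD _ h2 h3]; group
      rw [h1]; exact one_mem _
    · exact hmem _ hxy
  have hle : Nat.card (X ⧸ D.subgroupOf X) ≤ Nat.card (K ⧸ D.subgroupOf K) := by
    let F : X ⧸ D.subgroupOf X → K ⧸ D.subgroupOf K :=
      Quotient.map' (fun x : X => (⟨q * (x : G) * q⁻¹ * (x : G)⁻¹, hXK x⟩ : K)) (by
        intro x y h
        rw [QuotientGroup.leftRel_apply] at h ⊢
        exact (hdiff x x.2 y y.2).1 h)
    apply Nat.card_le_card_of_injective F
    intro a b hab
    obtain ⟨x, rfl⟩ := QuotientGroup.mk_surjective a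
    obtain ⟨y, rfl⟩ := QuotientGroup.mk_surjective b
    have h1 : ((⟨q * (x : G) * q⁻¹ * (x : G)⁻¹, hXK x⟩ : K) : K ⧸ D.subgroupOf K) =
        ((⟨q * (y : G) * q⁻¹ * (y : G)⁻¹, hXK y⟩ : K) : K ⧸ D.subgroupOf K) := hab
    rw [QuotientGroup.eq] at h1 ⊢
    exact (hdiff x x.2 y y.2).2 h1
  have hXle : Nat.card X ≤ Nat.card K := by
    rw [Subgroup.card_eq_card_quotient_mul_card_subgroup (D.subgroupOf X),
      Subgroup.card_eq_card_quotient_mul_card_subgroup (D.subgroupOf K),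
      Nat.card_congr (Subgroup.subgroupOfEquivOfLe hDX).toEquiv,
      Nat.card_congr (Subgroup.subgroupOfEquivOfLe hDK).toEquiv]
    exact Nat.mul_le_mul_right _ hle
  have hRX := c.card_R_eq B f
  have hKR : K ≤ Subgroup.centralizer ({t} : Set G) ⊓ Q p := inf_le_left
  have hKeq : K = Subgroup.centralizer ({t} : Set G) ⊓ Q p :=
    Subgroup.eq_of_le_of_card_ge hKR (by rw [hRX]; exact hXle)
  -- `q` commutes with `R`, so with `t`
  apply hqt
  rw [← c.fix_iff B hq, S.mem_perp]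
  intro u hu
  rw [← hWW] at hu
  obtain ⟨x, hx, rfl⟩ := pr_surj _ u
  rw [c.fix_iff B] at hu
  have h1 : x ∈ K := by
    rw [hKeq]
    exact Subgroup.mem_inf.2 ⟨Subgroup.mem_centralizer_singleton_iff.2 hu.symm, hx⟩
  exact ((B.large p c.hp).b_pr _ _).2 (Subgroup.mem_centralizer_singleton_iff.1 (Subgroup.mem_inf.1 h1).2)

/-- Good pairs of type U exist if good pairs exist. -/
theorem exists_typeU [Finite G] (B : Base P Q) (h64 : ∀ p (hp : p ∈ P), 64 ≤ Nat.card (B.large p hp).V)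
    (hex : ∃ p t, Good P p t) : ∃ p t, ∃ c : Good P p t, TypeU B c := by
  classical
  have hfin : Finite G := inferInstance
  by_contra hcon
  push Not at hcon
  have key : ∀ n : ℕ, ∃ p t, Good P p t ∧ n ≤ Nat.card ↥(Q p ⊓ Q t) := by
    intro n
    induction n with
    | zero =>
      obtain ⟨p, t, c⟩ := hex
      exact ⟨p, t, c, Nat.zero_le _⟩
    | succ n ih =>
      obtain ⟨p, t, c, hn⟩ := ih
      rcases c.dichotomy B (h64 p c.hp) with h | h
      · exact absurd h (hcon p t c)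
      · obtain ⟨s, c', h'⟩ := c.shift B (h64 p c.hp) h
        exact ⟨t, s, c', by omega⟩
  obtain ⟨p, t, c, h⟩ := key (Nat.card G + 1)
  have := Subgroup.card_le_card_group (Q p ⊓ Q t)
  omega

/-- Good pairs exist (Lemma R and Z*). -/
theorem exists_good [Finite G] (B : Base P Q) (hG : ∀ H : Subgroup G, H.index ≠ 2)
    (h64 : ∀ p (hp : p ∈ P), 64 ≤ Nat.card (B.large p hp).V) (c : Com P p t) : ∃ s, Good P p s := by
  set h := B.large t c.ht with hh
  have c' := c.symm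
  -- a vector `v` of `V_t` with `[p, v] ≠ 0` singular
  obtain ⟨v, hv0, hvq⟩ : ∃ v, Com.T B c.symm v + v ≠ 0 ∧ h.q (Com.T B c.symm v + v) = 0 := by
    by_contra hcon
    push Not at hcon
    obtain ⟨v1, hv1⟩ := Com.T_ne B c.symm
    set w := Com.T B c.symm v1 + v1 with hw
    have hw0 : w ≠ 0 := fun h => hv1 (eq_of_add h)
    have hqw : h.q w = 1 := by
      rcases zm_cases (h.q w) with h1 | h1
      · exact absurd h1 (hcon v1 hw0)
      · exact h1
    have hT := Com.T_inv B c.symm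
    -- `W = {0, w}`
    have hW : ∀ v, Com.T B c.symm v + v = 0 ∨ Com.T B c.symm v + v = w := by
      intro v
      by_contra hne
      push Not at hne
      have h1 : h.q (Com.T B c.symm v + v) = 1 := by
        rcases zm_cases (h.q (Com.T B c.symm v + v)) with h1 | h1
        · exact absurd h1 (hcon v hne.1)
        · exact h1
      have h2 : Com.T B c.symm (v + v1) + (v + v1) = (Com.T B c.symm v + v) + w := by
        rw [map_add, hw]; abel
      have h3 : h.b (Com.T B c.symm v + v) w = 0 := hT.isotropic (QS.f_mem_W _ _) (QS.f_mem_W _ _)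
      apply hcon (v + v1)
      · rw [h2]
        exact fun h4 => hne.2 (eq_of_add h4)
      · rw [h2, h.q_add', h1, hqw, h3]; decide
    have hfix : ∀ v, h.b w v = 0 → Com.T B c.symm v = v := by
      intro v hv
      rw [hT.fix_iff, QS.mem_perp]
      rintro _ ⟨u, rfl⟩
      show h.b (Com.T B c.symm u + u) v = 0
      rcases hW u with h1 | h1
      · rw [h1, map_zero]; rfl
      · rw [h1]; exact hv
    rcases TwoCentral.eq_or_refl_of_fix_perp h (Com.T B c.symm) (fun v w => hT.iso.b_eq v w) hfix with h1 | h1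
    · apply hv1
      rw [h1]; rfl
    · have h8 : 8 < Nat.card (Q t) := by
        have h2 := h.card_eq
        have h3 := h64 t c.ht
        omega
      exact LemmaR.no_reflection hG h h8 hqw h1
  obtain ⟨y, hy, rfl⟩ := pr_surj _ v
  rw [Com.T, ac_add] at hv0 hvq
  have ha2 := h.q_eq_zero.1 hvq
  have ha2' : (p * y * p⁻¹ * y⁻¹) * (p * y * p⁻¹ * y⁻¹) = 1 := ha2
  have ha : p * y * p⁻¹ * y⁻¹ ∈ Q t := Com.u_mem B c.symm hy
  set a := p * y * p⁻¹ * y⁻¹ with haa
  have hs := Com.conj_eq B c.symm y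
  rw [← haa] at hs
  have hsP : y * p * y⁻¹ ∈ P := B.conj_mem p c.hp y
  refine ⟨y * p * y⁻¹, ⟨c.hp, hsP, ?_, ?_⟩, ?_⟩
  · intro h1
    rw [hs] at h1
    apply hv0
    exact h.pr_eq_zero.2 (Or.inl (mul_eq_left.1 h1.symm))
  · have h1 : p * (y * p * y⁻¹) = a := by rw [hs, ← mul_assoc, B.sq c.hp, one_mul]
    have h2 : (p * (y * p * y⁻¹))⁻¹ = p * (y * p * y⁻¹) := by
      rw [h1]; exact inv_eq_of_mul_eq_one_left ha2'
    rw [mul_inv_rev, B.inv c.hp, B.inv hsP] at h2
    exact h2.symm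
  · have h1 : p * (y * p * y⁻¹) = a := by rw [hs, ← mul_assoc, B.sq c.hp, one_mul]
    rw [h1]
    intro h2
    have h3 := B.eq_of_mem t c.ht _ h2 ha
    apply hv0
    exact h.pr_eq_zero.2 (Or.inr h3)

end Cfsg.Agent.LargeExtra.WCIrr
end

-- part: LargeExtra/WCIrrD
section
/-!
# Large extraspecial 2-subgroups, case I, any width: irreducibility (helper821)
-/

set_option autoImplicit false

namespace Cfsg.Agent.LargeExtra.WCIrr

open Cfsg.Agent.Co2Type.Quad Cfsg.Agent.LargeExtra.WC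

variable {G : Type*} [Group G] {P : Set G} {Q : G → Subgroup G} {p t : G}

/-- `A` is a subgroup of `Q p` invariant under `C(p)` containing `p` -/
structure Inva (Q : G → Subgroup G) (p : G) (A : Subgroup G) : Prop where
  p_mem : p ∈ A
  le : A ≤ Q p
  inv : ∀ c, c * p = p * c → ∀ x ∈ A, c * x * c⁻¹ ∈ A

namespace Good

variable [Finite G] (B : Base P Q) (c : Good P p t)
include B c

/-- if `d ∈ A ∩ D` is nontrivial, then `e ∈ A` for all `e ∈ D` -/
theorem mem_of_mem {A : Subgroup G} (hA : Inva Q p A) {d e : G} (h1 : d ∈ Q p) (h2 : d ∈ Q t)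
    (h3 : e ∈ Q p) (h4 : e ∈ Q t) (hd : d ≠ 1) (he : e ≠ 1) (hde : d ≠ e) (hdA : d ∈ A) : e ∈ A := by
  have hpp := B.sq c.hp
  have htt := B.sq c.ht
  have hdd := Com.D_sq B c.toCom h1 h2
  have hee := Com.D_sq B c.toCom h3 h4
  have hpt := c.com
  have hdp := Com.D_p B c.toCom h1
  have hep := Com.D_p B c.toCom h3
  have hdt := Com.D_t B c.toCom h2
  have het := Com.D_t B c.toCom h4
  have hdeC := Com.D_comm B c.toCom h1 h2 h3 h4
  -- `x = x_d ∈ Q p`, `y = y_d ∈ Q t`, `w = y_e ∈ Q t`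
  obtain ⟨x, hx, hxt⟩ := c.exists_x B h1 h2 hd
  obtain ⟨y, hy, hyp⟩ := c.symm.exists_x B h2 h1 hd
  obtain ⟨w, hw, hwp⟩ := c.symm.exists_x B h4 h3 he
  have hxd : x * d * x⁻¹ = d := by rw [c.comm_x B hx h1 hxt]; group
  have hyd : y * d * y⁻¹ = d := by rw [c.symm.comm_x B hy h2 hyp]; group
  have hye : y * e * y⁻¹ = e * t := c.symm.comm_x' B hy h4 h3 h2 h1 he (Ne.symm hde) hyp
  have hxe : x * e * x⁻¹ = e * p := c.comm_x' B hx h3 h4 h1 h2 he (Ne.symm hde) hxt
  have hwd : w * d * w⁻¹ = d * t := c.symm.comm_x' B hw h2 h1 h4 h3 hd hde hwp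
  have hwe : w * e * w⁻¹ = e := by rw [c.symm.comm_x B hw h4 hwp]; group
  have hxp : x * p * x⁻¹ = p := by rw [(B.large p c.hp).comm_z x hx]; group
  have hyt : y * t * y⁻¹ = t := by rw [(B.large t c.ht).comm_z y hy]; group
  have hwt : w * t * w⁻¹ = t := by rw [(B.large t c.ht).comm_z w hw]; group
  -- `g = x y` fixes `r = p (e t)`
  have hyr : y * (p * (e * t)) * y⁻¹ = p * (d * e) * t := by
    calc y * (p * (e * t)) * y⁻¹ = (y * p * y⁻¹) * ((y * e * y⁻¹) * (y * t * y⁻¹)) := by group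
      _ = p * (d * t) * (e * t * t) := by rw [hyp, hye, hyt]
      _ = p * (d * t) * (e * (t * t)) := by group
      _ = p * d * (t * e) := by rw [htt]; group
      _ = p * (d * e) * t := by rw [← het]; group
  have hxr : x * (p * (d * e) * t) * x⁻¹ = p * (e * t) := by
    calc x * (p * (d * e) * t) * x⁻¹ = (x * p * x⁻¹) * ((x * d * x⁻¹) * (x * e * x⁻¹)) * (x * t * x⁻¹) := by
          group
      _ = p * (d * (e * p)) * (t * (d * p)) := by rw [hxp, hxd, hxe, hxt]
      _ = p * (d * e) * (p * t) * (d * p) := by group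
      _ = p * (d * e) * (t * p) * (d * p) := by rw [hpt]
      _ = p * (d * e) * t * (p * (d * p)) := by group
      _ = p * (d * e) * t * (p * (p * d)) := by rw [hdp]
      _ = p * (d * e) * t * ((p * p) * d) := by group
      _ = p * (d * e) * (t * d) := by rw [hpp]; group
      _ = p * (e * d) * (d * t) := by rw [hdeC, hdt]
      _ = p * e * (d * d) * t := by group
      _ = p * (e * t) := by rw [hdd]; group
  have hgr : (x * y) * (p * (e * t)) * (x * y)⁻¹ = p * (e * t) := by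
    calc (x * y) * (p * (e * t)) * (x * y)⁻¹ = x * (y * (p * (e * t)) * y⁻¹) * x⁻¹ := by group
      _ = _ := by rw [hyr, hxr]
  have hgd : (x * y) * (d * t) * (x * y)⁻¹ = t * p := by
    calc (x * y) * (d * t) * (x * y)⁻¹ = x * ((y * d * y⁻¹) * (y * t * y⁻¹)) * x⁻¹ := by group
      _ = (x * d * x⁻¹) * (x * t * x⁻¹) := by rw [hyd, hyt]; group
      _ = d * (t * (d * p)) := by rw [hxd, hxt]
      _ = (d * t) * d * p := by group
      _ = t * (d * d) * p := by rw [hdt]; group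
      _ = t * p := by rw [hdd]; group
  -- `w⁻¹ p w = p (e t)`
  have hwr : w * (p * (e * t)) * w⁻¹ = p := by
    calc w * (p * (e * t)) * w⁻¹ = (w * p * w⁻¹) * ((w * e * w⁻¹) * (w * t * w⁻¹)) := by group
      _ = p * (e * t) * (e * t) := by rw [hwp, hwe, hwt]
      _ = p * (e * t) * (t * e) := by rw [het]
      _ = p * e * (t * t) * e := by group
      _ = p * (e * e) := by rw [htt]; group
      _ = p := by rw [hee, mul_one]
  have hwp' : w⁻¹ * p * w = p * (e * t) := by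
    calc w⁻¹ * p * w = w⁻¹ * (w * (p * (e * t)) * w⁻¹) * w := by rw [hwr]
      _ = _ := by group
  -- `k = w⁻¹ (x y) w` centralises `p`
  have hk : (w⁻¹ * (x * y) * w) * p * (w⁻¹ * (x * y) * w)⁻¹ = p := by
    calc (w⁻¹ * (x * y) * w) * p * (w⁻¹ * (x * y) * w)⁻¹ =
        w⁻¹ * ((x * y) * (w * p * w⁻¹) * (x * y)⁻¹) * w := by group
      _ = w⁻¹ * ((x * y) * (p * (e * t)) * (x * y)⁻¹) * w := by rw [hwp]
      _ = w⁻¹ * (p * (e * t)) * w := by rw [hgr]
      _ = w⁻¹ * (w * p * w⁻¹) * w := by rw [hwp]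
      _ = p := by group
  have hk' : (w⁻¹ * (x * y) * w) * p = p * (w⁻¹ * (x * y) * w) := by
    rw [mul_inv_eq_iff_eq_mul] at hk; exact hk
  have h5 := hA.inv _ hk' d hdA
  have h6 : (w⁻¹ * (x * y) * w) * d * (w⁻¹ * (x * y) * w)⁻¹ = p * e := by
    calc (w⁻¹ * (x * y) * w) * d * (w⁻¹ * (x * y) * w)⁻¹ =
        w⁻¹ * ((x * y) * (w * d * w⁻¹) * (x * y)⁻¹) * w := by group
      _ = w⁻¹ * ((x * y) * (d * t) * (x * y)⁻¹) * w := by rw [hwd]
      _ = w⁻¹ * (t * p) * w := by rw [hgd]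
      _ = (w⁻¹ * (w * t * w⁻¹) * w) * (w⁻¹ * p * w) := by rw [hwt]; group
      _ = t * (p * (e * t)) := by rw [hwp']; group
      _ = (t * p) * (e * t) := by group
      _ = (p * t) * (t * e) := by rw [← hpt, het]
      _ = p * (t * t) * e := by group
      _ = p * e := by rw [htt]; group
  rw [h6] at h5
  exact (Subgroup.mul_mem_cancel_left _ hA.p_mem).1 h5

/-- type U: `A ∩ D = 1` implies `A = ⟨p⟩` -/
theorem eq_of_inf (u : TypeU B c) {A : Subgroup G} (hA : Inva Q p A)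
    (hAD : ∀ d ∈ Q p, d ∈ Q t → d ∈ A → d = 1) : ∀ m ∈ A, m = 1 ∨ m = p := by
  intro m hm
  have hmp := hA.le hm
  have htp : t * p = p * t := c.com.symm
  -- `m` commutes with `t`
  have hmt : t * m = m * t := by
    have h1 : t * m * t⁻¹ * m⁻¹ ∈ A := mul_mem (hA.inv t htp m hm) (inv_mem hm)
    have h2 : (B.large p c.hp).pr ⟨t * m * t⁻¹ * m⁻¹, Com.u_mem B c.toCom hmp⟩ ∈ Com.U B c.toCom := by
      apply u.W_le
      rw [← ac_add (B.large p c.hp) t htp m hmp]
      exact QS.f_mem_W _ _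
    obtain ⟨d, h3, h4, h5⟩ := (Com.mem_U B c.toCom).1 h2
    rw [(B.large p c.hp).pr_eq_pr] at h5
    have h6 : d ∈ A := by
      rcases h5 with h6 | h6
      · have h7 : d = t * m * t⁻¹ * m⁻¹ := h6
        rw [h7]; exact h1
      · have h7 : d = t * m * t⁻¹ * m⁻¹ * p := h6
        rw [h7]; exact mul_mem h1 hA.p_mem
    have h7 := hAD d h3 h4 h6
    rcases h5 with h8 | h8
    · have h9 : d = t * m * t⁻¹ * m⁻¹ := h8
      rw [h7] at h9
      rw [eq_comm, mul_inv_eq_one, mul_inv_eq_iff_eq_mul] at h9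
      exact h9
    · exfalso
      have h9 : d = t * m * t⁻¹ * m⁻¹ * p := h8
      rw [h7] at h9
      apply c.ne_p B m
      rw [eq_inv_of_mul_eq_one_left h9.symm, B.inv c.hp]
  have hmt' : m * t = t * m := hmt.symm
  -- `m` commutes with `X`
  have hmX : ∀ x ∈ Q t, x * p = p * x → m * x = x * m := by
    intro x hx hxp
    have h1 := Subgroup.mem_inf.1 (Com.RX B c.toCom hmp hmt' hx hxp)
    have h2 : x * m * x⁻¹ * m⁻¹ ∈ A := mul_mem (hA.inv x hxp m hm) (inv_mem hm)
    have h3 := hAD _ h1.1 h1.2 h2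
    rw [mul_inv_eq_one, mul_inv_eq_iff_eq_mul] at h3
    exact h3.symm
  -- action on `V_t`
  set S' := qs (B.large t c.ht) with hS'
  set T' := Com.T B c.symm.toCom with hT'
  set M := ac (B.large t c.ht) m hmt' with hM
  have hMiso : S'.Iso M := ac_iso _ _ _
  have hMfix : ∀ v ∈ S'.perp (QS.W T'), M v = v := by
    intro v hv
    obtain ⟨x, hx, rfl⟩ := pr_surj _ v
    rw [c.symm.fix_iff B] at hv
    rw [hM, ac_pr]
    congr 1
    apply Subtype.ext
    show m * x * m⁻¹ = x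
    rw [hmX x hx hv.symm]; group
  -- `|W_t| = 4`
  have hcardW : Nat.card (QS.W T') = 4 := by
    obtain ⟨d, h1, h2, hd, e, h3, h4, he, hde⟩ := u.ex
    have hle := u.W_le'
    have h5 := c.symm.card_U B
    have key : ∀ (d : G) (h1 : d ∈ Q t), d ∈ Q p → d ≠ 1 → (B.large t c.ht).pr ⟨d, h1⟩ ≠ 0 := by
      intro d h1 h2 hd h
      rcases (B.large t c.ht).pr_eq_zero.1 h with h6 | h6
      · exact hd h6
      · have h7 : d = t := h6
        rw [h7] at h2
        exact Com.notMem B c.toCom h2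
    have hdW := c.symm.D_le B h2 h1
    have heW := c.symm.D_le B h4 h3
    have hne : (B.large t c.ht).pr ⟨d, h2⟩ ≠ (B.large t c.ht).pr ⟨e, h4⟩ := by
      intro h
      rcases (B.large t c.ht).pr_eq_pr.1 h with h6 | h6
      · exact hde h6
      · have h7 : d = e * t := h6
        apply Com.notMem B c.toCom
        have h8 : e⁻¹ * d ∈ Q p := mul_mem (inv_mem h3) h1
        rw [h7, inv_mul_cancel_left] at h8
        exact h8
    apply card_four hdW heW (key d h2 h1 hd) (key e h4 h3 he) hne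
    intro v hv
    by_cases hv0 : v = 0
    · exact Or.inl hv0
    by_cases hvd : v = (B.large t c.ht).pr ⟨d, h2⟩
    · exact Or.inr (Or.inl hvd)
    by_cases hve : v = (B.large t c.ht).pr ⟨e, h4⟩
    · exact Or.inr (Or.inr (Or.inl hve))
    · right; right; right
      obtain ⟨f, h6, h7, rfl⟩ := (Com.mem_U B c.symm.toCom).1 (hle hv)
      have hf : f ≠ 1 := by
        rintro rfl
        exact hv0 ((B.large t c.ht).pr_eq_zero.2 (Or.inl rfl))
      have hdf : d ≠ f := by
        rintro rfl; exact hvd rfl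
      have hef : e ≠ f := by
        rintro rfl; exact hve rfl
      have h8 := c.symm.D_three B h2 h1 h4 h3 h6 h7 hd he hf hde hdf hef
      rw [← (B.large t c.ht).pr_mul]
      congr 1
      exact Subtype.ext h8
  have hTinv := Com.T_inv B c.symm.toCom
  -- `M v ∈ {v, T' v}`
  have hor : ∀ v, M v = v ∨ M v = T' v := by
    intro v
    by_cases hv : v ∈ S'.perp (QS.W T')
    · exact Or.inl (hMfix v hv)
    by_cases h0 : M v + v = 0
    · exact Or.inl (eq_of_add h0)
    right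
    have h1 : M v + v ∈ QS.W T' := by
      rw [← S'.perp_perp (QS.W T'), S'.mem_perp]
      intro r hr
      have h2 : S'.b r (M v) = S'.b r v := by
        have := hMiso.b_eq r v
        rw [hMfix r hr] at this
        exact this
      rw [map_add, h2]
      have : ∀ a : ZMod 2, a + a = 0 := by decide
      exact this _
    have h2 : S'.b (M v + v) v = 0 := by
      rw [S'.b_comm, ← hMiso.q_f]
      exact c.symm.q_W B h1
    have h3 : S'.b (T' v + v) v = 0 := by
      rw [S'.b_comm, ← hTinv.iso.q_f]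
      exact c.symm.q_W B (QS.f_mem_W _ _)
    have h4 : T' v + v ≠ 0 := fun h => hv (hTinv.fix_iff.1 (eq_of_add h))
    have h5 := QS.eq_of_perp S' hcardW h1 (QS.f_mem_W T' v) h0 h4 h2 h3 hv
    exact add_right_cancel h5
  have hall : (∀ v, M v = v) ∨ (∀ v, M v = T' v) := by
    by_contra hcon
    push Not at hcon
    obtain ⟨⟨v1, h1⟩, ⟨v2, h2⟩⟩ := hcon
    have h3 := (hor v1).resolve_left h1
    have h4 := (hor v2).resolve_right h2
    rcases hor (v1 + v2) with h5 | h5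
    · rw [map_add, h4] at h5
      exact h1 (add_right_cancel h5)
    · rw [map_add, map_add, h3] at h5
      exact h2 (add_left_cancel h5)
  rcases hall with h1 | h1
  · left
    exact hAD m hmp (mem_of_ac _ _ _ h1) hm
  · right
    have hmpt : m * p * t = t * (m * p) := by
      rw [mul_assoc, c.com, ← mul_assoc, hmt', mul_assoc]
    have h2 : m * p ∈ Q t := by
      apply mem_of_ac (B.large t c.ht) (m * p) hmpt
      intro v
      rw [ac_mul _ _ _ hmt' c.com hmpt v]
      have h3 := h1 (T' v)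
      rw [hTinv.inv] at h3
      exact h3
    have h3 := hAD (m * p) (mul_mem hmp (B.large p c.hp).z_mem) h2 (mul_mem hm hA.p_mem)
    rw [eq_inv_of_mul_eq_one_left h3, B.inv c.hp]

/-- type U: a nontrivial `A` contains `D` -/
theorem D_le_of (u : TypeU B c) {A : Subgroup G} (hA : Inva Q p A) (hne : ∃ m ∈ A, m ≠ 1 ∧ m ≠ p) :
    ∀ d ∈ Q p, d ∈ Q t → d ∈ A := by
  by_contra hcon
  push Not at hcon
  obtain ⟨d, h1, h2, h3⟩ := hcon
  obtain ⟨m, hm, hm1, hm2⟩ := hne
  have h4 : ∀ e ∈ Q p, e ∈ Q t → e ∈ A → e = 1 := by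
    intro e h5 h6 h7
    by_contra he
    apply h3
    by_cases hd : d = 1
    · rw [hd]; exact one_mem _
    by_cases hde : e = d
    · rw [← hde]; exact h7
    · exact c.mem_of_mem B hA h5 h6 h1 h2 he hd hde h7
  rcases c.eq_of_inf B u hA h4 m hm with h5 | h5
  · exact hm1 h5
  · exact hm2 h5

end Good

/-- `C_Q(A)` is also invariant. -/
theorem Inva.perp (B : Base P Q) (hp : p ∈ P) {A : Subgroup G} (hA : Inva Q p A) :
    Inva Q p (Subgroup.centralizer (A : Set G) ⊓ Q p) where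
  p_mem := by
    refine Subgroup.mem_inf.2 ⟨?_, (B.large p hp).z_mem⟩
    rw [Subgroup.mem_centralizer_iff]
    intro x hx
    exact (B.large p hp).comm_z x (hA.le hx)
  le := inf_le_right
  inv := by
    intro c hc x hx
    obtain ⟨h1, h2⟩ := Subgroup.mem_inf.1 hx
    refine Subgroup.mem_inf.2 ⟨?_, (B.large p hp).conj_mem c hc x h2⟩
    rw [Subgroup.mem_centralizer_iff] at h1 ⊢
    intro y hy
    have hc' : c⁻¹ * p = p * c⁻¹ := by
      rw [inv_mul_eq_iff_eq_mul, ← mul_assoc, hc, mul_inv_cancel_right]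
    have h3 := h1 _ (hA.inv c⁻¹ hc' y hy)
    calc y * (c * x * c⁻¹) = c * ((c⁻¹ * y * c⁻¹⁻¹) * x) * c⁻¹ := by group
      _ = c * (x * (c⁻¹ * y * c⁻¹⁻¹)) * c⁻¹ := by rw [h3]
      _ = c * x * c⁻¹ * y := by group

/-- type U and `O₂(C(p)) = Q p` imply irreducibility. -/
theorem Good.irreducible [Finite G] (B : Base P Q) (c : Good P p t) (u : TypeU B c)
    (hO : ∀ N : Subgroup (Subgroup.centralizer ({p} : Set G)), N.Normal → IsPGroup 2 N →
      ∀ x ∈ N, (x : G) ∈ Q p)
    {A : Subgroup G} (hA : Inva Q p A) : (∀ m ∈ A, m = 1 ∨ m = p) ∨ A = Q p := by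
  by_contra hcon
  push Not at hcon
  obtain ⟨hne, hAQ⟩ := hcon
  have h := B.large p c.hp
  set S := qs (B.large p c.hp) with hS
  have hA' := hA.perp B c.hp
  set A' := Subgroup.centralizer (A : Set G) ⊓ Q p with hA'def
  have hD := c.D_le_of B u hA hne
  -- `A'` is nontrivial
  have hne' : ∃ m ∈ A', m ≠ 1 ∧ m ≠ p := by
    by_contra hcon
    push Not at hcon
    apply hAQ
    apply le_antisymm hA.le
    intro x hx
    rw [← Local.pr_mem_sub (B.large p c.hp) hA.p_mem ⟨x, hx⟩]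
    rw [← S.perp_perp (Local.sub (B.large p c.hp) A), S.mem_perp]
    intro w hw
    have h1 : w = 0 := by
      obtain ⟨y, hy, rfl⟩ := pr_surj _ w
      have h2 : y ∈ A' := by
        refine Subgroup.mem_inf.2 ⟨?_, hy⟩
        rw [Subgroup.mem_centralizer_iff]
        intro a ha
        have h3 := S.mem_perp.1 hw ((B.large p c.hp).pr ⟨a, hA.le ha⟩) ⟨⟨a, hA.le ha⟩, ha, rfl⟩
        exact ((B.large p c.hp).b_pr _ _).1 h3
      rw [(B.large p c.hp).pr_eq_zero]
      by_cases h3 : y = 1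
      · exact Or.inl h3
      · exact Or.inr (hcon y h2 h3)
    rw [h1, map_zero]; rfl
  have hD' := c.D_le_of B u hA' hne'
  -- `M₀ = (A ∩ A') / ⟨p⟩`
  set M : Submodule (ZMod 2) (B.large p c.hp).V := Local.sub (B.large p c.hp) (A ⊓ A') with hM
  have hMinv : ∀ (g : G) (hg : g * p = p * g), ∀ v ∈ M, ac (B.large p c.hp) g hg v ∈ M := by
    rintro g hg _ ⟨x, hx, rfl⟩
    obtain ⟨h1, h2⟩ := Subgroup.mem_inf.1 hx
    exact ⟨⟨g * x * g⁻¹, (B.large p c.hp).conj_mem g hg x x.2⟩,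
      Subgroup.mem_inf.2 ⟨hA.inv g hg x h1, hA'.inv g hg x h2⟩, (ac_pr _ g hg x x.2).symm⟩
  -- the normal 2-subgroup
  let C := Subgroup.centralizer ({p} : Set G)
  have hC : ∀ g : C, (g : G) * p = p * g := fun g => Subgroup.mem_centralizer_singleton_iff.1 g.2
  have hac : ∀ (g : C) (v : (B.large p c.hp).V), ac (B.large p c.hp) g (hC g) v = (B.large p c.hp).act g v :=
    fun g v => rfl
  let N : Subgroup C :=
    { carrier := {g | (∀ v, (B.large p c.hp).act g v + v ∈ M) ∧ ∀ v ∈ M, (B.large p c.hp).act g v = v}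
      one_mem' := by
        refine ⟨fun v => ?_, fun v _ => ?_⟩
        · rw [map_one]
          show v + v ∈ M
          rw [vadd_self]; exact M.zero_mem
        · rw [map_one]; rfl
      mul_mem' := by
        rintro a b ⟨ha1, ha2⟩ ⟨hb1, hb2⟩
        refine ⟨fun v => ?_, fun v hv => ?_⟩
        · rw [map_mul]
          show (B.large p c.hp).act a ((B.large p c.hp).act b v) + v ∈ M
          have h1 := M.add_mem (ha1 ((B.large p c.hp).act b v)) (hb1 v)
          have h2 : (B.large p c.hp).act a ((B.large p c.hp).act b v) + (B.large p c.hp).act b v +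
              ((B.large p c.hp).act b v + v) = (B.large p c.hp).act a ((B.large p c.hp).act b v) + v := by
            rw [add_assoc, ← add_assoc ((B.large p c.hp).act b v), vadd_self, zero_add]
          rwa [h2] at h1
        · rw [map_mul]
          show (B.large p c.hp).act a ((B.large p c.hp).act b v) = v
          rw [hb2 v hv, ha2 v hv]
      inv_mem' := by
        rintro a ⟨ha1, ha2⟩
        have h1 : ∀ v, (B.large p c.hp).act a ((B.large p c.hp).act a⁻¹ v) = v := by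
          intro v
          have : (B.large p c.hp).act (a * a⁻¹) v = v := by rw [mul_inv_cancel, map_one]; rfl
          rw [map_mul] at this
          exact this
        refine ⟨fun v => ?_, fun v hv => ?_⟩
        · have h2 := ha1 ((B.large p c.hp).act a⁻¹ v)
          rw [h1, add_comm] at h2
          exact h2
        · apply ((B.large p c.hp).act a).injective
          rw [h1, ha2 v hv] }
  have hNn : N.Normal := by
    refine ⟨fun n hn g => ?_⟩
    obtain ⟨h1, h2⟩ := hn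
    have h3 : ∀ v, (B.large p c.hp).act g⁻¹ ((B.large p c.hp).act g v) = v := by
      intro v
      have : (B.large p c.hp).act (g⁻¹ * g) v = v := by rw [inv_mul_cancel, map_one]; rfl
      rw [map_mul] at this
      exact this
    have h3' : ∀ v, (B.large p c.hp).act g ((B.large p c.hp).act g⁻¹ v) = v := by
      intro v
      have : (B.large p c.hp).act (g * g⁻¹) v = v := by rw [mul_inv_cancel, map_one]; rfl
      rw [map_mul] at this
      exact this
    refine ⟨fun v => ?_, fun v hv => ?_⟩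
    · rw [map_mul, map_mul]
      show (B.large p c.hp).act g ((B.large p c.hp).act n ((B.large p c.hp).act g⁻¹ v)) + v ∈ M
      have h4 := hMinv g (hC g) _ (h1 ((B.large p c.hp).act g⁻¹ v))
      rw [hac, map_add, h3'] at h4
      exact h4
    · rw [map_mul, map_mul]
      show (B.large p c.hp).act g ((B.large p c.hp).act n ((B.large p c.hp).act g⁻¹ v)) = v
      have h5 : (B.large p c.hp).act n ((B.large p c.hp).act g⁻¹ v) = (B.large p c.hp).act g⁻¹ v :=
        h2 _ (hMinv (g⁻¹ : C) (hC g⁻¹) v hv)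
      rw [h5, h3']
  have hN2 : IsPGroup 2 N := by
    rintro ⟨g, h1, h2⟩
    -- `g²` acts trivially
    have h3 : (B.large p c.hp).act (g * g) = 1 := by
      ext v
      rw [map_mul]
      show (B.large p c.hp).act g ((B.large p c.hp).act g v) = v
      have h4 := h2 _ (h1 v)
      rw [map_add] at h4
      have h5 : (B.large p c.hp).act g ((B.large p c.hp).act g v) + (B.large p c.hp).act g v +
          (B.large p c.hp).act g v = v := by
        rw [h4, add_right_comm, vadd_self, zero_add]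
      rw [add_assoc, vadd_self, add_zero] at h5
      exact h5
    have h4 : ((g * g : C) : G) ∈ Q p := (B.large p c.hp).mem_of_act _ h3
    have h4' : (g : G) * g ∈ Q p := h4
    refine ⟨3, ?_⟩
    apply Subtype.ext
    apply Subtype.ext
    show (g : G) ^ (2 ^ 3) = 1
    have h5 : (g : G) ^ (2 ^ 3) = ((g * g) * (g * g)) * ((g * g) * (g * g)) := by
      rw [show (2 ^ 3 : ℕ) = 8 from rfl]
      simp only [pow_succ, pow_zero, one_mul, mul_assoc]
    rw [h5]
    rcases (B.large p c.hp).sq _ h4' with h6 | h6 <;> rw [h6]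
    · rw [one_mul]
    · exact B.sq c.hp
  -- `t ∈ N`
  have htC : t ∈ C := Subgroup.mem_centralizer_singleton_iff.2 c.com.symm
  have htN : (⟨t, htC⟩ : C) ∈ N := by
    refine ⟨fun v => ?_, fun v hv => ?_⟩
    · obtain ⟨d, h1, h2, h3⟩ := (Com.mem_U B c.toCom).1 (u.W_le (QS.f_mem_W _ v))
      have h4 : (B.large p c.hp).act ⟨t, htC⟩ v + v = (B.large p c.hp).pr ⟨d, h1⟩ := h3.symm
      rw [h4]
      exact ⟨⟨d, h1⟩, Subgroup.mem_inf.2 ⟨hD d h1 h2, hD' d h1 h2⟩, rfl⟩
    · have h1 : Com.T B c.toCom v = v := by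
        rw [(Com.T_inv B c.toCom).fix_iff, QS.mem_perp]
        intro w hw
        obtain ⟨d, h1, h2, rfl⟩ := (Com.mem_U B c.toCom).1 (u.W_le hw)
        obtain ⟨x, hx, rfl⟩ := hv
        have h3 := hD' d h1 h2
        have h4 := Subgroup.mem_centralizer_iff.1 (Subgroup.mem_inf.1 h3).1 x (Subgroup.mem_inf.1 hx).1
        exact ((B.large p c.hp).b_pr _ _).2 h4.symm
      exact h1
  exact Com.notMem B c.toCom (hO N hNn hN2 ⟨t, htC⟩ htN)

/-- **Case I**: if `z` is weakly closed in `Q`, `C(z)` acts irreducibly on `Q / ⟨z⟩`. -/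
theorem main [Finite G] (B : Base P Q) (hG : ∀ H : Subgroup G, H.index ≠ 2)
    (h128 : ∀ p ∈ P, 128 ≤ Nat.card (Q p))
    (hO : ∀ p ∈ P, ∀ N : Subgroup (Subgroup.centralizer ({p} : Set G)), N.Normal → IsPGroup 2 N →
      ∀ x ∈ N, (x : G) ∈ Q p)
    (hex : ∃ p t, Com P p t) {q : G} (hq : q ∈ P)
    {A : Subgroup G} (hA : Inva Q q A) : (∀ m ∈ A, m = 1 ∨ m = q) ∨ A = Q q := by
  have h64 : ∀ p (hp : p ∈ P), 64 ≤ Nat.card (B.large p hp).V := by
    intro p hp
    have h1 := (B.large p hp).card_eq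
    have h2 := h128 p hp
    omega
  obtain ⟨p, t, c⟩ := hex
  obtain ⟨s, c'⟩ := exists_good B hG h64 c
  obtain ⟨p, t, c, u⟩ := exists_typeU B h64 ⟨p, s, c'⟩
  -- transport `A`
  obtain ⟨g, hg⟩ := B.exists_conj q hq p c.hp
  have hA2 : Inva Q p (A.map (MulAut.conj g).toMonoidHom) := by
    refine ⟨⟨q, hA.p_mem, hg⟩, ?_, ?_⟩
    · rintro _ ⟨x, hx, rfl⟩
      rw [← hg]
      exact B.Q_conj q hq g x (hA.le hx)
    · rintro k hk _ ⟨x, hx, rfl⟩
      have hk' : (g⁻¹ * k * g) * q = q * (g⁻¹ * k * g) := by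
        calc (g⁻¹ * k * g) * q = g⁻¹ * (k * (g * q * g⁻¹)) * g := by group
          _ = g⁻¹ * ((g * q * g⁻¹) * k) * g := by rw [hg, hk]
          _ = q * (g⁻¹ * k * g) := by group
      refine ⟨_, hA.inv _ hk' x hx, ?_⟩
      show g * (g⁻¹ * k * g * x * (g⁻¹ * k * g)⁻¹) * g⁻¹ = k * (g * x * g⁻¹) * k⁻¹
      group
  rcases c.irreducible B u (hO p c.hp) hA2 with h1 | h1
  · left
    intro m hm
    rcases h1 (g * m * g⁻¹) ⟨m, hm, rfl⟩ with h2 | h2
    · left
      have : m = g⁻¹ * (g * m * g⁻¹) * g := by group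
      rw [this, h2]; group
    · right
      have : m = g⁻¹ * (g * m * g⁻¹) * g := by group
      rw [this, h2, ← hg]; group
  · right
    apply le_antisymm hA.le
    intro x hx
    have h2 : g * x * g⁻¹ ∈ A.map (MulAut.conj g).toMonoidHom := by
      rw [h1, ← hg]
      exact B.Q_conj q hq g x hx
    obtain ⟨y, hy, hxy⟩ := h2
    have hxy' : g * y * g⁻¹ = g * x * g⁻¹ := hxy
    have : y = x := mul_left_cancel (mul_right_cancel hxy')
    rw [← this]; exact hy

end Cfsg.Agent.LargeExtra.WCIrr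
end

-- part: LargeExtra/WCIrr
section
/-!
# Large extraspecial 2-subgroups, case I, any width (helper821)

`irreducible`: `G` finite simple nonabelian, `Large Q z`, `|Q| ≥ 2 ^ 7`, `O₂(C_G(z)) = Q`, `z^G ∩ Q = {z}`:
every subgroup `z ∈ A ≤ Q` normalised by `C_G(z)` is `⟨z⟩` or `Q`.

`irreducible_of_fstar`: the same in the language of S1761.
-/

set_option autoImplicit false

namespace Cfsg.Agent.LargeExtra.WCIrr

open Cfsg.Agent.Co2Type.Quad Cfsg.Agent.LargeExtra.WC Cfsg.Agent.LargeExtra.Base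

variable {G : Type*} [Group G] {Q : Subgroup G} {z : G}

/-- `z^G` -/
def cls (z : G) : Set G := {x | ∃ g : G, g * z * g⁻¹ = x}

open Classical in
/-- `Q^g` for `p = z^g` -/
noncomputable def QQ (Q : Subgroup G) (z p : G) : Subgroup G :=
  if h : ∃ g : G, g * z * g⁻¹ = p then Q.map (MulAut.conj h.choose).toMonoidHom else ⊥

theorem QQ_eq (h : Large Q z) (g : G) : QQ Q z (g * z * g⁻¹) = Q.map (MulAut.conj g).toMonoidHom := by
  have hex : ∃ g' : G, g' * z * g'⁻¹ = g * z * g⁻¹ := ⟨g, rfl⟩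
  rw [QQ, dif_pos hex]
  exact map_eq_of_conj h hex.choose_spec

theorem QQ_self (h : Large Q z) : QQ Q z z = Q := by
  have h1 := QQ_eq h 1
  have e : (1 : G) * z * (1 : G)⁻¹ = z := by group
  rw [e] at h1
  rw [h1]
  ext x
  constructor
  · rintro ⟨y, hy, rfl⟩
    have : (MulAut.conj (1 : G)).toMonoidHom y = y := by
      show 1 * y * (1 : G)⁻¹ = y
      group
    rw [this]; exact hy
  · intro hx
    exact ⟨x, hx, by show 1 * x * (1 : G)⁻¹ = x; group⟩

theorem base (h : Large Q z) (hwc : ∀ g : G, g * z * g⁻¹ ∈ Q → g * z * g⁻¹ = z) :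
    Base (cls z) (QQ Q z) where
  conj_mem := by
    rintro _ ⟨g, rfl⟩ k
    exact ⟨k * g, by group⟩
  exists_conj := by
    rintro _ ⟨g, rfl⟩ _ ⟨k, rfl⟩
    exact ⟨k * g⁻¹, by group⟩
  large := by
    rintro _ ⟨g, rfl⟩
    rw [QQ_eq h]
    exact h.conj g
  Q_conj := by
    rintro _ ⟨g, rfl⟩ k x hx
    have e : k * (g * z * g⁻¹) * k⁻¹ = (k * g) * z * (k * g)⁻¹ := by group
    rw [e, QQ_eq h]
    rw [QQ_eq h] at hx
    obtain ⟨y, hy, rfl⟩ := hx
    refine ⟨y, hy, ?_⟩
    show k * g * y * (k * g)⁻¹ = k * (g * y * g⁻¹) * k⁻¹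
    group
  eq_of_mem := by
    rintro _ ⟨g, rfl⟩ _ ⟨k, rfl⟩ hx
    rw [QQ_eq h] at hx
    obtain ⟨y, hy, hyk⟩ := hx
    have hyk' : g * y * g⁻¹ = k * z * k⁻¹ := hyk
    have h1 : (g⁻¹ * k) * z * (g⁻¹ * k)⁻¹ = y := by
      calc (g⁻¹ * k) * z * (g⁻¹ * k)⁻¹ = g⁻¹ * (k * z * k⁻¹) * g := by group
        _ = y := by rw [← hyk']; group
    have h2 := hwc (g⁻¹ * k) (by rw [h1]; exact hy)
    rw [h1] at h2
    rw [← hyk', h2]

/-- the condition `O₂(C(z)) ≤ Q` is invariant under conjugation -/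
theorem normal_two (h : Large Q z)
    (hO : ∀ N : Subgroup (Subgroup.centralizer ({z} : Set G)), N.Normal → IsPGroup 2 N →
      ∀ x ∈ N, (x : G) ∈ Q) (p : G) (hp : p ∈ cls z)
    (N : Subgroup (Subgroup.centralizer ({p} : Set G))) (hN : N.Normal) (hN2 : IsPGroup 2 N) :
    ∀ x ∈ N, (x : G) ∈ QQ Q z p := by
  obtain ⟨g, rfl⟩ := hp
  rw [QQ_eq h]
  have hc : ∀ x : G, x * z = z * x → (g * x * g⁻¹) * (g * z * g⁻¹) = (g * z * g⁻¹) * (g * x * g⁻¹) := by
    intro x hx
    calc (g * x * g⁻¹) * (g * z * g⁻¹) = g * (x * z) * g⁻¹ := by group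
      _ = _ := by rw [hx]; group
  -- conjugation `C(z) → C(z^g)`
  let φ : Subgroup.centralizer ({z} : Set G) →* Subgroup.centralizer ({g * z * g⁻¹} : Set G) :=
    { toFun := fun x => ⟨g * x * g⁻¹, Subgroup.mem_centralizer_singleton_iff.2
        (hc x (Subgroup.mem_centralizer_singleton_iff.1 x.2))⟩
      map_one' := Subtype.ext (by show g * 1 * g⁻¹ = 1; group)
      map_mul' := fun x y => Subtype.ext (by
        show g * ((x : G) * y) * g⁻¹ = (g * x * g⁻¹) * (g * y * g⁻¹)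
        group) }
  have hφ : Function.Injective φ := by
    intro x y hxy
    apply Subtype.ext
    have h1 : g * (x : G) * g⁻¹ = g * y * g⁻¹ := congrArg Subtype.val hxy
    exact mul_left_cancel (mul_right_cancel h1)
  have h1 : (N.comap φ).Normal := hN.comap φ
  have h2 : IsPGroup 2 (N.comap φ) := hN2.comap_of_injective φ hφ
  intro x hx
  have hxz : (g⁻¹ * (x : G) * g) * z = z * (g⁻¹ * x * g) := by
    have h3 := Subgroup.mem_centralizer_singleton_iff.1 x.2
    calc (g⁻¹ * (x : G) * g) * z = g⁻¹ * ((x : G) * (g * z * g⁻¹)) * g := by group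
      _ = g⁻¹ * ((g * z * g⁻¹) * x) * g := by rw [h3]
      _ = _ := by group
  have h3 := hO (N.comap φ) h1 h2 ⟨g⁻¹ * (x : G) * g, Subgroup.mem_centralizer_singleton_iff.2 hxz⟩ (by
    rw [Subgroup.mem_comap]
    have : φ ⟨g⁻¹ * (x : G) * g, Subgroup.mem_centralizer_singleton_iff.2 hxz⟩ = x := by
      apply Subtype.ext
      show g * (g⁻¹ * (x : G) * g) * g⁻¹ = x
      group
    rw [this]; exact hx)
  refine ⟨_, h3, ?_⟩
  show g * (g⁻¹ * (x : G) * g) * g⁻¹ = x
  group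

/-- a nonabelian simple group has no subgroup of index two -/
theorem index_ne_two [IsSimpleGroup G] (hnc : ∃ a b : G, a * b ≠ b * a) (H : Subgroup G) : H.index ≠ 2 := by
  intro hH
  have hN : H.Normal := Subgroup.normal_of_index_eq_two hH
  rcases hN.eq_bot_or_eq_top with h1 | h1
  · rw [h1, Subgroup.index_bot] at hH
    obtain ⟨a, b, hab⟩ := hnc
    apply hab
    have : IsCyclic G := isCyclic_of_prime_card hH
    exact (IsCyclic.commGroup (α := G)).mul_comm a b
  · rw [h1, Subgroup.index_top] at hH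
    exact absurd hH (by norm_num)

/-- **Case I**, `G` simple. -/
theorem irreducible [Finite G] [IsSimpleGroup G] (h : Large Q z) (h128 : 128 ≤ Nat.card Q)
    (hO : ∀ N : Subgroup (Subgroup.centralizer ({z} : Set G)), N.Normal → IsPGroup 2 N →
      ∀ x ∈ N, (x : G) ∈ Q)
    (hwc : ∀ g : G, g * z * g⁻¹ ∈ Q → g * z * g⁻¹ = z)
    {A : Subgroup G} (hzA : z ∈ A) (hAQ : A ≤ Q) (hA : ∀ c, c * z = z * c → ∀ x ∈ A, c * x * c⁻¹ ∈ A) :
    (∀ m ∈ A, m = 1 ∨ m = z) ∨ A = Q := by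
  have hnc : ∃ a b : G, a * b ≠ b * a := by
    obtain ⟨x, hx, hx1, hxz⟩ : ∃ x ∈ Q, x ≠ 1 ∧ x ≠ z := by
      by_contra hcon
      push Not at hcon
      have h1 : (Q : Set G) ⊆ {1, z} := by
        intro x hx
        simp only [Set.mem_insert_iff, Set.mem_singleton_iff]
        by_cases h2 : x = 1
        · exact Or.inl h2
        · exact Or.inr (hcon x hx h2)
      have h2 : Nat.card Q ≤ 2 := by
        have h3 : Nat.card Q = Set.ncard (Q : Set G) := rfl
        rw [h3]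
        calc _ ≤ Set.ncard ({1, z} : Set G) := Set.ncard_le_ncard h1 (Set.toFinite _)
          _ ≤ Set.ncard ({z} : Set G) + 1 := Set.ncard_insert_le _ _
          _ = 2 := by rw [Set.ncard_singleton]
      omega
    obtain ⟨y, -, hyx⟩ := exists_not_comm h hx hx1 hxz
    refine ⟨y, x, fun h1 => ?_⟩
    rw [hyx] at h1
    exact h.z_ne (mul_eq_left.1 h1)
  have B := base h hwc
  obtain ⟨g, hg1, hg2⟩ := Cfsg.Agent.SporRec.LyReduce.exists_conj_ne z (Base.orderOf_z h) hnc
  have hz : z ∈ cls z := ⟨1, by group⟩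
  have c : Com (cls z) z (g * z * g⁻¹) := ⟨hz, ⟨g, rfl⟩, Ne.symm hg1, hg2.eq⟩
  have hQ : ∀ p ∈ cls z, 128 ≤ Nat.card (QQ Q z p) := by
    intro p hp
    rw [B.card_eq hp hz, QQ_self h]
    exact h128
  have hA' : Inva (QQ Q z) z A := by
    refine ⟨hzA, ?_, hA⟩
    rw [QQ_self h]; exact hAQ
  have h1 := main B (fun H => index_ne_two hnc H) hQ (fun p hp N hN hN2 => normal_two h hO p hp N hN hN2)
    ⟨z, _, c⟩ hz hA'
  rwa [QQ_self h] at h1

/-- **Case I of S1761**: `z` weakly closed in `F*(C_G(z))`. -/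
theorem irreducible_of_fstar [Finite G] [IsSimpleGroup G] (z : G) (hz : orderOf z = 2)
    (hE : Cfsg.IsExtraspecial 2 ↥(Cfsg.generalizedFittingSubgroup ↥(Subgroup.centralizer ({z} : Set G))))
    (n : ℕ) (hn : 3 ≤ n)
    (hcard : Nat.card ↥(Cfsg.generalizedFittingSubgroup ↥(Subgroup.centralizer ({z} : Set G))) =
      2 ^ (2 * n + 1))
    (hwc : ∀ g : G, g * z * g⁻¹ ∈ (Cfsg.generalizedFittingSubgroup
      ↥(Subgroup.centralizer ({z} : Set G))).map (Subgroup.centralizer ({z} : Set G)).subtype →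
      g * z * g⁻¹ = z)
    (A : Subgroup ↥(Subgroup.centralizer ({z} : Set G))) (hAn : A.Normal)
    (hzA : Subgroup.zpowers (⟨z, Subgroup.mem_centralizer_singleton_iff.mpr rfl⟩ :
      ↥(Subgroup.centralizer ({z} : Set G))) ≤ A)
    (hAQ : A ≤ Cfsg.generalizedFittingSubgroup ↥(Subgroup.centralizer ({z} : Set G))) :
    A = Subgroup.zpowers (⟨z, Subgroup.mem_centralizer_singleton_iff.mpr rfl⟩ :
      ↥(Subgroup.centralizer ({z} : Set G))) ∨
    A = Cfsg.generalizedFittingSubgroup ↥(Subgroup.centralizer ({z} : Set G)) := by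
  have h := large_of_genFitting z hz hE
  have hO : ∀ N : Subgroup (Subgroup.centralizer ({z} : Set G)), N.Normal → IsPGroup 2 N →
      ∀ x ∈ N, (x : G) ∈ (Cfsg.generalizedFittingSubgroup
        ↥(Subgroup.centralizer ({z} : Set G))).map (Subgroup.centralizer ({z} : Set G)).subtype :=
    fun N hN hN2 x hx => ⟨x, TwoCentral.le_of_normal_two hN hN2 hx, rfl⟩
  have h128 : 128 ≤ Nat.card ↥((Cfsg.generalizedFittingSubgroup
      ↥(Subgroup.centralizer ({z} : Set G))).map (Subgroup.centralizer ({z} : Set G)).subtype) := by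
    rw [Subgroup.card_map_of_injective (Subgroup.subtype_injective _), hcard]
    calc 128 = 2 ^ 7 := by norm_num
      _ ≤ 2 ^ (2 * n + 1) := Nat.pow_le_pow_right (by norm_num) (by omega)
  have hzA' : (⟨z, Subgroup.mem_centralizer_singleton_iff.mpr rfl⟩ :
      ↥(Subgroup.centralizer ({z} : Set G))) ∈ A := hzA (Subgroup.mem_zpowers _)
  have h1 := irreducible h h128 hO hwc (A := A.map (Subgroup.centralizer ({z} : Set G)).subtype)
    ⟨_, hzA', rfl⟩ (Subgroup.map_mono hAQ) (by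
      rintro c hc _ ⟨x, hx, rfl⟩
      exact ⟨⟨c, Subgroup.mem_centralizer_singleton_iff.2 hc⟩ * x *
        ⟨c, Subgroup.mem_centralizer_singleton_iff.2 hc⟩⁻¹, hAn.conj_mem x hx _, rfl⟩)
  rcases h1 with h1 | h1
  · left
    apply le_antisymm _ hzA
    intro x hx
    rcases h1 x ⟨x, hx, rfl⟩ with h2 | h2
    · have : x = 1 := Subtype.ext h2
      rw [this]; exact one_mem _
    · have : x = ⟨z, Subgroup.mem_centralizer_singleton_iff.mpr rfl⟩ := Subtype.ext h2
      rw [this]; exact Subgroup.mem_zpowers _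
  · right
    exact Subgroup.map_injective (Subgroup.subtype_injective _) h1

end Cfsg.Agent.LargeExtra.WCIrr
end
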