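import Cfsg.Agent.LargeExtra.TwoCentral
import Cfsg.Agent.LargeExtra.Local
import Cfsg.Agent.ClassicalGeometry.TwoFamilies
import Cfsg.Agent.LargeExtra.Dickson
import Cfsg.Agent.LargeExtra.Perp
import Cfsg.Agent.LargeExtra.TransferPow
set_option linter.all false

-- part: LargeExtra/SwapBasic
section
/-!
# Two complementary totally singular 3-spaces swapped by `C_G(z)` (helper805)

Linear algebra for the kill of `PGL₂(7)` (S1762, II-c2).
-/

set_option autoImplicit false
set_option linter.style.haveILetI false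

namespace Cfsg.Agent.LargeExtra.SwapBasic

open Cfsg.Agent.Co2Type.Quad Cfsg.Agent.LargeExtra.Base Cfsg.Agent.LargeExtra.TwoCentral
open Module

variable {G : Type*} [Group G] {Q : Subgroup G} {z : G}

theorem eq_of_add (h : Large Q z) {v w : h.V} (H : v + w = 0) : v = w := by
  calc v = v + w + w := by rw [add_assoc, h.add_self, add_zero]
    _ = w := by rw [H, zero_add]

theorem add_eq (h : Large Q z) {v w : h.V} (H : v = w) : v + w = 0 := by rw [H, h.add_self]

/-- `U`, `W` are complementary totally singular 3-spaces of the 6-dimensional space `V`. -/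
structure Lag (h : Large Q z) (U W : Submodule (ZMod 2) h.V) : Prop where
  cardQ : Nat.card Q = 128
  cardU : Nat.card U = 8
  cardW : Nat.card W = 8
  qU : ∀ v ∈ U, h.q v = 0
  qW : ∀ v ∈ W, h.q v = 0
  disj : ∀ v ∈ U, v ∈ W → v = 0

/-- `f` preserves `U` and `W` -/
def Keep (h : Large Q z) (U W : Submodule (ZMod 2) h.V) (f : h.V ≃ₗ[ZMod 2] h.V) : Prop :=
  (∀ v ∈ U, f v ∈ U) ∧ (∀ v ∈ W, f v ∈ W)

/-- `f` swaps `U` and `W` -/
def Flip (h : Large Q z) (U W : Submodule (ZMod 2) h.V) (f : h.V ≃ₗ[ZMod 2] h.V) : Prop :=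
  (∀ v ∈ U, f v ∈ W) ∧ (∀ v ∈ W, f v ∈ U)

namespace Lag

variable {h : Large Q z} {U W : Submodule (ZMod 2) h.V}

theorem symm (S : Lag h U W) : Lag h W U where
  cardQ := S.cardQ
  cardU := S.cardW
  cardW := S.cardU
  qU := S.qW
  qW := S.qU
  disj v hv hv' := S.disj v hv' hv

theorem finiteQ (S : Lag h U W) : Finite Q := by
  apply Nat.finite_of_card_ne_zero
  rw [S.cardQ]; norm_num

theorem bU (S : Lag h U W) {u v : h.V} (hu : u ∈ U) (hv : v ∈ U) : h.b u v = 0 := by
  have h1 := h.q_add' u v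
  rw [S.qU _ (U.add_mem hu hv), S.qU _ hu, S.qU _ hv, add_zero, zero_add] at h1
  exact h1.symm

theorem bW (S : Lag h U W) {u v : h.V} (hu : u ∈ W) (hv : v ∈ W) : h.b u v = 0 := S.symm.bU hu hv

theorem cardV (S : Lag h U W) : Nat.card h.V = 64 := by
  have h1 := h.card_eq
  rw [S.cardQ] at h1
  omega

/-- `V = U + W` -/
theorem exists_add (S : Lag h U W) (v : h.V) : ∃ u ∈ U, ∃ w ∈ W, v = u + w := by
  have := S.finiteQ
  let f : U × W → h.V := fun p => (p.1 : h.V) + p.2
  have hinj : Function.Injective f := by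
    rintro ⟨u, w⟩ ⟨u', w'⟩ huw
    have h1 : (u : h.V) + w = u' + w' := huw
    have h2 : (u : h.V) - u' = w' - w := by
      rw [sub_eq_sub_iff_add_eq_add, h1, add_comm]
    have h3 : (u : h.V) - u' = 0 := S.disj _ (U.sub_mem u.2 u'.2) (h2 ▸ W.sub_mem w'.2 w.2)
    have h4 : (w' : h.V) - w = 0 := h2 ▸ h3
    rw [sub_eq_zero] at h3 h4
    exact Prod.ext (Subtype.ext h3) (Subtype.ext h4.symm)
  have hcard : Nat.card (U × W) = Nat.card h.V := by
    rw [Nat.card_prod, S.cardU, S.cardW, S.cardV]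
  have hbij : Function.Bijective f := (Nat.bijective_iff_injective_and_card f).2 ⟨hinj, hcard⟩
  obtain ⟨⟨u, w⟩, huw⟩ := hbij.2 v
  exact ⟨u, u.2, w, w.2, huw.symm⟩

theorem eq_zero_U (S : Lag h U W) {u : h.V} (hu : u ∈ U) (H : ∀ w ∈ W, h.b u w = 0) : u = 0 := by
  apply h.b_nondeg
  intro v
  obtain ⟨u', hu', w, hw, rfl⟩ := S.exists_add v
  rw [map_add, S.bU hu hu', H w hw, add_zero]

theorem eq_zero_W (S : Lag h U W) {w : h.V} (hw : w ∈ W) (H : ∀ u ∈ U, h.b w u = 0) : w = 0 :=
  S.symm.eq_zero_U hw H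

/-- `W^⊥ = W` -/
theorem mem_W_of_perp (S : Lag h U W) {v : h.V} (H : ∀ w ∈ W, h.b v w = 0) : v ∈ W := by
  obtain ⟨u, hu, w, hw, rfl⟩ := S.exists_add v
  have h1 : u = 0 := S.eq_zero_U hu fun w' hw' => by
    have := H w' hw'
    rwa [map_add, LinearMap.add_apply, S.bW hw hw', add_zero] at this
  rw [h1, zero_add]; exact hw

theorem mem_U_of_perp (S : Lag h U W) {v : h.V} (H : ∀ w ∈ U, h.b v w = 0) : v ∈ U :=
  S.symm.mem_W_of_perp H

/-- isometry condition in terms of `b` -/
theorem eq_one (S : Lag h U W) {f : h.V ≃ₗ[ZMod 2] h.V} (hf : ∀ v w, h.b (f v) (f w) = h.b v w)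
    (hk : Keep h U W f) (H : ∀ u ∈ U, f u = u) : f = 1 := by
  ext v
  obtain ⟨u, hu, w, hw, rfl⟩ := S.exists_add v
  show f (u + w) = u + w
  rw [map_add, H u hu]
  congr 1
  apply eq_of_add h
  apply S.eq_zero_W (W.add_mem (hk.2 w hw) hw)
  intro u' hu'
  rw [map_add, LinearMap.add_apply]
  have h1 := hf w u'
  rw [H u' hu'] at h1
  rw [h1]
  rcases zmod_two (h.b w u') with h2 | h2 <;> rw [h2] <;> decide

/-- functionals on `U` are given by elements of `W` -/
theorem exists_repr (S : Lag h U W) (φ : U →ₗ[ZMod 2] ZMod 2) : ∃ w ∈ W, ∀ u : U, h.b w u = φ u := by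
  have := S.finiteQ
  have : Finite h.V := inferInstance
  have : Module.Finite (ZMod 2) h.V := Module.Finite.of_finite
  -- extend by zero on `W`
  have hex : ∀ v : h.V, ∃ u : U, v + u ∈ W := by
    intro v
    obtain ⟨u, hu, w, hw, rfl⟩ := S.exists_add v
    refine ⟨⟨u, hu⟩, ?_⟩
    have : u + w + u = w + (u + u) := by abel
    rw [this, h.add_self, add_zero]; exact hw
  choose p hp using hex
  have huniq : ∀ (v : h.V) (u : U), v + u ∈ W → p v = u := by
    intro v u hu
    apply Subtype.ext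
    apply eq_of_add h
    apply S.disj _ (U.add_mem (p v).2 u.2)
    have : (p v : h.V) + u = (v + p v) + (v + u) := by
      calc (p v : h.V) + u = (v + v) + (p v + u) := by rw [h.add_self, zero_add]
        _ = _ := by abel
    rw [this]
    exact W.add_mem (hp v) hu
  have hadd : ∀ v v', p (v + v') = p v + p v' := by
    intro v v'
    apply huniq
    have : v + v' + ((p v + p v' : U) : h.V) = (v + p v) + (v' + p v') := by
      rw [Submodule.coe_add]; abel
    rw [this]
    exact W.add_mem (hp v) (hp v')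
  obtain ⟨k, hk⟩ := h.exists_b_eq (AddMonoidHom.toZModLinearMap 2
    { toFun := fun v => φ (p v)
      map_zero' := by
        have : p 0 = 0 := huniq 0 0 (by simp)
        rw [this, map_zero]
      map_add' := fun v w => by rw [hadd, map_add] } : h.V →ₗ[ZMod 2] ZMod 2)
  have hk' : ∀ v, h.b k v = φ (p v) := hk
  refine ⟨k, S.mem_W_of_perp fun w hw => ?_, fun u => ?_⟩
  · rw [hk', huniq w 0 (by simpa using hw), map_zero]
  · rw [hk', huniq u u (by rw [h.add_self]; exact W.zero_mem)]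

theorem finrank_U (S : Lag h U W) : finrank (ZMod 2) U = 3 := by
  have := S.finiteQ
  have : Finite h.V := inferInstance
  have : Module.Finite (ZMod 2) h.V := Module.Finite.of_finite
  have h1 := Module.natCard_eq_pow_finrank (K := ZMod 2) (V := U)
  rw [Nat.card_zmod, S.cardU] at h1
  have h2 : (2 : ℕ) ^ 3 = 2 ^ finrank (ZMod 2) U := by rw [← h1]; norm_num
  exact (Nat.pow_right_injective (le_refl 2) h2).symm

/-- The shape of an involution preserving `U` and `W`: `x v = v + b(w₁, v) u₁ + b(u₁, v) w₁`. -/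
theorem transvection (S : Lag h U W) {x : h.V ≃ₗ[ZMod 2] h.V} (hx : ∀ v w, h.b (x v) (x w) = h.b v w)
    (hk : Keep h U W x) (hxx : x * x = 1) (hx1 : x ≠ 1) :
    ∃ u₁ ∈ U, ∃ w₁ ∈ W, u₁ ≠ 0 ∧ w₁ ≠ 0 ∧ h.b u₁ w₁ = 0 ∧
      ∀ v, x v = v + h.b w₁ v • u₁ + h.b u₁ v • w₁ := by
  have := S.finiteQ
  have : Finite h.V := inferInstance
  have : Module.Finite (ZMod 2) h.V := Module.Finite.of_finite
  have hxx' : ∀ v, x (x v) = v := fun v => congrArg (fun t : h.V ≃ₗ[ZMod 2] h.V => t v) hxx
  obtain ⟨v₀, hv₀, hv₀x⟩ : ∃ v₀ ∈ U, x v₀ ≠ v₀ := by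
    by_contra hcon
    push Not at hcon
    exact hx1 (S.eq_one hx hk hcon)
  obtain ⟨u₁, hu₁⟩ : ∃ u, u = x v₀ + v₀ := ⟨_, rfl⟩
  have hu₁U : u₁ ∈ U := hu₁ ▸ U.add_mem (hk.1 _ hv₀) hv₀
  have hu₁0 : u₁ ≠ 0 := fun h0 => hv₀x (eq_of_add h (hu₁ ▸ h0))
  -- `N v = x v + v` on `U`
  let N : U →ₗ[ZMod 2] U :=
    { toFun := fun v => ⟨x v + v, U.add_mem (hk.1 _ v.2) v.2⟩
      map_add' := fun v w => by
        apply Subtype.ext
        show x (v + w : h.V) + (v + w) = (x v + v) + (x w + w)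
        rw [map_add]; abel
      map_smul' := fun c v => by
        apply Subtype.ext
        show x (c • (v : h.V)) + c • (v : h.V) = c • (x v + v)
        rw [map_smul, smul_add] }
  have hN : ∀ v : U, (N v : h.V) = x v + v := fun v => rfl
  have hrange : LinearMap.range N ≤ LinearMap.ker N := by
    rintro _ ⟨v, rfl⟩
    rw [LinearMap.mem_ker]
    apply Subtype.ext
    rw [hN, hN, map_add, hxx']
    show (v : h.V) + x v + (x v + v) = 0
    calc (v : h.V) + x v + (x v + v) = (v + v) + (x v + x v) := by abel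
      _ = 0 := by rw [h.add_self, h.add_self, add_zero]
  have hrk := LinearMap.finrank_range_add_finrank_ker N
  have hle := Submodule.finrank_mono hrange
  rw [S.finrank_U] at hrk
  have h1 : finrank (ZMod 2) (LinearMap.range N) ≤ 1 := by omega
  rw [finrank_le_one_iff] at h1
  obtain ⟨g, hg⟩ := h1
  have hgen : ∀ v : U, N v = 0 ∨ N v = g := by
    intro v
    obtain ⟨c, hc⟩ := hg ⟨N v, v, rfl⟩
    have hc' : c • (g : U) = N v := congrArg Subtype.val hc
    rcases zmod_two c with rfl | rfl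
    · left; rw [← hc', zero_smul]
    · right; rw [← hc', one_smul]
  have hg1 : (g : U) = ⟨u₁, hu₁U⟩ := by
    rcases hgen ⟨v₀, hv₀⟩ with h2 | h2
    · exact absurd (hu₁.trans (congrArg Subtype.val h2)) hu₁0
    · rw [← h2]; exact Subtype.ext hu₁.symm
  have hN01 : ∀ v ∈ U, x v = v ∨ x v = v + u₁ := by
    intro v hv
    rcases hgen ⟨v, hv⟩ with h2 | h2
    · left; exact eq_of_add h (congrArg Subtype.val h2)
    · right
      rw [hg1] at h2
      have h3 : x v + v = u₁ := congrArg Subtype.val h2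
      calc x v = x v + v + v := by rw [add_assoc, h.add_self, add_zero]
        _ = v + u₁ := by rw [h3, add_comm]
  -- the functional
  classical
  let lam : U →ₗ[ZMod 2] ZMod 2 := AddMonoidHom.toZModLinearMap 2
    { toFun := fun v => if x v = v then 0 else 1
      map_zero' := by
        show (if x ((0 : U) : h.V) = ((0 : U) : h.V) then (0 : ZMod 2) else 1) = 0
        rw [if_pos]; simp
      map_add' := by
        intro v w
        show (if x ((v + w : U) : h.V) = ((v + w : U) : h.V) then (0 : ZMod 2) else 1) =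
          (if x v = v then (0 : ZMod 2) else 1) + (if x w = w then (0 : ZMod 2) else 1)
        rw [Submodule.coe_add, map_add]
        rcases hN01 v v.2 with h2 | h2 <;> rcases hN01 w w.2 with h3 | h3
        · rw [h2, h3, if_pos rfl, if_pos rfl, if_pos rfl, add_zero]
        · rw [h2, h3, if_pos rfl, if_neg, if_neg, zero_add]
          · intro h4; exact hu₁0 (add_eq_left.1 h4)
          · intro h4; rw [← add_assoc] at h4; exact hu₁0 (add_eq_left.1 h4)
        · rw [h2, h3, if_pos rfl, if_neg, if_neg, add_zero]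
          · intro h4; exact hu₁0 (add_eq_left.1 h4)
          · intro h4
            have : (v : h.V) + u₁ + w = v + w + u₁ := by abel
            rw [this] at h4; exact hu₁0 (add_eq_left.1 h4)
        · rw [h2, h3, if_pos, if_neg, if_neg]
          · decide
          · intro h4; exact hu₁0 (add_eq_left.1 h4)
          · intro h4; exact hu₁0 (add_eq_left.1 h4)
          · calc (v : h.V) + u₁ + (w + u₁) = v + w + (u₁ + u₁) := by abel
              _ = v + w := by rw [h.add_self, add_zero] }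
  have hlam : ∀ v : U, x v = v + lam v • u₁ := by
    intro v
    show x v = v + (if x v = v then (0 : ZMod 2) else 1) • u₁
    rcases hN01 v v.2 with h2 | h2
    · rw [if_pos h2, zero_smul, add_zero]; exact h2
    · rw [if_neg, one_smul]
      · exact h2
      · intro h3; rw [h3] at h2; exact hu₁0 (add_eq_left.1 h2.symm)
  obtain ⟨w₁, hw₁, hw₁lam⟩ := S.exists_repr lam
  have hxU : ∀ v ∈ U, x v = v + h.b w₁ v • u₁ := by
    intro v hv
    rw [hw₁lam ⟨v, hv⟩]
    exact hlam ⟨v, hv⟩
  have hxu₁ : x u₁ = u₁ := by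
    rw [hu₁, map_add, hxx']; exact add_comm _ _
  have hb : h.b u₁ w₁ = 0 := by
    have h2 := hxU u₁ hu₁U
    rw [hxu₁] at h2
    rcases smul_eq_zero.1 (add_eq_left.1 h2.symm) with h3 | h3
    · rw [h.b_comm]; exact h3
    · exact absurd h3 hu₁0
  have hw₁0 : w₁ ≠ 0 := by
    intro h0
    have h2 := hxU v₀ hv₀
    rw [h0, map_zero, LinearMap.zero_apply, zero_smul, add_zero] at h2
    exact hv₀x h2
  have hxW : ∀ v ∈ W, x v = v + h.b u₁ v • w₁ := by
    intro v hv
    apply eq_of_add h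
    apply S.eq_zero_W (W.add_mem (hk.2 v hv) (W.add_mem hv (W.smul_mem _ hw₁)))
    intro u hu
    have h2 : h.b (x v) u = h.b v (x u) := by
      rw [← hx v (x u), hxx']
    rw [map_add, LinearMap.add_apply, h2, hxU u hu, map_add, map_add, LinearMap.add_apply, map_smul,
      map_smul, LinearMap.smul_apply, smul_eq_mul, smul_eq_mul, h.b_comm u₁ v]
    have : ∀ a b c : ZMod 2, a + b * c + (a + c * b) = 0 := by decide
    exact this _ _ _
  refine ⟨u₁, hu₁U, w₁, hw₁, hu₁0, hw₁0, hb, ?_⟩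
  intro v
  obtain ⟨u, hu, w, hw, rfl⟩ := S.exists_add v
  rw [map_add, hxU u hu, hxW w hw, map_add, map_add, S.bW hw₁ hw, S.bU hu₁U hu, add_zero, zero_add]
  abel

/-- separation of two elements of `W` by an element of `U` -/
theorem sep (S : Lag h U W) {w w' : h.V} (hw : w ∈ W) (hw' : w' ∈ W) (h0 : w' ≠ 0) (h1 : w' ≠ w) :
    ∃ v ∈ U, h.b w v = 0 ∧ h.b w' v = 1 := by
  by_contra hcon
  push Not at hcon
  have key : ∀ v, h.b w v = 0 → h.b w' v = 0 := by
    intro v hv
    obtain ⟨u, hu, w'', hw'', rfl⟩ := S.exists_add v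
    rw [map_add, S.bW hw hw'', add_zero] at hv
    rw [map_add, S.bW hw' hw'', add_zero]
    by_contra h2
    exact hcon u hu hv (zmod_two_ne h2)
  rcases eq_of_perp h key with h2 | h2
  · exact h0 h2
  · exact h1 h2

/-- Two different points and two different planes of `U` cannot be pairwise incident. -/
theorem dim_one (S : Lag h U W) {u u₁ w w₁ : h.V} (hu : u ∈ U) (hu₁ : u₁ ∈ U) (hw : w ∈ W) (hw₁ : w₁ ∈ W)
    (hu0 : u ≠ 0) (hu₁0 : u₁ ≠ 0) (hw0 : w ≠ 0) (hw₁0 : w₁ ≠ 0) (hne : w₁ ≠ w)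
    (h1 : h.b u w = 0) (h2 : h.b u w₁ = 0) (h3 : h.b u₁ w = 0) (h4 : h.b u₁ w₁ = 0) : u₁ = u := by
  by_contra hne'
  have := S.finiteQ
  have : Finite h.V := inferInstance
  have : Module.Finite (ZMod 2) h.V := Module.Finite.of_finite
  obtain ⟨v₁, hv₁, hv₁u, hv₁u₁⟩ := S.symm.sep hu hu₁ hu₁0 hne'
  obtain ⟨v₂, hv₂, hv₂u₁, hv₂u⟩ := S.symm.sep hu₁ hu hu0 (Ne.symm hne')
  have hli : LinearIndependent (ZMod 2) (![⟨w, hw⟩, ⟨w₁, hw₁⟩, ⟨v₁, hv₁⟩, ⟨v₂, hv₂⟩] : Fin 4 → W) := by
    rw [Fintype.linearIndependent_iff]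
    intro g hg
    rw [Fin.sum_univ_four] at hg
    have hg' : g 0 • w + g 1 • w₁ + g 2 • v₁ + g 3 • v₂ = 0 := congrArg Subtype.val hg
    have e1 : g 3 = 0 := by
      have := congrArg (h.b u) hg'
      simpa [map_add, map_smul, h1, h2, hv₁u, hv₂u] using this
    have e2 : g 2 = 0 := by
      have := congrArg (h.b u₁) hg'
      simpa [map_add, map_smul, h3, h4, hv₁u₁, hv₂u₁] using this
    rw [e1, e2, zero_smul, zero_smul, add_zero, add_zero] at hg'
    have e3 : g 0 = 0 ∧ g 1 = 0 := by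
      rcases zmod_two (g 0) with h5 | h5 <;> rcases zmod_two (g 1) with h6 | h6
      · exact ⟨h5, h6⟩
      · rw [h5, h6, zero_smul, one_smul, zero_add] at hg'
        exact absurd hg' hw₁0
      · rw [h5, h6, zero_smul, one_smul, add_zero] at hg'
        exact absurd hg' hw0
      · rw [h5, h6, one_smul, one_smul] at hg'
        exact absurd (eq_of_add h hg').symm hne
    intro i
    fin_cases i
    · exact e3.1
    · exact e3.2
    · exact e2
    · exact e1
  have hc := hli.fintype_card_le_finrank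
  rw [S.symm.finrank_U, Fintype.card_fin] at hc
  omega

end Lag

end Cfsg.Agent.LargeExtra.SwapBasic
end

-- part: LargeExtra/SwapFlip
section
/-!
# Involutory isometries swapping two totally singular 3-spaces (helper805)
-/

set_option autoImplicit false
set_option linter.style.haveILetI false

namespace Cfsg.Agent.LargeExtra.SwapFlip

open Cfsg.Agent.Co2Type.Quad Cfsg.Agent.LargeExtra.Base Cfsg.Agent.LargeExtra.TwoCentral
open Cfsg.Agent.LargeExtra.SwapBasic
open Module

variable {G : Type*} [Group G] {Q : Subgroup G} {z : G}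

/-- an involutory isometry swapping `U` and `W` -/
structure Inv (h : Large Q z) (U W : Submodule (ZMod 2) h.V) (f : h.V ≃ₗ[ZMod 2] h.V) : Prop where
  lag : Lag h U W
  iso : ∀ v w, h.b (f v) (f w) = h.b v w
  flip : Flip h U W f
  inv : ∀ v, f (f v) = v

/-- four elements -/
theorem four {h : Large Q z} {M : Submodule (ZMod 2) h.V} (hM : Nat.card M = 4) {a b : h.V} (ha : a ∈ M)
    (hb : b ∈ M) (ha0 : a ≠ 0) (hb0 : b ≠ 0) (hab : a ≠ b) :
    ∀ d ∈ M, d = 0 ∨ d = a ∨ d = b ∨ d = a + b := by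
  have : Finite M := by
    apply Nat.finite_of_card_ne_zero
    rw [hM]; norm_num
  have hab0 : a + b ≠ 0 := fun h0 => hab (eq_of_add h h0)
  let f : ZMod 2 × ZMod 2 → M := fun p => p.1 • ⟨a, ha⟩ + p.2 • ⟨b, hb⟩
  have hinj : Function.Injective f := by
    have key : ∀ p : ZMod 2 × ZMod 2, (p.1 • a + p.2 • b = 0) → p = 0 := by
      rintro ⟨i, j⟩ h1
      rcases zmod_two i with rfl | rfl <;> rcases zmod_two j with rfl | rfl
      · rfl
      · rw [zero_smul, zero_add, one_smul] at h1; exact absurd h1 hb0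
      · rw [zero_smul, add_zero, one_smul] at h1; exact absurd h1 ha0
      · rw [one_smul, one_smul] at h1; exact absurd h1 hab0
    intro p q hpq
    have h1 : p.1 • a + p.2 • b = q.1 • a + q.2 • b := congrArg Subtype.val hpq
    have h2 : (p - q).1 • a + (p - q).2 • b = 0 := by
      rw [Prod.fst_sub, Prod.snd_sub, sub_smul, sub_smul]
      rw [← sub_eq_zero] at h1
      rw [← h1]; abel
    exact sub_eq_zero.1 (key _ h2)
  have hcard : Nat.card (ZMod 2 × ZMod 2) = Nat.card M := by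
    rw [Nat.card_prod, Nat.card_zmod, hM]
  have hbij : Function.Bijective f := (Nat.bijective_iff_injective_and_card f).2 ⟨hinj, hcard⟩
  intro d hd
  obtain ⟨⟨i, j⟩, hij⟩ := hbij.2 ⟨d, hd⟩
  have h1 : i • a + j • b = d := congrArg Subtype.val hij
  rcases zmod_two i with rfl | rfl <;> rcases zmod_two j with rfl | rfl
  · left; rw [← h1]; simp
  · right; right; left; rw [← h1]; simp
  · right; left; rw [← h1]; simp
  · right; right; right; rw [← h1]; simp

namespace Inv

variable {h : Large Q z} {U W : Submodule (ZMod 2) h.V} {f : h.V ≃ₗ[ZMod 2] h.V}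

theorem symm (I : Inv h U W f) : Inv h W U f where
  lag := I.lag.symm
  iso := I.iso
  flip := ⟨I.flip.2, I.flip.1⟩
  inv := I.inv

/-- `b(u, f v)` is symmetric -/
theorem beta_symm (I : Inv h U W f) (u v : h.V) : h.b u (f v) = h.b v (f u) := by
  rw [← I.iso u (f v), I.inv, h.b_comm]

theorem fixed_iff (I : Inv h U W f) {v : h.V} : f v = v ↔ ∃ u ∈ U, v = u + f u := by
  constructor
  · intro hv
    obtain ⟨u, hu, w, hw, rfl⟩ := I.lag.exists_add v
    refine ⟨u, hu, ?_⟩
    rw [map_add] at hv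
    -- `f u - w ∈ U ∩ W`
    have h1 : f u + w = 0 := by
      apply I.lag.disj
      · have : f u + w = f w + u := by
          apply eq_of_add h
          calc f u + w + (f w + u) = (f u + f w) + (u + w) := by abel
            _ = 0 := by rw [hv, h.add_self]
        rw [this]
        exact U.add_mem (I.flip.2 w hw) hu
      · exact W.add_mem (I.flip.1 u hu) hw
    rw [eq_of_add h h1]
  · rintro ⟨u, _, rfl⟩
    rw [map_add, I.inv, add_comm]

theorem b_graph (I : Inv h U W f) {u v : h.V} (hu : u ∈ U) (hv : v ∈ U) :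
    h.b (u + f u) (v + f v) = 0 := by
  rw [map_add, map_add, LinearMap.add_apply, LinearMap.add_apply, I.lag.bU hu hv,
    I.lag.bW (I.flip.1 u hu) (I.flip.1 v hv), I.beta_symm u v, h.b_comm (f u) v, add_zero, zero_add]
  rcases zmod_two (h.b v (f u)) with h2 | h2 <;> rw [h2] <;> decide

theorem q_graph (I : Inv h U W f) {u : h.V} (hu : u ∈ U) : h.q (u + f u) = h.b u (f u) := by
  rw [h.q_add', I.lag.qU u hu, I.lag.qW _ (I.flip.1 u hu), add_zero, zero_add]

/-- the functional `u ↦ b(u, f u)` on `U` -/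
noncomputable def lam (I : Inv h U W f) : U →ₗ[ZMod 2] ZMod 2 := AddMonoidHom.toZModLinearMap 2
  { toFun := fun u => h.b u (f u)
    map_zero' := by simp
    map_add' := by
      intro u v
      rw [Submodule.coe_add, map_add, map_add, map_add, LinearMap.add_apply, LinearMap.add_apply,
        I.beta_symm u v]
      have : ∀ a b c : ZMod 2, a + b + (c + b) = a + c := by decide
      rw [← this (h.b u (f u)) (h.b v (f u)) (h.b v (f v))]
      abel }

theorem lam_apply (I : Inv h U W f) (u : U) : I.lam u = h.b u (f u) := rfl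

theorem f_inj (I : Inv h U W f) {v : h.V} (hv : f v = 0) : v = 0 := by
  rw [← I.inv v, hv, map_zero]

theorem surj_W (I : Inv h U W f) {w : h.V} (hw : w ∈ W) : ∃ u ∈ U, f u = w :=
  ⟨f w, I.flip.2 w hw, I.inv w⟩

/-- `β` is nondegenerate on `U` -/
theorem beta_nondeg (I : Inv h U W f) {u : h.V} (hu : u ∈ U) (H : ∀ v ∈ U, h.b u (f v) = 0) : u = 0 := by
  apply I.lag.eq_zero_U hu
  intro w hw
  obtain ⟨v, hv, rfl⟩ := I.surj_W hw
  exact H v hv

theorem exists_one (I : Inv h U W f) : ∃ u ∈ U, h.b u (f u) = 1 := by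
  by_contra hcon
  push Not at hcon
  have := I.lag.finiteQ
  have : Finite h.V := inferInstance
  have : Module.Finite (ZMod 2) h.V := Module.Finite.of_finite
  let B : LinearMap.BilinForm (ZMod 2) U :=
    h.b.compl₁₂ U.subtype (f.toLinearMap.comp U.subtype)
  have hB : ∀ u v : U, B u v = h.b u (f v) := fun u v => rfl
  have halt : B.IsAlt := by
    intro u
    rw [hB]
    by_contra h1
    exact hcon u u.2 (zmod_two_ne h1)
  obtain ⟨m, hm⟩ := Cfsg.Agent.ClassicalGeometry.TwoFamilies.exists_finrank_eq_ker_add B halt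
  have hker : LinearMap.ker B = ⊥ := by
    rw [LinearMap.ker_eq_bot']
    intro u hu
    apply Subtype.ext
    apply I.beta_nondeg u.2
    intro v hv
    rw [← hB u ⟨v, hv⟩, hu]; rfl
  rw [hker, finrank_bot, I.lag.finrank_U] at hm
  omega

/-- `U₀ = {u ∈ U : b(u, f u) = 0}` as a submodule of `V` -/
noncomputable def U0 (I : Inv h U W f) : Submodule (ZMod 2) h.V := (LinearMap.ker I.lam).map U.subtype

theorem mem_U0 (I : Inv h U W f) {u : h.V} : u ∈ I.U0 ↔ u ∈ U ∧ h.b u (f u) = 0 := by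
  constructor
  · rintro ⟨v, hv, rfl⟩
    exact ⟨v.2, hv⟩
  · rintro ⟨hu, h1⟩
    exact ⟨⟨u, hu⟩, h1, rfl⟩

theorem card_U0 (I : Inv h U W f) : Nat.card I.U0 = 4 := by
  have := I.lag.finiteQ
  have : Finite h.V := inferInstance
  have : Module.Finite (ZMod 2) h.V := Module.Finite.of_finite
  obtain ⟨u, hu, hu1⟩ := I.exists_one
  have hne : I.lam ≠ 0 := by
    intro h0
    have : I.lam ⟨u, hu⟩ = 1 := hu1
    rw [h0, LinearMap.zero_apply] at this
    exact absurd this (by decide)
  have h1 := LinearMap.finrank_range_add_finrank_ker I.lam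
  have h2 : LinearMap.range I.lam = ⊤ := LinearMap.range_eq_top.2 (LinearMap.surjective hne)
  rw [h2, finrank_top, finrank_self, I.lag.finrank_U] at h1
  have h3 : finrank (ZMod 2) I.U0 = 2 := by
    rw [U0, Submodule.finrank_map_subtype_eq]; omega
  rw [Module.natCard_eq_pow_finrank (K := ZMod 2), h3, Nat.card_zmod]
  norm_num

/-- every element of `U` is in `U₀` or `u₁ + U₀` -/
theorem add_mem_U0 (I : Inv h U W f) {u v : h.V} (hu : u ∈ U) (hv : v ∈ U) (h1 : h.b u (f u) = 1)
    (h2 : h.b v (f v) = 1) : u + v ∈ I.U0 := by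
  rw [I.mem_U0]
  refine ⟨U.add_mem hu hv, ?_⟩
  have h3 : I.lam (⟨u, hu⟩ + ⟨v, hv⟩) = I.lam ⟨u, hu⟩ + I.lam ⟨v, hv⟩ := map_add _ _ _
  rw [I.lam_apply, I.lam_apply, I.lam_apply] at h3
  have h4 : h.b (u + v) (f (u + v)) = h.b u (f u) + h.b v (f v) := h3
  rw [h4, h1, h2]; decide

/-- there are `a, b ∈ U₀` with `b(a, f b) = 1` -/
theorem exists_pair (I : Inv h U W f) : ∃ a ∈ I.U0, ∃ b ∈ I.U0, h.b a (f b) = 1 := by
  classical
  by_contra hcon
  push Not at hcon
  have hcon' : ∀ a ∈ I.U0, ∀ b ∈ I.U0, h.b a (f b) = 0 := by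
    intro a ha b hb
    by_contra h1
    exact hcon a ha b hb (zmod_two_ne h1)
  obtain ⟨u₁, hu₁, h1⟩ := I.exists_one
  have hfin : Finite I.U0 := by
    apply Nat.finite_of_card_ne_zero
    rw [I.card_U0]; norm_num
  have key : ∀ a ∈ I.U0, h.b a (f u₁) = 0 → a = 0 := by
    intro a ha h2
    apply I.beta_nondeg (I.mem_U0.1 ha).1
    intro v hv
    rcases zmod_two (h.b v (f v)) with h3 | h3
    · exact hcon' a ha v (I.mem_U0.2 ⟨hv, h3⟩)
    · have h4 := hcon' a ha _ (I.add_mem_U0 hu₁ hv h1 h3)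
      rw [map_add, map_add, h2, zero_add] at h4
      exact h4
  have huniq : ∀ a ∈ I.U0, ∀ b ∈ I.U0, a ≠ 0 → b ≠ 0 → a = b := by
    intro a ha b hb ha0 hb0
    have h2 : h.b a (f u₁) = 1 := zmod_two_ne fun h3 => ha0 (key a ha h3)
    have h3 : h.b b (f u₁) = 1 := zmod_two_ne fun h4 => hb0 (key b hb h4)
    apply eq_of_add h
    apply key _ (I.U0.add_mem ha hb)
    rw [map_add, LinearMap.add_apply, h2, h3]; decide
  -- but `|U₀| = 4`
  have h2 : Nat.card I.U0 ≤ 2 := by
    have hinj : Function.Injective (fun a : I.U0 => decide ((a : h.V) = 0)) := by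
      intro a b hab
      by_cases ha : (a : h.V) = 0
      · have hab' : decide ((a : h.V) = 0) = decide ((b : h.V) = 0) := hab
        rw [decide_eq_true ha] at hab'
        have hb := of_decide_eq_true hab'.symm
        exact Subtype.ext (ha.trans hb.symm)
      · have hab' : decide ((a : h.V) = 0) = decide ((b : h.V) = 0) := hab
        rw [decide_eq_false ha] at hab'
        have hb := of_decide_eq_false hab'.symm
        exact Subtype.ext (huniq a a.2 b b.2 ha hb)
    have := Nat.card_le_card_of_injective _ hinj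
    simpa using this
  rw [I.card_U0] at h2
  omega

/-- `β` restricted to `U₀` is nondegenerate -/
theorem U0_nondeg (I : Inv h U W f) {d : h.V} (hd : d ∈ I.U0) (H : ∀ v ∈ I.U0, h.b d (f v) = 0) : d = 0 := by
  obtain ⟨a, ha, b, hb, hab⟩ := I.exists_pair
  have haa := (I.mem_U0.1 ha).2
  have ha0 : a ≠ 0 := by
    intro h0; rw [h0, map_zero, LinearMap.zero_apply] at hab; exact absurd hab (by decide)
  have hb0 : b ≠ 0 := by
    intro h0; rw [h0, map_zero, map_zero] at hab; exact absurd hab (by decide)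
  have hne : a ≠ b := by
    intro h0
    rw [← h0, haa] at hab
    exact absurd hab (by decide)
  rcases four I.card_U0 ha hb ha0 hb0 hne d hd with h1 | h1 | h1 | h1
  · exact h1
  · have := H b hb
    rw [h1, hab] at this; exact absurd this (by decide)
  · have := H a ha
    rw [h1, I.beta_symm, hab] at this; exact absurd this (by decide)
  · have := H a ha
    rw [h1, map_add, LinearMap.add_apply, haa, I.beta_symm b a, hab] at this
    exact absurd this (by decide)

/-- (PS) an isometry preserving `U`, `W`, commuting with `f` and fixing the vectors `u + f u`, `u ∈ U₀`, is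
trivial -/
theorem eq_one_of_fix (I : Inv h U W f) {y : h.V ≃ₗ[ZMod 2] h.V} (hy : ∀ v w, h.b (y v) (y w) = h.b v w)
    (hk : Keep h U W y) (hc : ∀ v, y (f v) = f (y v)) (H : ∀ u ∈ I.U0, y (u + f u) = u + f u) : y = 1 := by
  -- `y` is trivial on `U₀`
  have h0 : ∀ u ∈ I.U0, y u = u := by
    intro u hu
    have hu' := (I.mem_U0.1 hu).1
    have h1 := H u hu
    rw [map_add] at h1
    apply eq_of_add h
    apply I.lag.disj _ (U.add_mem (hk.1 u hu') hu')
    have : y u + u = y (f u) + f u := by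
      apply eq_of_add h
      calc y u + u + (y (f u) + f u) = (y u + y (f u)) + (u + f u) := by abel
        _ = 0 := by rw [h1, h.add_self]
    rw [this]
    exact W.add_mem (hk.2 _ (I.flip.1 u hu')) (I.flip.1 u hu')
  obtain ⟨u₁, hu₁, h1⟩ := I.exists_one
  have hbeta : ∀ u v, h.b (y u) (f (y v)) = h.b u (f v) := by
    intro u v
    rw [← hc, hy]
  obtain ⟨d, hd⟩ : ∃ d, d = y u₁ + u₁ := ⟨_, rfl⟩
  have hdU : d ∈ U := hd ▸ U.add_mem (hk.1 u₁ hu₁) hu₁
  have hyu₁ : y u₁ = u₁ + d := by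
    rw [hd]
    calc y u₁ = (u₁ + u₁) + y u₁ := by rw [h.add_self, zero_add]
      _ = _ := by abel
  have hd1 : ∀ v ∈ I.U0, h.b d (f v) = 0 := by
    intro v hv
    have h2 := hbeta u₁ v
    rw [h0 v hv, hyu₁, map_add, LinearMap.add_apply] at h2
    exact add_eq_left.1 h2
  have hd2 : h.b d (f d) = 0 := by
    have h2 := hbeta u₁ u₁
    rw [hyu₁, map_add, map_add, map_add, LinearMap.add_apply, LinearMap.add_apply, I.beta_symm d u₁] at h2
    have : ∀ a b c : ZMod 2, a + b + (b + c) = a → c = 0 := by decide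
    exact this _ _ _ h2
  have hdz : d = 0 := I.U0_nondeg (I.mem_U0.2 ⟨hdU, hd2⟩) hd1
  apply I.lag.eq_one hy hk
  intro v hv
  rcases zmod_two (h.b v (f v)) with h3 | h3
  · exact h0 v (I.mem_U0.2 ⟨hv, h3⟩)
  · have h4 := h0 _ (I.add_mem_U0 hu₁ hv h1 h3)
    rw [map_add, hyu₁, hdz, add_zero] at h4
    exact add_left_cancel h4

end Inv

end Cfsg.Agent.LargeExtra.SwapFlip
end

-- part: LargeExtra/CentCard
section
/-!
# Two commuting conjugates `z`, `s = z^g ∉ Q` (helper805)

* `notMem_of_conj`: `z ∉ Q^g`.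
* `inter_facts`, `comm_cent`: `D = Q ∩ Q^g` is centralised by `C_Q(s)`; if `D = 1` then `C_{Q^g}(z)` centralises
  `C_Q(s)`.
* `card_le_eight`: an involution `t` acting on an extraspecial group `A` with centre `⟨s⟩` with `C_A(t) ≤ ⟨s⟩`
  forces `|A| ≤ 8`.
-/

set_option autoImplicit false
set_option linter.style.haveILetI false

namespace Cfsg.Agent.LargeExtra.CentCard

open Cfsg.Agent.Co2Type.Quad Cfsg.Agent.LargeExtra.Base Cfsg.Agent.LargeExtra.Local
open Cfsg.Agent.LargeExtra.TwoCentral Cfsg.Agent.LargeExtra.Dickson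

variable {G : Type*} [Group G] {Q : Subgroup G} {z : G}

theorem map_map_inv (Q : Subgroup G) (g : G) :
    (Q.map (MulAut.conj g).toMonoidHom).map (MulAut.conj g⁻¹).toMonoidHom = Q := by
  rw [Subgroup.map_map]
  ext x
  constructor
  · rintro ⟨y, hy, rfl⟩
    have : (((MulAut.conj g⁻¹).toMonoidHom).comp (MulAut.conj g).toMonoidHom) y = y := by
      show g⁻¹ * (g * y * g⁻¹) * (g⁻¹)⁻¹ = y
      group
    rw [this]; exact hy
  · intro hx
    refine ⟨x, hx, ?_⟩
    show g⁻¹ * (g * x * g⁻¹) * (g⁻¹)⁻¹ = x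
    group

/-- If `s = z^g ∉ Q` then `z ∉ Q^g`. -/
theorem notMem_of_conj (h : Large Q z) {g s : G} (hg : g * z * g⁻¹ = s) (hsQ : s ∉ Q) :
    z ∉ Q.map (MulAut.conj g).toMonoidHom := by
  intro hzA
  have la : Large (Q.map (MulAut.conj g).toMonoidHom) s := by rw [← hg]; exact h.conj g
  have hne : z ≠ s := by
    intro h1
    exact hsQ (h1 ▸ h.z_mem)
  have e : g⁻¹ * s * (g⁻¹)⁻¹ = z := by rw [← hg]; group
  have p := pair_of_conj la (g := g⁻¹) (by rw [e]; exact hzA) (by rw [e]; exact hne)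
  have h1 := p.z_mem
  rw [map_map_inv] at h1
  exact hsQ h1

/-- elements of `Q ∩ A` commute with `C_Q(s)` -/
theorem comm_inter (h : Large Q z) {A : Subgroup G} {s : G} (la : Large A s) (hzA : z ∉ A) {d x : G}
    (hdQ : d ∈ Q) (hdA : d ∈ A) (hx : x ∈ Q) (hxs : x * s = s * x) : x * d = d * x := by
  rcases h.comm x hx d hdQ with h2 | h2
  · exact h2
  · exfalso
    apply hzA
    have h3 : x * d * x⁻¹ ∈ A := la.conj_mem x hxs d hdA
    have h4 : x * d * x⁻¹ = d * z := by
      rw [h2, mul_inv_eq_iff_eq_mul, mul_assoc, h.comm_z x hx, mul_assoc]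
    have h5 := A.mul_mem (A.inv_mem hdA) h3
    rwa [h4, inv_mul_cancel_left] at h5

/-- `[C_Q(s), C_A(z)] ≤ Q ∩ A` -/
theorem comm_mem_inter (h : Large Q z) {A : Subgroup G} {s : G} (la : Large A s) {x y : G}
    (hy : y ∈ Q) (hys : y * s = s * y) (hx : x ∈ A) (hxz : x * z = z * x) :
    y * x * y⁻¹ * x⁻¹ ∈ Q ∧ y * x * y⁻¹ * x⁻¹ ∈ A := by
  constructor
  · have h3 := h.conj_mem x hxz _ (Q.inv_mem hy)
    have h4 := Q.mul_mem hy h3
    have e : y * (x * y⁻¹ * x⁻¹) = y * x * y⁻¹ * x⁻¹ := by group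
    rwa [e] at h4
  · exact A.mul_mem (la.conj_mem y hys x hx) (A.inv_mem hx)

theorem comm_of_inter_eq_bot (h : Large Q z) {A : Subgroup G} {s : G} (la : Large A s)
    (hD : ∀ d ∈ Q, d ∈ A → d = 1) {x y : G}
    (hy : y ∈ Q) (hys : y * s = s * y) (hx : x ∈ A) (hxz : x * z = z * x) : y * x = x * y := by
  obtain ⟨h1, h2⟩ := comm_mem_inter h la hy hys hx hxz
  have h3 := hD _ h1 h2
  rw [mul_inv_eq_one, mul_inv_eq_iff_eq_mul] at h3
  exact h3

/-- An involution `t` acting on `A` with `C_A(t) ≤ ⟨s⟩` forces `|A| ≤ 8`. -/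
theorem card_le_eight {A : Subgroup G} {s t : G} [Finite A] (la : Large A s) (ht : t * t = 1)
    (hts : t * s = s * t) (hX : ∀ x ∈ A, x * t = t * x → x = 1 ∨ x = s) : Nat.card A ≤ 8 := by
  have htC : t ∈ Subgroup.centralizer ({s} : Set G) := Subgroup.mem_centralizer_singleton_iff.2 hts
  have : FiniteDimensional (ZMod 2) la.V := finiteDim la
  set τ := la.act ⟨t, htC⟩ with hτ
  have hττ : ∀ v, τ (τ v) = v := by
    intro v
    have h1 : τ * τ = 1 := by
      rw [hτ, ← map_mul]
      have : (⟨t, htC⟩ * ⟨t, htC⟩ : Subgroup.centralizer ({s} : Set G)) = 1 := Subtype.ext ht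
      rw [this, map_one]
    exact congrArg (fun t : la.V ≃ₗ[ZMod 2] la.V => t v) h1
  let F : la.V →ₗ[ZMod 2] la.V := τ.toLinearMap + LinearMap.id
  have hF : ∀ v, F v = τ v + v := fun v => rfl
  have hrange : LinearMap.range F ≤ LinearMap.ker F := by
    rintro _ ⟨v, rfl⟩
    rw [LinearMap.mem_ker, hF, hF, map_add, hττ]
    calc v + τ v + (τ v + v) = (v + v) + (τ v + τ v) := by abel
      _ = 0 := by rw [la.add_self, la.add_self, add_zero]
  have hker : ∀ v ∈ LinearMap.ker F, ∀ w ∈ LinearMap.ker F, v ≠ 0 → w ≠ 0 → v = w := by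
    intro v hv w hw hv0 hw0
    obtain ⟨x, rfl⟩ := la.pr_surjective v
    obtain ⟨y, rfl⟩ := la.pr_surjective w
    have key : ∀ x : A, la.pr x ∈ LinearMap.ker F → la.pr x ≠ 0 → t * (x : G) * t⁻¹ = x * s := by
      intro x hx hx0
      rw [LinearMap.mem_ker, hF] at hx
      have h1 : τ (la.pr x) = la.pr x := by
        calc τ (la.pr x) = τ (la.pr x) + la.pr x + la.pr x := by rw [add_assoc, la.add_self, add_zero]
          _ = la.pr x := by rw [hx, zero_add]
      rw [hτ, la.act_pr, la.pr_eq_pr, la.conjQ_coe] at h1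
      rcases h1 with h2 | h2
      · exfalso
        apply hx0
        rw [la.pr_eq_zero]
        refine hX x x.2 ?_
        have h2' : t * (x : G) * t⁻¹ = x := h2
        rw [mul_inv_eq_iff_eq_mul] at h2'
        exact h2'.symm
      · exact h2
    have h1 := key x hv hv0
    have h2 := key y hw hw0
    have h3 : ((x * y : A) : G) = 1 ∨ ((x * y : A) : G) = s := by
      apply hX _ (x * y).2
      have h4 : t * ((x : G) * y) * t⁻¹ = x * y := by
        calc t * ((x : G) * y) * t⁻¹ = (t * x * t⁻¹) * (t * y * t⁻¹) := by group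
          _ = x * (s * y) * s := by rw [h1, h2]; group
          _ = x * (y * s) * s := by rw [la.comm_z y y.2]
          _ = x * y * (s * s) := by group
          _ = x * y := by rw [la.z_sq, mul_one]
      rw [mul_inv_eq_iff_eq_mul] at h4
      exact h4.symm
    have h4 := la.pr_eq_zero.2 h3
    rw [la.pr_mul] at h4
    calc la.pr x = la.pr x + la.pr y + la.pr y := by rw [add_assoc, la.add_self, add_zero]
      _ = la.pr y := by rw [h4, zero_add]
  have hk1 : Module.finrank (ZMod 2) (LinearMap.ker F) ≤ 1 := by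
    rw [finrank_le_one_iff]
    by_cases hex : ∃ v ∈ LinearMap.ker F, v ≠ 0
    · obtain ⟨v, hv, hv0⟩ := hex
      refine ⟨⟨v, hv⟩, fun w => ?_⟩
      by_cases hw : (w : la.V) = 0
      · exact ⟨0, by rw [zero_smul]; exact (Subtype.ext hw).symm⟩
      · refine ⟨1, ?_⟩
        rw [one_smul]
        exact Subtype.ext (hker v hv w w.2 hv0 hw)
    · push Not at hex
      exact ⟨0, fun w => ⟨0, by rw [zero_smul]; exact (Subtype.ext (hex w w.2)).symm⟩⟩
  have hrk := LinearMap.finrank_range_add_finrank_ker F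
  have hle := Submodule.finrank_mono hrange
  have hV2 : Module.finrank (ZMod 2) la.V ≤ 2 := by omega
  have hcardV : Nat.card la.V ≤ 4 := by
    rw [Module.natCard_eq_pow_finrank (K := ZMod 2), Nat.card_zmod]
    calc 2 ^ Module.finrank (ZMod 2) la.V ≤ 2 ^ 2 := Nat.pow_le_pow_right (by norm_num) hV2
      _ = 4 := by norm_num
  have := la.card_eq
  omega

theorem card_map_conj (Q : Subgroup G) (g : G) :
    Nat.card (Q.map (MulAut.conj g).toMonoidHom) = Nat.card Q :=
  (Nat.card_congr (Q.equivMapOfInjective _ (MulAut.conj g).injective).toEquiv).symm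

end Cfsg.Agent.LargeExtra.CentCard
end

-- part: LargeExtra/PGLKill
section
/-!
# The kill of `PGL₂(7)` (S1762, II-c2; helper805)

`|Q| = 2⁷`, `V = U ⊕ W` with `U`, `W` totally singular, every element of `C_G(z)` preserves or swaps `U` and `W`, some
element swaps them, and every linear automorphism of `U` is induced. Then `G` has a subgroup of index two.
-/

set_option autoImplicit false
set_option linter.style.haveILetI false

namespace Cfsg.Agent.LargeExtra.PGLKill

open Cfsg.Agent.Co2Type.Quad Cfsg.Agent.LargeExtra.Base Cfsg.Agent.LargeExtra.TwoCentral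
open Cfsg.Agent.LargeExtra.SwapBasic Cfsg.Agent.LargeExtra.SwapFlip Cfsg.Agent.LargeExtra.CentCard
open Module

variable {G : Type*} [Group G] {Q : Subgroup G} {z : G}

/-- The situation: `H = L₃(2).2 = PGL₂(7)` on `3 ⊕ 3*`. -/
structure Swap (h : Large Q z) (U W : Submodule (ZMod 2) h.V) : Prop where
  lag : Lag h U W
  pres : ∀ c, Keep h U W (h.act c) ∨ Flip h U W (h.act c)
  swap : ∃ c, Flip h U W (h.act c)
  gl : ∀ φ : U ≃ₗ[ZMod 2] U, ∃ c, ∀ u : U, h.act c u = φ u

section Linear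

variable {h : Large Q z} {U W : Submodule (ZMod 2) h.V}

theorem exists_ne_zero (S : Lag h U W) : ∃ u ∈ U, u ≠ 0 := by
  have h1 := S.cardU
  by_contra hcon
  push Not at hcon
  have h2 : U = ⊥ := by
    rw [eq_bot_iff]
    intro u hu
    exact hcon u hu
  rw [h2] at h1
  simp at h1

theorem not_keep_flip (S : Lag h U W) {f : h.V ≃ₗ[ZMod 2] h.V} (hk : Keep h U W f) (hf : Flip h U W f) :
    False := by
  obtain ⟨u, hu, hu0⟩ := exists_ne_zero S
  apply hu0
  have := S.disj _ (hk.1 u hu) (hf.1 u hu)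
  exact f.map_eq_zero_iff.1 this

theorem flip_mul {f g : h.V ≃ₗ[ZMod 2] h.V} (hf : Flip h U W f) (hg : Flip h U W g) : Keep h U W (f * g) :=
  ⟨fun v hv => hf.2 _ (hg.1 v hv), fun v hv => hf.1 _ (hg.2 v hv)⟩

theorem flip_mul_keep {f g : h.V ≃ₗ[ZMod 2] h.V} (hf : Flip h U W f) (hg : Keep h U W g) :
    Flip h U W (f * g) :=
  ⟨fun v hv => hf.1 _ (hg.1 v hv), fun v hv => hf.2 _ (hg.2 v hv)⟩

theorem keep_mul_flip {f g : h.V ≃ₗ[ZMod 2] h.V} (hf : Keep h U W f) (hg : Flip h U W g) :
    Flip h U W (f * g) :=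
  ⟨fun v hv => hf.2 _ (hg.1 v hv), fun v hv => hf.1 _ (hg.2 v hv)⟩

theorem keep_mul {f g : h.V ≃ₗ[ZMod 2] h.V} (hf : Keep h U W f) (hg : Keep h U W g) :
    Keep h U W (f * g) :=
  ⟨fun v hv => hf.1 _ (hg.1 v hv), fun v hv => hf.2 _ (hg.2 v hv)⟩

/-- A transvection `x` with centre `u` and axis `w₁^⊥ ≠ (f u)^⊥` does not commute with its conjugate under `f`. -/
theorem caseA {f : h.V ≃ₗ[ZMod 2] h.V} (I : Inv h U W f) {x : h.V ≃ₗ[ZMod 2] h.V} {u w₁ : h.V} (hu : u ∈ U)
    (hu0 : u ≠ 0) (hw₁ : w₁ ∈ W) (hw₁0 : w₁ ≠ 0) (hne : w₁ ≠ f u) (hb : h.b u (f u) = 0) (hb₁ : h.b u w₁ = 0)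
    (hxv : ∀ v, x v = v + h.b w₁ v • u + h.b u v • w₁)
    (hc : ∀ v, x (f (x (f v))) = f (x (f (x v)))) : False := by
  have S := I.lag
  have hfu := I.flip.1 u hu
  have hfu0 : f u ≠ 0 := fun h0 => hu0 (I.f_inj h0)
  have hfw₁ := I.flip.2 w₁ hw₁
  have hfw₁0 : f w₁ ≠ 0 := fun h0 => hw₁0 (I.f_inj h0)
  have hshift : ∀ a v, h.b a (f v) = h.b (f a) v := fun a v => by rw [← I.iso a (f v), I.inv]
  -- `α = b(w₁, f w₁) = 0`
  have hα : h.b w₁ (f w₁) = 0 := by
    obtain ⟨v, hv, -, hv1⟩ := S.sep W.zero_mem hfu hfu0 hfu0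
    -- `f x f v = v + f w₁`
    have hyv : f (x (f v)) = v + f w₁ := by
      rw [hxv, map_add, map_add, map_smul, map_smul, I.inv, hshift w₁ v, S.bU hfw₁ hv, zero_smul, add_zero,
        hshift u v, hv1, one_smul]
    have hxv' : x v = v + h.b w₁ v • u := by
      rw [hxv, S.bU hu hv, zero_smul, add_zero]
    have hyu : f (x (f u)) = u := by
      rw [hxv, map_add, map_add, map_smul, map_smul, I.inv, hshift w₁ u, S.bU hfw₁ hu, zero_smul, add_zero,
        hb, zero_smul, add_zero]
    have lhs : x (v + f w₁) = v + h.b w₁ v • u + (f w₁ + h.b w₁ (f w₁) • u) := by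
      rw [map_add, hxv', hxv (f w₁), S.bU hu hfw₁, zero_smul, add_zero]
    have rhs : f (x (f (x v))) = v + f w₁ + h.b w₁ v • u := by
      rw [hxv', map_add, map_add, map_add, hyv, map_smul, map_smul, map_smul, hyu]
    have h1 := hc v
    rw [hyv, lhs, rhs] at h1
    have h2 : h.b w₁ (f w₁) • u = 0 := by
      have e1 : v + h.b w₁ v • u + (f w₁ + h.b w₁ (f w₁) • u) =
          (v + f w₁ + h.b w₁ v • u) + h.b w₁ (f w₁) • u := by abel
      rw [e1] at h1
      exact add_eq_left.1 h1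
    rcases smul_eq_zero.1 h2 with h3 | h3
    · exact h3
    · exact absurd h3 hu0
  -- dimension
  have h1 := S.dim_one hu hfw₁ hfu hw₁ hu0 hfw₁0 hfu0 hw₁0 hne hb hb₁
    (by rw [I.iso, h.b_comm]; exact hb₁) (by rw [h.b_comm]; exact hα)
  apply hne
  rw [← h1, I.inv]

/-- an element of `W` perpendicular to `u`, different from `0` and `w` -/
theorem exists_third (S : Lag h U W) {u w : h.V} : ∃ w' ∈ W, h.b u w' = 0 ∧ w' ≠ 0 ∧ w' ≠ w := by
  classical
  by_contra hcon
  push Not at hcon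
  have := S.finiteQ
  have : Finite h.V := inferInstance
  have : Module.Finite (ZMod 2) h.V := Module.Finite.of_finite
  set F := (h.b u).domRestrict W with hF
  have hk : ∀ v ∈ LinearMap.ker F, v ≠ 0 → (v : h.V) = w := by
    intro v hv hv0
    exact hcon v v.2 hv (fun h0 => hv0 (Subtype.ext h0))
  have h1 := LinearMap.finrank_range_add_finrank_ker F
  have h2 : finrank (ZMod 2) (LinearMap.range F) ≤ 1 := by
    have := Submodule.finrank_le (LinearMap.range F)
    rwa [finrank_self] at this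
  have h3 : finrank (ZMod 2) (LinearMap.ker F) ≤ 1 := by
    rw [finrank_le_one_iff]
    by_cases hex : ∃ v ∈ LinearMap.ker F, v ≠ 0
    · obtain ⟨v, hv, hv0⟩ := hex
      refine ⟨⟨v, hv⟩, fun v' => ?_⟩
      by_cases hv' : (v' : W) = 0
      · exact ⟨0, by rw [zero_smul]; exact (Subtype.ext hv').symm⟩
      · refine ⟨1, ?_⟩
        rw [one_smul]
        apply Subtype.ext
        apply Subtype.ext
        rw [hk v hv hv0, hk v' v'.2 hv']
    · push Not at hex
      exact ⟨0, fun v' => ⟨0, by rw [zero_smul]; exact (Subtype.ext (hex v' v'.2)).symm⟩⟩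
  rw [S.symm.finrank_U] at h1
  omega

end Linear

variable {h : Large Q z} {U W : Submodule (ZMod 2) h.V}

/-- vectors `u + f u` with `b(u, f u) = 0`, `u ≠ 0`, do not come from conjugates of `z` -/
theorem not_conj_graph [Finite G] (S : Swap h U W) {s : Subgroup.centralizer ({z} : Set G)}
    (I : Inv h U W (h.act s)) {c : Q} {u : h.V} (hu : u ∈ U) (hu0 : u ≠ 0) (hb : h.b u (h.act s u) = 0)
    (hc : h.pr c = u + h.act s u) (g : G) : g * z * g⁻¹ ≠ c := by
  intro hg
  obtain ⟨f, hf⟩ : ∃ f, f = h.act s := ⟨_, rfl⟩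
  rw [← hf] at I hb hc
  obtain ⟨w, hw⟩ : ∃ w, w = f u := ⟨_, rfl⟩
  have hwW : w ∈ W := hw ▸ I.flip.1 u hu
  have hw0 : w ≠ 0 := fun h0 => hu0 (I.f_inj (hw ▸ h0))
  have hfw : f w = u := by rw [hw, I.inv]
  rw [← hw] at hb hc
  have hcz : (c : G) ≠ z := by
    intro h1
    have h2 := h.pr_eq_zero.2 (Or.inr h1)
    rw [hc] at h2
    have h3 := eq_of_add h h2
    exact hu0 (I.lag.disj u hu (h3 ▸ hwW))
  have p := pair_of_conj h (g := g) (by rw [hg]; exact c.2) (by rw [hg]; exact hcz)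
  rw [hg] at p
  have hva : p.va = u + w := hc
  have hiso : ∀ x ∈ p.X, ∀ v w, h.b (x v) (x w) = h.b v w := by
    intro x hx
    obtain ⟨c', -, rfl⟩ := p.mem_X.1 hx
    exact h.b_act c'
  have hKF : ∀ x ∈ p.X, Keep h U W x ∨ Flip h U W x := by
    intro x hx
    obtain ⟨c', -, rfl⟩ := p.mem_X.1 hx
    exact S.pres c'
  have hXva : ∀ x ∈ p.X, x (u + w) = u + w := by
    intro x hx
    have := p.X_va hx
    rwa [hva] at this
  have hfH : f ∈ p.H := by rw [hf]; exact ⟨s, rfl⟩
  have hfva : f p.va = p.va := by rw [hva, map_add, ← hw, hfw, add_comm]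
  have hfsymm : ∀ v, f⁻¹ v = f v := by
    intro v
    show f.symm v = f v
    rw [LinearEquiv.symm_apply_eq, I.inv]
  -- step 1
  have key1 : ∀ x ∈ p.X, Keep h U W x → x ≠ 1 → ∀ v, x v = v + h.b w v • u + h.b u v • w := by
    intro x hx hk hx1
    obtain ⟨u₁, hu₁, w₁, hw₁, hu₁0, hw₁0, hb₁, hxv⟩ := I.lag.transvection (hiso x hx) hk (p.X_sq hx) hx1
    have hfix := hXva x hx
    rw [hxv, map_add, map_add, I.lag.bW hw₁ hwW, I.lag.bU hu₁ hu, add_zero, zero_add, add_assoc] at hfix
    have h1 := add_eq_left.1 hfix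
    have h2 : h.b w₁ u • u₁ = 0 := I.lag.disj _ (U.smul_mem _ hu₁) (by
      rw [eq_of_add h h1]; exact W.smul_mem _ hw₁)
    have h3 : h.b u₁ w • w₁ = 0 := by rw [h2, zero_add] at h1; exact h1
    have h4 : h.b w₁ u = 0 := (smul_eq_zero.1 h2).resolve_right hu₁0
    have h5 : h.b u₁ w = 0 := (smul_eq_zero.1 h3).resolve_right hw₁0
    have hy : f * x * f⁻¹ ∈ p.X := p.X_normal hfH hfva hx
    have hcomm : ∀ v, x (f (x (f v))) = f (x (f (x v))) := by
      intro v
      have h6 := congrArg (fun t : h.V ≃ₗ[ZMod 2] h.V => t v) (p.X_comm hx hy)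
      have h7 : x (f (x (f⁻¹ v))) = f (x (f⁻¹ (x v))) := h6
      rwa [hfsymm, hfsymm] at h7
    by_cases hwe : w₁ = w
    · by_cases hue : u₁ = u
      · rw [← hwe, ← hue]; exact hxv
      · exfalso
        rw [hwe] at hxv hb₁
        have hhf := hfw
        exact caseA I.symm hwW hw0 hu₁ hu₁0 (by rw [hfw]; exact hue) (by rw [hfw, h.b_comm]; exact hb)
          (by rw [h.b_comm]; exact hb₁) (fun v => by rw [hxv]; abel) hcomm
    · exfalso
      by_cases hue : u₁ = u
      · rw [hue] at hxv hb₁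
        exact caseA I hu hu0 hw₁ hw₁0 (by rw [← hw]; exact hwe) (by rw [← hw]; exact hb) hb₁ hxv hcomm
      · apply hue
        exact I.lag.dim_one hu hu₁ hwW hw₁ hu0 hu₁0 hw0 hw₁0 hwe hb (by rw [h.b_comm]; exact h4) h5 hb₁
  -- step 2: a swapping element of `X`
  have hcardX : 4 ≤ Nat.card p.X := by
    have := I.lag.finiteQ
    have h1 := p.card_X
    have h2 : Nat.card p.lz.V = 64 := I.lag.cardV
    have h3 : Nat.card p.D * Nat.card p.D ≤ Nat.card p.lz.V := by
      have := Cfsg.Agent.LargeExtra.Perp.card_sq_le p.lz p.D (fun v hv w hw => p.b_D hv hw)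
      simpa [pow_two] using this
    rw [h2] at h1 h3
    have h4 : Nat.card p.D ≤ 8 := by nlinarith
    nlinarith
  obtain ⟨σ, hσX, hσ⟩ : ∃ σ ∈ p.X, Flip h U W σ := by
    classical
    by_contra hcon
    push Not at hcon
    have hkeep : ∀ x ∈ p.X, Keep h U W x := fun x hx => (hKF x hx).resolve_right (hcon x hx)
    have hfin : Finite p.X := by
      apply Nat.finite_of_card_ne_zero; omega
    have hinj : Function.Injective (fun x : p.X => decide ((x : p.lz.V ≃ₗ[ZMod 2] p.lz.V) = 1)) := by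
      intro a b hab
      have hab' : decide ((a : p.lz.V ≃ₗ[ZMod 2] p.lz.V) = 1) = decide ((b : p.lz.V ≃ₗ[ZMod 2] p.lz.V) = 1) :=
        hab
      by_cases ha : (a : p.lz.V ≃ₗ[ZMod 2] p.lz.V) = 1
      · rw [decide_eq_true ha] at hab'
        have hb' := of_decide_eq_true hab'.symm
        exact Subtype.ext (ha.trans hb'.symm)
      · rw [decide_eq_false ha] at hab'
        have hb' := of_decide_eq_false hab'.symm
        apply Subtype.ext
        ext v
        rw [key1 a a.2 (hkeep a a.2) ha v, key1 b b.2 (hkeep b b.2) hb' v]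
    have h1 := Nat.card_le_card_of_injective _ hinj
    have h2 : Nat.card Bool = 2 := by simp
    omega
  -- step 3
  obtain ⟨w', hw', hbw', hw'0, hw'w⟩ := exists_third I.lag (u := u) (w := w)
  -- the transvection on `U`
  let T : U →ₗ[ZMod 2] U :=
    { toFun := fun v => v + h.b w' v • ⟨u, hu⟩
      map_add' := by
        intro v v'
        rw [Submodule.coe_add, map_add, add_smul]; abel
      map_smul' := by
        intro a v
        rw [Submodule.coe_smul, map_smul, smul_eq_mul, RingHom.id_apply, smul_add, smul_smul] }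
  have hT : ∀ v : U, (T v : h.V) = v + h.b w' v • u := fun v => rfl
  have hTT : Function.Involutive T := by
    intro v
    apply Subtype.ext
    rw [hT, hT, map_add, map_smul, h.b_comm w' u, hbw', smul_zero, add_zero, add_assoc, h.add_self, add_zero]
  obtain ⟨c', hc'⟩ := S.gl (LinearEquiv.ofInvolutive T hTT)
  obtain ⟨r, hr⟩ : ∃ r, r = h.act c' := ⟨_, rfl⟩
  have hrU : ∀ v ∈ U, r v = v + h.b w' v • u := by
    intro v hv
    rw [hr]
    exact hc' ⟨v, hv⟩
  have hriso : ∀ v w, h.b (r v) (r w) = h.b v w := by rw [hr]; exact h.b_act c'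
  have hru : r u = u := by rw [hrU u hu, h.b_comm w' u, hbw', zero_smul, add_zero]
  have hrk : Keep h U W r := by
    rw [hr]
    rcases S.pres c' with h1 | h1
    · exact h1
    · exfalso
      rw [← hr] at h1
      have h2 := h1.1 u hu
      rw [hru] at h2
      exact hu0 (I.lag.disj u hu h2)
  have hrrU : ∀ v ∈ U, r (r v) = v := by
    intro v hv
    rw [hrU v hv, map_add, map_smul, hru, hrU v hv, add_assoc, h.add_self, add_zero]
  have hrW : ∀ v ∈ W, r v = v + h.b u v • w' := by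
    intro v hv
    apply eq_of_add h
    apply I.lag.eq_zero_W (W.add_mem (hrk.2 v hv) (W.add_mem hv (W.smul_mem _ hw')))
    intro v' hv'
    have h2 : h.b (r v) v' = h.b v (r v') := by
      rw [← hriso v (r v'), hrrU v' hv']
    rw [map_add, LinearMap.add_apply, h2, hrU v' hv', map_add, map_add, LinearMap.add_apply, map_smul,
      map_smul, LinearMap.smul_apply, smul_eq_mul, smul_eq_mul, h.b_comm u v]
    have : ∀ a b c : ZMod 2, a + b * c + (a + c * b) = 0 := by decide
    exact this _ _ _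
  have hrva : r p.va = p.va := by
    rw [hva, map_add, hru, hrW w hwW, hb, zero_smul, add_zero]
  have hrH : r ∈ p.H := by rw [hr]; exact ⟨c', rfl⟩
  have hσ'X : r * σ * r⁻¹ ∈ p.X := p.X_normal hrH hrva hσX
  obtain ⟨σ', hσ'⟩ : ∃ σ', σ' = r * σ * r⁻¹ := ⟨_, rfl⟩
  rw [← hσ'] at hσ'X
  have hσ'r : ∀ v, σ' (r v) = r (σ v) := by
    intro v
    have : σ' * r = r * σ := by rw [hσ']; group
    exact congrArg (fun t : h.V ≃ₗ[ZMod 2] h.V => t v) this
  have hσ'F : Flip h U W σ' := by
    rcases hKF σ' hσ'X with h1 | h1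
    · exfalso
      have h2 : Keep h U W (σ' * r) := keep_mul h1 hrk
      have h3 : Flip h U W (σ' * r) := by
        have : σ' * r = r * σ := by rw [hσ']; group
        rw [this]
        exact keep_mul_flip hrk hσ
      exact not_keep_flip I.lag h2 h3
    · exact h1
  have hσσ : ∀ v, σ (σ v) = v := by
    intro v
    exact congrArg (fun t : h.V ≃ₗ[ZMod 2] h.V => t v) (p.X_sq hσX)
  have hσu : σ u = w := by
    have h1 := hXva σ hσX
    rw [map_add] at h1
    apply eq_of_add h
    apply I.lag.disj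
    · have : σ u + w = σ w + u := by
        apply eq_of_add h
        calc σ u + w + (σ w + u) = (σ u + σ w) + (u + w) := by abel
          _ = 0 := by rw [h1, h.add_self]
      rw [this]
      exact U.add_mem (hσ.2 w hwW) hu
    · exact W.add_mem (hσ.1 u hu) hwW
  have hξX : σ' * σ ∈ p.X := p.X.mul_mem hσ'X hσX
  have hξK : Keep h U W (σ' * σ) := flip_mul hσ'F hσ
  obtain ⟨v, hv, hv0, hv1⟩ := I.lag.sep hwW hw' hw'0 hw'w
  have hσv := hσ.1 v hv
  have hbσ : h.b u (σ v) = 0 := by
    have := hiso σ hσX u (σ v)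
    rw [← this, hσσ, hσu]; exact hv0
  have h1 : r (σ v) = σ v := by rw [hrW _ hσv, hbσ, zero_smul, add_zero]
  have h2 : r v = v + u := by rw [hrU v hv, hv1, one_smul]
  have h3 := hσ'r v
  rw [h1, h2] at h3
  -- `σ' = (σ' σ) σ`
  have h4 : σ' (v + u) = (σ' * σ) (σ v + w) := by
    show σ' (v + u) = σ' (σ (σ v + w))
    rw [map_add σ, hσσ, ← hσu, hσσ]
  have h5 : (σ' * σ) (σ v + w) = σ v + w := by
    by_cases h6 : σ' * σ = 1
    · rw [h6]; rfl
    · rw [key1 _ hξX hξK h6, map_add, map_add, I.lag.bW hwW hσv, I.lag.bW hwW hwW, hbσ, hb]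
      simp
  rw [h4, h5] at h3
  exact hw0 (add_eq_left.1 h3)

/-- `s r s⁻¹` for `r` over `v + f v` -/
theorem comm_graph {s : Subgroup.centralizer ({z} : Set G)} (hs : (s : G) * s = 1 ∨ (s : G) * s = z) (x r : Q)
    (hr : h.pr r = h.pr x + h.act s (h.pr x)) :
    (h.b (h.pr x) (h.act s (h.pr x)) = 0 → (s : G) * r = r * s) ∧
      (h.b (h.pr x) (h.act s (h.pr x)) = 1 → (s : G) * r = r * z * s) := by
  set x' := h.conjQ s x with hx'
  have hx'c : (x' : G) = s * x * (s : G)⁻¹ := rfl
  have hpr' : h.act s (h.pr x) = h.pr x' := h.act_pr s x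
  have hsz : (s : G) * z = z * s := Subgroup.mem_centralizer_singleton_iff.1 s.2
  have hssx : ((s : G) * s) * x * ((s : G) * s)⁻¹ = x := by
    rcases hs with h1 | h1 <;> rw [h1]
    · group
    · rw [← h.comm_z x x.2]; group
  have e0 : (s : G) * (x' * x) * (s : G)⁻¹ = x * x' := by
    calc (s : G) * (x' * x) * (s : G)⁻¹ = (s * x' * (s : G)⁻¹) * (s * x * (s : G)⁻¹) := by group
      _ = (((s : G) * s) * x * ((s : G) * s)⁻¹) * x' := by rw [hx'c]; group
      _ = x * x' := by rw [hssx]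
  have hr' : (r : G) = x' * x ∨ (r : G) = x' * x * z := by
    rw [hpr', add_comm, ← h.pr_mul] at hr
    exact h.pr_eq_pr.1 hr
  rw [hpr']
  constructor
  · intro h1
    have h2 : (x : G) * x' = x' * x := (h.b_pr _ _).1 h1
    rw [h2, mul_inv_eq_iff_eq_mul] at e0
    rcases hr' with h3 | h3
    · rw [h3]; exact e0
    · rw [h3]
      calc (s : G) * (x' * x * z) = (s * (x' * x)) * z := by group
        _ = x' * x * (s * z) := by rw [e0]; group
        _ = x' * x * z * s := by rw [hsz]; group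
  · intro h1
    have h2 : (x : G) * x' = x' * x * z := (h.b_pr_one _ _).1 h1
    rw [h2, mul_inv_eq_iff_eq_mul] at e0
    rcases hr' with h3 | h3
    · rw [h3]; exact e0
    · rw [h3]
      calc (s : G) * (x' * x * z) = (s * (x' * x)) * z := by group
        _ = x' * x * z * (s * z) := by rw [e0]; group
        _ = x' * x * z * z * s := by rw [hsz]; group

/-- elements of `Q` commuting with `s` -/
theorem graph_of_comm {s : Subgroup.centralizer ({z} : Set G)} (I : Inv h U W (h.act s))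
    (hs : (s : G) * s = 1 ∨ (s : G) * s = z) {r : G} (hr : r ∈ Q) (hrs : r * s = s * r) :
    ∃ u ∈ I.U0, h.pr ⟨r, hr⟩ = u + h.act s u := by
  have h1 : h.act s (h.pr ⟨r, hr⟩) = h.pr ⟨r, hr⟩ := by
    apply Pair.act_pr_coe
    show (s : G) * r * (s : G)⁻¹ = r
    rw [← hrs]; group
  obtain ⟨u, hu, hru⟩ := I.fixed_iff.1 h1
  refine ⟨u, I.mem_U0.2 ⟨hu, ?_⟩, hru⟩
  by_contra h2
  obtain ⟨x, rfl⟩ := h.pr_surjective u
  have h3 := (comm_graph hs x ⟨r, hr⟩ hru).2 (zmod_two_ne h2)
  have h4 : (s : G) * r = r * z * s := h3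
  have hsz : (s : G) * z = z * s := Subgroup.mem_centralizer_singleton_iff.1 s.2
  rw [← hrs, mul_assoc r z, ← hsz] at h4
  have h5 := mul_left_cancel h4
  exact h.z_ne (mul_eq_left.1 h5.symm)

/-- an element commuting with `s` and `C_Q(s)`: its action on `V` -/
theorem act_eq_one_of_keep {s : Subgroup.centralizer ({z} : Set G)} (I : Inv h U W (h.act s))
    (hs : (s : G) * s = 1 ∨ (s : G) * s = z) (y : Subgroup.centralizer ({z} : Set G))
    (hys : (y : G) * s = s * y) (hyE : ∀ e ∈ Q, e * s = s * e → e * y = y * e)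
    (hk : Keep h U W (h.act y)) : h.act y = 1 := by
  apply I.eq_one_of_fix (h.b_act y) hk
  · intro v
    have : y * s = s * y := Subtype.ext hys
    have h1 := congrArg (fun t => h.act t v) this
    simp only [map_mul] at h1
    exact h1
  · intro u hu
    obtain ⟨x, hx⟩ := h.pr_surjective u
    obtain ⟨r, hr⟩ := h.pr_surjective (u + h.act s u)
    have h1 := (comm_graph hs x r (by rw [hr, hx])).1 (by rw [hx]; exact (I.mem_U0.1 hu).2)
    have h2 := hyE r r.2 h1.symm
    rw [← hr]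
    apply Pair.act_pr_coe
    show (y : G) * r * (y : G)⁻¹ = r
    rw [← h2]; group

/-- all `s e`, `e ∈ C_Q(s)`, are conjugate to `s` under `Q` -/
theorem exists_conj_mul {s : Subgroup.centralizer ({z} : Set G)} (I : Inv h U W (h.act s))
    (hs : (s : G) * s = 1 ∨ (s : G) * s = z) {e : Q} {u : h.V} (hu : u ∈ I.U0)
    (he : h.pr e = u + h.act s u) : ∃ x ∈ Q, x * s * x⁻¹ = s * e := by
  have hsz : (s : G) * z = z * s := Subgroup.mem_centralizer_singleton_iff.1 s.2
  obtain ⟨x, hx⟩ := h.pr_surjective u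
  have huU := (I.mem_U0.1 hu).1
  -- `e' = s⁻¹ x s x⁻¹`
  obtain ⟨e', he'⟩ : ∃ e' : Q, e' = h.conjQ s⁻¹ x * x⁻¹ := ⟨_, rfl⟩
  have he'c : (e' : G) = (s : G)⁻¹ * x * s * (x : G)⁻¹ := by
    rw [he', Subgroup.coe_mul, h.conjQ_coe, Subgroup.coe_inv, Subgroup.coe_inv]; group
  have hpre' : h.pr e' = h.pr e := by
    rw [he', h.pr_mul, ← h.act_pr, h.pr_inv, h.neg_eq, he, hx, map_inv]
    have : (h.act s)⁻¹ u = h.act s u := by
      show (h.act s).symm u = h.act s u
      rw [LinearEquiv.symm_apply_eq, I.inv]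
    rw [this, add_comm]
  have hx1 : (x : G) * s * (x : G)⁻¹ = s * e' := by rw [he'c]; group
  rcases h.pr_eq_pr.1 hpre' with h1 | h1
  · exact ⟨x, x.2, by rw [hx1, h1]⟩
  · -- `e' = e z`
    obtain ⟨u', hu', hu'1⟩ := I.exists_one
    obtain ⟨x', hx'⟩ := h.pr_surjective u'
    obtain ⟨r, hr⟩ := h.pr_surjective (u' + h.act s u')
    have h2 := (comm_graph hs x' r (by rw [hr, hx'])).2 (by rw [hx']; exact hu'1)
    have h3 : (r : G) * e = e * r := by
      rw [← h.b_pr, hr, he]
      exact I.b_graph hu' huU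
    have hrz : (r : G) * z = z * r := h.comm_z r r.2
    have h4 : (r : G) * s * (r : G)⁻¹ = z * s := by
      rw [mul_inv_eq_iff_eq_mul]
      calc (r : G) * s = z * z * (r * s) := by rw [h.z_sq, one_mul]
        _ = z * ((z * r) * s) := by group
        _ = z * ((r * z) * s) := by rw [hrz]
        _ = z * (s * r) := by rw [h2]
        _ = z * s * r := by group
    refine ⟨r * x, Q.mul_mem r.2 x.2, ?_⟩
    calc (r : G) * x * s * ((r : G) * x)⁻¹ = r * (x * s * (x : G)⁻¹) * (r : G)⁻¹ := by group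
      _ = r * (s * (e * z)) * (r : G)⁻¹ := by rw [hx1, h1]
      _ = (r * s * (r : G)⁻¹) * (r * e) * (z * (r : G)⁻¹) := by group
      _ = (r * s * (r : G)⁻¹) * (e * r) * ((r : G)⁻¹ * z) := by
          rw [h3]
          have : z * (r : G)⁻¹ = (r : G)⁻¹ * z := by
            rw [eq_inv_mul_iff_mul_eq, ← mul_assoc, hrz, mul_assoc, mul_inv_cancel, mul_one]
          rw [this]
      _ = z * (s * e) * z := by rw [h4]; group
      _ = z * (z * (s * e)) := by
          have h5 : (s : G) * e * z = z * (s * e) := by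
            calc (s : G) * e * z = s * (e * z) := by group
              _ = (s * z) * e := by rw [h.comm_z e e.2]; group
              _ = z * (s * e) := by rw [hsz]; group
          rw [mul_assoc z, h5]
      _ = s * e := by rw [← mul_assoc, h.z_sq, one_mul]

theorem inv_of_flip (S : Swap h U W) {s : Subgroup.centralizer ({z} : Set G)} (hf : Flip h U W (h.act s))
    (hs : (s : G) * s = 1 ∨ (s : G) * s = z) : Inv h U W (h.act s) where
  lag := S.lag
  iso := h.b_act s
  flip := hf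
  inv v := by
    have h1 : h.act (s * s) = 1 := by
      apply h.act_mem
      show (s : G) * s ∈ Q
      rcases hs with h2 | h2 <;> rw [h2]
      · exact Q.one_mem
      · exact h.z_mem
    rw [map_mul] at h1
    exact congrArg (fun t : h.V ≃ₗ[ZMod 2] h.V => t v) h1

private theorem mul_inv_cancel_right_of' {x t : G} (h3 : x * t = 1) (ht : t * t = 1) : x = t := by
  rw [eq_inv_of_mul_eq_one_left h3, inv_eq_of_mul_eq_one_left ht]

/-- an element commuting with an outer involution `t` and with `C_Q(t)` lies in `Q⟨t⟩` -/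
theorem outer_cent [Finite G] (S : Swap h U W) {t : Subgroup.centralizer ({z} : Set G)}
    (hf : Flip h U W (h.act t)) (ht : (t : G) * t = 1) (I : Inv h U W (h.act t))
    (x : Subgroup.centralizer ({z} : Set G)) (hxt : (x : G) * t = t * x)
    (hxE : ∀ e ∈ Q, e * (t : G) = t * e → e * (x : G) = x * e) :
    (x : G) ∈ Q ∨ (x : G) * t ∈ Q := by
  rcases S.pres x with hk | hk
  · left
    exact h.mem_of_act _ (act_eq_one_of_keep I (Or.inl ht) x hxt hxE hk)
  · right
    obtain ⟨y, hy⟩ : ∃ y : Subgroup.centralizer ({z} : Set G), y = x * t := ⟨_, rfl⟩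
    have hyc : (y : G) = x * t := by rw [hy, Subgroup.coe_mul]
    have hk' : Keep h U W (h.act y) := by
      rw [hy, map_mul]; exact flip_mul hk hf
    have h1 : (y : G) * t = t * y := by
      rw [hyc, hxt, mul_assoc, hxt]
    have h2 : ∀ e ∈ Q, e * (t : G) = t * e → e * (y : G) = y * e := by
      intro e he het
      rw [hyc, ← mul_assoc, hxE e he het, mul_assoc, het, ← mul_assoc]
    rw [← hyc]
    exact h.mem_of_act _ (act_eq_one_of_keep I (Or.inl ht) y h1 h2 hk')

/-- involutions outside `C₀` are not conjugate to `z` -/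
theorem not_conj_outer [Finite G] (S : Swap h U W) {t : Subgroup.centralizer ({z} : Set G)}
    (hf : Flip h U W (h.act t)) (ht : (t : G) * t = 1) (g : G) : g * z * g⁻¹ ≠ t := by
  intro hg
  have hs : (t : G) * t = 1 ∨ (t : G) * t = z := Or.inl ht
  have I := inv_of_flip S hf hs
  have htQ : (t : G) ∉ Q := by
    intro h1
    have h2 := h.act_mem t h1
    rw [h2] at hf
    have hk : Keep h U W (1 : h.V ≃ₗ[ZMod 2] h.V) := ⟨fun v hv => hv, fun v hv => hv⟩
    exact not_keep_flip S.lag hk hf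
  have hzA := notMem_of_conj h hg htQ
  have hcardA := card_map_conj Q g
  have la : Large (Q.map (MulAut.conj g).toMonoidHom) (t : G) := by rw [← hg]; exact h.conj g
  revert hzA la hcardA
  generalize Q.map (MulAut.conj g).toMonoidHom = A
  intro hzA hcardA la
  by_cases hD : ∀ d ∈ Q, d ∈ A → d = 1
  · have htz : z * (t : G) = t * z := (Subgroup.mem_centralizer_singleton_iff.1 t.2).symm
    have hX : ∀ x ∈ A, x * z = z * x → x = 1 ∨ x = t := by
      intro x hxA hxz
      have hxC : x ∈ Subgroup.centralizer ({z} : Set G) := Subgroup.mem_centralizer_singleton_iff.2 hxz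
      have hxt : x * t = t * x := la.comm_z x hxA
      have hxE : ∀ e ∈ Q, e * t = t * e → e * x = x * e := fun e he het =>
        comm_of_inter_eq_bot h la hD he het hxA hxz
      rcases outer_cent S hf ht I ⟨x, hxC⟩ hxt hxE with h2 | h2
      · exact Or.inl (hD x h2 hxA)
      · right
        have h3 := hD _ h2 (A.mul_mem hxA la.z_mem)
        exact mul_inv_cancel_right_of' h3 ht
    have h1 := card_le_eight la h.z_sq htz hX
    rw [hcardA, S.lag.cardQ] at h1
    omega
  · push Not at hD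
    obtain ⟨d, hdQ, hdA, hd1⟩ := hD
    have hdt : d * t = t * d := la.comm_z d hdA
    obtain ⟨u, hu, hdu⟩ := graph_of_comm I hs hdQ hdt
    have hdz : d ≠ z := fun h1 => hzA (h1 ▸ hdA)
    have hu0 : u ≠ 0 := by
      intro h1
      rw [h1, map_zero, add_zero] at hdu
      rcases h.pr_eq_zero.1 hdu with h2 | h2
      · exact hd1 h2
      · exact hdz h2
    obtain ⟨x, hx, hxt⟩ := exists_conj_mul I hs (e := ⟨d, hdQ⟩) hu hdu
    obtain ⟨w, hwA, hwd⟩ := exists_not_comm la hdA hd1 (fun h1 => htQ (h1 ▸ hdQ))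
    have hwt : w * t = t * w := la.comm_z w hwA
    have h1 : w * d * w⁻¹ = t * d := by
      rw [mul_inv_eq_iff_eq_mul, hwd, mul_assoc d, hwt, ← mul_assoc, hdt]
    have hxt' : x * t * x⁻¹ = t * d := hxt
    apply not_conj_graph S I (c := ⟨d, hdQ⟩) (I.mem_U0.1 hu).1 hu0 (I.mem_U0.1 hu).2 hdu (w⁻¹ * x * g)
    show w⁻¹ * x * g * z * (w⁻¹ * x * g)⁻¹ = d
    calc w⁻¹ * x * g * z * (w⁻¹ * x * g)⁻¹ = w⁻¹ * (x * (g * z * g⁻¹) * x⁻¹) * w := by group
      _ = w⁻¹ * (w * d * w⁻¹) * w := by rw [hg, hxt', h1]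
      _ = d := by group

/-- the subgroup of `C_G(z)` preserving `U` and `W` -/
def K (S : Swap h U W) : Subgroup (Subgroup.centralizer ({z} : Set G)) where
  carrier := {c | Keep h U W (h.act c)}
  one_mem' := by
    show Keep h U W (h.act 1)
    rw [map_one]
    exact ⟨fun v hv => hv, fun v hv => hv⟩
  mul_mem' := by
    intro a b ha hb
    show Keep h U W (h.act (a * b))
    rw [map_mul]
    exact keep_mul ha hb
  inv_mem' := by
    intro a ha
    show Keep h U W (h.act a⁻¹)
    rcases S.pres a⁻¹ with h1 | h1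
    · exact h1
    · exfalso
      have h2 : Flip h U W (h.act (a⁻¹ * a)) := by
        rw [map_mul]; exact flip_mul_keep h1 ha
      rw [inv_mul_cancel, map_one] at h2
      exact not_keep_flip S.lag ⟨fun v hv => hv, fun v hv => hv⟩ h2

theorem mem_K (S : Swap h U W) {c : Subgroup.centralizer ({z} : Set G)} : c ∈ K S ↔ Keep h U W (h.act c) :=
  Iff.rfl

theorem not_mem_K (S : Swap h U W) {c : Subgroup.centralizer ({z} : Set G)} : c ∉ K S ↔ Flip h U W (h.act c) := by
  rw [mem_K]
  constructor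
  · intro h1; exact (S.pres c).resolve_left h1
  · intro h1 h2; exact not_keep_flip S.lag h2 h1

theorem index_K (S : Swap h U W) : (K S).index = 2 := by
  obtain ⟨s, hs⟩ := S.swap
  rw [Subgroup.index_eq_two_iff]
  refine ⟨s, fun b => ?_⟩
  rcases S.pres b with h1 | h1
  · right
    refine ⟨h1, ?_⟩
    rw [not_mem_K, map_mul]
    exact keep_mul_flip h1 hs
  · left
    refine ⟨?_, (not_mem_K S).2 h1⟩
    rw [mem_K, map_mul]
    exact flip_mul h1 hs

/-- an element swapping `U` and `W` whose square acts trivially -/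
theorem exists_outer_inv (S : Swap h U W) :
    ∃ s : Subgroup.centralizer ({z} : Set G), Flip h U W (h.act s) ∧ h.act s * h.act s = 1 := by
  classical
  have := S.lag.finiteQ
  have : Finite h.V := inferInstance
  have : Module.Finite (ZMod 2) h.V := Module.Finite.of_finite
  obtain ⟨c₀, hc₀⟩ := S.swap
  have hinv : Flip h U W (h.act c₀⁻¹) := by
    rw [← not_mem_K S, inv_mem_iff, not_mem_K]; exact hc₀
  let e := Module.finBasis (ZMod 2) U
  have hw : ∀ i, ∃ w ∈ W, ∀ u : U, h.b w u = e.coord i u := fun i => S.lag.exists_repr (e.coord i)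
  choose w hwW hwu using hw
  let φ : U →ₗ[ZMod 2] h.V := ∑ i, (e.coord i).smulRight (w i)
  have hφ : ∀ u, φ u = ∑ i, e.coord i u • w i := by
    intro u
    show (∑ i, (e.coord i).smulRight (w i)) u = _
    rw [LinearMap.sum_apply]
    rfl
  have hφW : ∀ u, φ u ∈ W := by
    intro u
    rw [hφ]
    exact W.sum_mem fun i _ => W.smul_mem _ (hwW i)
  have hφb : ∀ u v : U, h.b (φ u) v = ∑ i, e.coord i u * e.coord i v := by
    intro u v
    rw [hφ, map_sum, LinearMap.sum_apply]
    apply Finset.sum_congr rfl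
    intro i _
    rw [map_smul, LinearMap.smul_apply, hwu, smul_eq_mul]
  have hφsymm : ∀ u v : U, h.b (φ u) v = h.b (φ v) u := by
    intro u v
    rw [hφb, hφb]
    exact Finset.sum_congr rfl fun i _ => mul_comm _ _
  have hφinj : ∀ u : U, φ u = 0 → u = 0 := by
    intro u hu
    apply e.ext_elem
    intro i
    have h1 : h.b (φ u) (e i) = 0 := by rw [hu]; simp
    rw [hφb] at h1
    rw [map_zero, Finsupp.zero_apply]
    rw [Finset.sum_eq_single i] at h1
    · simpa [Basis.coord_apply] using h1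
    · intro j _ hj
      rw [Basis.coord_apply, Basis.coord_apply, e.repr_self, Finsupp.single_apply, if_neg (Ne.symm hj), mul_zero]
    · intro hi; exact absurd (Finset.mem_univ i) hi
  -- the automorphism of `U`
  let g : U →ₗ[ZMod 2] U :=
    { toFun := fun u => ⟨h.act c₀⁻¹ (φ u), hinv.2 _ (hφW u)⟩
      map_add' := fun u v => by
        apply Subtype.ext
        show h.act c₀⁻¹ (φ (u + v)) = h.act c₀⁻¹ (φ u) + h.act c₀⁻¹ (φ v)
        rw [map_add, map_add]
      map_smul' := fun a u => by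
        apply Subtype.ext
        show h.act c₀⁻¹ (φ (a • u)) = a • h.act c₀⁻¹ (φ u)
        rw [map_smul, map_smul] }
  have hg : ∀ u, (g u : h.V) = h.act c₀⁻¹ (φ u) := fun u => rfl
  have hginj : Function.Injective g := by
    rw [← LinearMap.ker_eq_bot, LinearMap.ker_eq_bot']
    intro u hu
    apply hφinj
    have h1 : h.act c₀⁻¹ (φ u) = 0 := congrArg Subtype.val hu
    exact (h.act c₀⁻¹).map_eq_zero_iff.1 h1
  obtain ⟨c₁, hc₁⟩ := S.gl (LinearEquiv.ofInjectiveEndo g hginj)
  have hsU : ∀ u : U, h.act (c₀ * c₁) u = φ u := by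
    intro u
    have h1 : h.act c₁ u = h.act c₀⁻¹ (φ u) := hc₁ u
    rw [map_mul]
    show h.act c₀ (h.act c₁ u) = φ u
    rw [h1]
    have h2 : (h.act c₀ * h.act c₀⁻¹) (φ u) = φ u := by
      rw [← map_mul, mul_inv_cancel, map_one]; rfl
    exact h2
  have hflip : Flip h U W (h.act (c₀ * c₁)) := by
    rcases S.pres (c₀ * c₁) with h1 | h1
    · exfalso
      obtain ⟨u, hu, hu0⟩ := exists_ne_zero S.lag
      apply hu0
      have h2 := h1.1 u hu
      rw [hsU ⟨u, hu⟩] at h2
      have h3 := S.lag.disj _ h2 (hφW _)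
      exact congrArg Subtype.val (hφinj ⟨u, hu⟩ h3)
    · exact h1
  have hflip' : Flip h U W (h.act (c₀ * c₁)⁻¹) := by
    rw [← not_mem_K S, inv_mem_iff, not_mem_K]; exact hflip
  refine ⟨c₀ * c₁, hflip, ?_⟩
  obtain ⟨f, hf⟩ : ∃ f, f = h.act (c₀ * c₁) := ⟨_, rfl⟩
  rw [← hf] at hflip hsU ⊢
  have hiso : ∀ v w, h.b (f v) (f w) = h.b v w := by rw [hf]; exact h.b_act _
  have hsurj : ∀ w ∈ W, ∃ u ∈ U, f u = w := by
    intro w hw
    refine ⟨h.act (c₀ * c₁)⁻¹ w, hflip'.2 w hw, ?_⟩
    rw [hf]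
    have h2 : (h.act (c₀ * c₁) * h.act (c₀ * c₁)⁻¹) w = w := by
      rw [← map_mul, mul_inv_cancel, map_one]; rfl
    exact h2
  have hUU : ∀ u ∈ U, f (f u) = u := by
    intro u hu
    apply eq_of_add h
    apply S.lag.eq_zero_U (U.add_mem (hflip.2 _ (hflip.1 u hu)) hu)
    intro w hw
    obtain ⟨u', hu', rfl⟩ := hsurj w hw
    rw [map_add, LinearMap.add_apply, hiso, hsU ⟨u, hu⟩, hsU ⟨u', hu'⟩, h.b_comm u]
    have h1 : h.b (φ ⟨u, hu⟩) u' = h.b (φ ⟨u', hu'⟩) u := hφsymm ⟨u, hu⟩ ⟨u', hu'⟩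
    rw [h1]
    rcases zmod_two (h.b (φ ⟨u', hu'⟩) u) with h2 | h2 <;> rw [h2] <;> decide
  ext v
  obtain ⟨u, hu, w, hw, rfl⟩ := S.lag.exists_add v
  show f (f (u + w)) = u + w
  obtain ⟨u', hu', rfl⟩ := hsurj w hw
  rw [map_add, map_add, hUU u hu, hUU u' hu']

/-- an element swapping `U` and `W` with square in `⟨z⟩` -/
theorem exists_outer (S : Swap h U W) :
    ∃ s : Subgroup.centralizer ({z} : Set G), Flip h U W (h.act s) ∧ ((s : G) * s = 1 ∨ (s : G) * s = z) := by
  have := S.lag.finiteQ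
  obtain ⟨s, hs, hss⟩ := exists_outer_inv S
  have hkQ : (s : G) * s ∈ Q := h.mem_of_act (s * s) (by rw [map_mul]; exact hss)
  have I : Inv h U W (h.act s) :=
    { lag := S.lag
      iso := h.b_act s
      flip := hs
      inv := fun v => congrArg (fun t : h.V ≃ₗ[ZMod 2] h.V => t v) hss }
  have h1 : h.act s (h.pr ⟨(s : G) * s, hkQ⟩) = h.pr ⟨(s : G) * s, hkQ⟩ := by
    apply Pair.act_pr_coe
    show (s : G) * (s * s) * (s : G)⁻¹ = s * s
    group
  obtain ⟨u, hu, hku⟩ := I.fixed_iff.1 h1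
  obtain ⟨x, hx⟩ := h.pr_surjective u
  have hxC : (x : G) ∈ Subgroup.centralizer ({z} : Set G) :=
    Subgroup.mem_centralizer_singleton_iff.2 (h.comm_z x x.2)
  refine ⟨s * ⟨x, hxC⟩, ?_, ?_⟩
  · rw [map_mul, h.act_mem ⟨x, hxC⟩ x.2, mul_one]; exact hs
  · have h2 : h.pr (h.conjQ s x * ⟨(s : G) * s, hkQ⟩ * x) = 0 := by
      rw [h.pr_mul, h.pr_mul, ← h.act_pr, hku, hx]
      calc h.act s u + (u + h.act s u) + u = (h.act s u + h.act s u) + (u + u) := by abel
        _ = 0 := by rw [h.add_self, h.add_self, add_zero]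
    have h3 := h.pr_eq_zero.1 h2
    have e : ((h.conjQ s x * ⟨(s : G) * s, hkQ⟩ * x : Q) : G) = (s * x) * (s * x) := by
      rw [Subgroup.coe_mul, Subgroup.coe_mul, h.conjQ_coe]
      show (s : G) * x * (s : G)⁻¹ * (s * s) * x = s * x * (s * x)
      group
    rw [e] at h3
    exact h3

/-- **The kill of `PGL₂(7)`.** -/
theorem kill [Finite G] (hG : ∀ H : Subgroup G, H.index ≠ 2) (S : Swap h U W) : False := by
  obtain ⟨s, hsf, hss⟩ := exists_outer S
  have I := inv_of_flip S hsf hss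
  have hsz : (s : G) * z = z * s := Subgroup.mem_centralizer_singleton_iff.1 s.2
  set C₀ : Subgroup G := (K S).map (Subgroup.centralizer ({z} : Set G)).subtype with hC₀
  have hmem : ∀ c : Subgroup.centralizer ({z} : Set G), (c : G) ∈ C₀ ↔ c ∈ K S := by
    intro c
    constructor
    · rintro ⟨d, hd, hdc⟩
      have : d = c := Subtype.ext hdc
      rw [← this]; exact hd
    · intro hc
      exact ⟨c, hc, rfl⟩
  have hle : C₀ ≤ Subgroup.centralizer ({z} : Set G) := by
    rintro _ ⟨d, _, rfl⟩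
    exact d.2
  have h2 : C₀.relIndex (Subgroup.centralizer ({z} : Set G)) = 2 := by
    have e : C₀.subgroupOf (Subgroup.centralizer ({z} : Set G)) = K S := by
      ext d
      rw [Subgroup.mem_subgroupOf, hmem]
    rw [Subgroup.relIndex, e, index_K]
  have hs0 : (s : G) ∉ C₀ := by rw [hmem]; exact (not_mem_K S).2 hsf
  have hssQ : (s : G) * s ∈ Q := by
    rcases hss with h1 | h1 <;> rw [h1]
    · exact Q.one_mem
    · exact h.z_mem
  have hsscomm : ∀ y ∈ Q, y * ((s : G) * s) = ((s : G) * s) * y := by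
    intro y hy
    rcases hss with h1 | h1 <;> rw [h1]
    · group
    · exact h.comm_z y hy
  have hss_s : ((s : G) * s) * s = s * ((s : G) * s) := by group
  have hs4 : (s : G) ^ (2 ^ 2) = 1 := by
    have : (s : G) ^ (2 ^ 2) = (s * s) * (s * s) := by
      rw [show (2 ^ 2 : ℕ) = 4 from rfl]
      simp only [pow_succ, pow_zero, one_mul, mul_assoc]
    rw [this]
    rcases hss with h1 | h1 <;> rw [h1]
    · rw [one_mul]
    · exact h.z_sq
  -- even powers
  have hev : ∀ (m : ℕ) (g : G), 2 ∣ m → (g⁻¹ * (s : G) ^ m * g) * z = z * (g⁻¹ * (s : G) ^ m * g) →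
      g⁻¹ * (s : G) ^ m * g ∈ C₀ := by
    rintro m g ⟨j, rfl⟩ hcomm
    have h3 : (s : G) ^ (2 * j) = 1 ∨ (s : G) ^ (2 * j) = z := by
      rw [pow_mul, pow_two]
      rcases hss with h1 | h1 <;> rw [h1]
      · left; exact one_pow j
      · rcases Nat.even_or_odd j with ⟨k, hk⟩ | ⟨k, hk⟩
        · left
          rw [hk, ← two_mul, pow_mul, pow_two, h.z_sq, one_pow]
        · right
          rw [hk, pow_succ, pow_mul, pow_two, h.z_sq, one_pow, one_mul]
    by_contra hnot
    have htC : g⁻¹ * (s : G) ^ (2 * j) * g ∈ Subgroup.centralizer ({z} : Set G) :=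
      Subgroup.mem_centralizer_singleton_iff.2 hcomm
    have hflip : Flip h U W (h.act ⟨_, htC⟩) := by
      rw [← not_mem_K S, ← hmem]; exact hnot
    rcases h3 with h4 | h4
    · apply hnot
      rw [h4]
      have : g⁻¹ * 1 * g = 1 := by group
      rw [this]; exact C₀.one_mem
    · refine not_conj_outer S hflip ?_ g⁻¹ ?_
      · show g⁻¹ * (s : G) ^ (2 * j) * g * (g⁻¹ * (s : G) ^ (2 * j) * g) = 1
        rw [h4]
        calc g⁻¹ * z * g * (g⁻¹ * z * g) = g⁻¹ * (z * z) * g := by group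
          _ = 1 := by rw [h.z_sq]; group
      · show g⁻¹ * z * (g⁻¹)⁻¹ = g⁻¹ * (s : G) ^ (2 * j) * g
        rw [h4, inv_inv]
  -- the group `P = ⟨s⟩ C_Q(s)`
  let P : Subgroup G :=
    { carrier := {x | ∃ y ∈ Q, y * s = s * y ∧ (x = y ∨ x = y * s)}
      one_mem' := ⟨1, Q.one_mem, by group, Or.inl rfl⟩
      mul_mem' := by
        rintro a b ⟨y, hy, hys, ha⟩ ⟨y', hy', hys', hb⟩
        have hyy' : y * y' * s = s * (y * y') := by
          calc y * y' * s = y * (y' * s) := by group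
            _ = (y * s) * y' := by rw [hys']; group
            _ = s * (y * y') := by rw [hys]; group
        rcases ha with rfl | rfl <;> rcases hb with rfl | rfl
        · exact ⟨a * b, Q.mul_mem hy hy', hyy', Or.inl rfl⟩
        · exact ⟨a * y', Q.mul_mem hy hy', hyy', Or.inr (by group)⟩
        · refine ⟨y * b, Q.mul_mem hy hy', hyy', Or.inr ?_⟩
          calc y * (s : G) * b = y * (s * b) := by group
            _ = y * b * s := by rw [← hys']; group
        · refine ⟨y * y' * (s * s), Q.mul_mem (Q.mul_mem hy hy') hssQ, ?_, Or.inl ?_⟩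
          · calc y * y' * ((s : G) * s) * s = (y * y') * (((s : G) * s) * s) := by group
              _ = (y * y' * s) * (s * s) := by rw [hss_s]; group
              _ = s * (y * y' * (s * s)) := by rw [hyy']; group
          · calc y * (s : G) * (y' * s) = y * (s * y') * s := by group
              _ = y * y' * (s * s) := by rw [← hys']; group
      inv_mem' := by
        rintro a ⟨y, hy, hys, ha⟩
        have h1 : y⁻¹ * s = s * y⁻¹ := by
          rw [inv_mul_eq_iff_eq_mul, ← mul_assoc, hys, mul_inv_cancel_right]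
        rcases ha with rfl | rfl
        · exact ⟨a⁻¹, Q.inv_mem hy, h1, Or.inl rfl⟩
        · refine ⟨y⁻¹ * (s * s)⁻¹, Q.mul_mem (Q.inv_mem hy) (Q.inv_mem hssQ), ?_, Or.inr ?_⟩
          · calc y⁻¹ * ((s : G) * s)⁻¹ * s = (y⁻¹ * s) * (s : G)⁻¹ * (s : G)⁻¹ := by group
              _ = s * (y⁻¹ * ((s : G) * s)⁻¹) := by rw [h1]; group
          · calc (y * (s : G))⁻¹ = (s : G)⁻¹ * y⁻¹ := by group
              _ = (s : G)⁻¹ * (y⁻¹ * s) * (s : G)⁻¹ := by group
              _ = y⁻¹ * (s : G)⁻¹ := by rw [h1]; group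
              _ = y⁻¹ * ((s : G) * s)⁻¹ * s := by group }
  have hPs : ∀ p ∈ P, p * s = s * p := by
    rintro p ⟨y, hy, hys, rfl | rfl⟩
    · exact hys
    · calc y * (s : G) * s = (s * y) * s := by rw [hys]
        _ = s * (y * s) := mul_assoc _ _ _
  have hPz : ∀ p ∈ P, p * z = z * p := by
    rintro p ⟨y, hy, hys, rfl | rfl⟩
    · exact h.comm_z p hy
    · calc y * (s : G) * z = y * (s * z) := by group
        _ = (y * z) * s := by rw [hsz]; group
        _ = z * (y * s) := by rw [h.comm_z y hy]; group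
  have hPp : IsPGroup 2 P := by
    have hy4 : ∀ y ∈ Q, y ^ (2 ^ 2) = 1 := by
      intro y hy
      rw [show (2 ^ 2 : ℕ) = 4 from rfl]
      have : y ^ 4 = (y * y) * (y * y) := by simp only [pow_succ, pow_zero, one_mul, mul_assoc]
      rw [this]
      rcases h.sq y hy with h1 | h1 <;> rw [h1]
      · rw [one_mul]
      · exact h.z_sq
    rintro ⟨p, y, hy, hys, hp⟩
    refine ⟨2, ?_⟩
    apply Subtype.ext
    show p ^ (2 ^ 2) = 1
    rcases hp with rfl | rfl
    · exact hy4 p hy
    · have hc' : Commute y (s : G) := hys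
      rw [hc'.mul_pow, hy4 y hy, one_mul, hs4]
  obtain ⟨g, hg1, hg2, -, -⟩ := Cfsg.Agent.LargeExtra.TransferPow.exists_conj hG hle h2 (s : G) hs4 hev hsz hs0 P
    hPp hPs hPz
  obtain ⟨y, hy⟩ : ∃ y, y = g * z * g⁻¹ := ⟨_, rfl⟩
  rw [← hy] at hg1 hg2
  have hys : y * s = s * y := (hg2 s ⟨1, Q.one_mem, by group, Or.inr (by group)⟩).symm
  have hyE : ∀ x ∈ Q, x * s = s * x → x * y = y * x := fun x hx hxs => hg2 x ⟨x, hx, hxs, Or.inl rfl⟩
  have hyz : y * z = z * y := (hyE z h.z_mem hsz.symm).symm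
  have hyC : y ∈ Subgroup.centralizer ({z} : Set G) := Subgroup.mem_centralizer_singleton_iff.2 hyz
  have hy1 : y ≠ 1 := by
    intro h3
    apply h.z_ne
    have : z = g⁻¹ * y * g := by rw [hy]; group
    rw [this, h3]; group
  rcases S.pres ⟨y, hyC⟩ with hk | hk
  · have h3 := act_eq_one_of_keep I hss ⟨y, hyC⟩ hys hyE hk
    have hyQ : y ∈ Q := by
      have := S.lag.finiteQ
      exact h.mem_of_act _ h3
    obtain ⟨u, hu, hyu⟩ := graph_of_comm I hss hyQ hys
    by_cases hu0 : u = 0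
    · rw [hu0, map_zero, add_zero] at hyu
      rcases h.pr_eq_zero.1 hyu with h4 | h4
      · exact hy1 h4
      · exact hg1 h4
    · exact not_conj_graph S I (c := ⟨y, hyQ⟩) (I.mem_U0.1 hu).1 hu0 (I.mem_U0.1 hu).2 hyu g hy.symm
  · refine not_conj_outer S hk ?_ g hy.symm
    show y * y = 1
    rw [hy]
    calc g * z * g⁻¹ * (g * z * g⁻¹) = g * (z * z) * g⁻¹ := by group
      _ = 1 := by rw [h.z_sq]; group

end Cfsg.Agent.LargeExtra.PGLKill
end
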