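import Cfsg.Agent.LargeExtra.WC3
set_option linter.all false

-- part: LargeExtra/WC4
section
/-!
# S1762, case I: the group `F` of a line, the five components, and (J0) (helper888)
-/

set_option autoImplicit false

namespace Cfsg.Agent.LargeExtra.WC

open Cfsg.Agent.Co2Type.Quad

namespace Good

variable {G : Type*} [Group G] {P : Set G} {Q : G → Subgroup G} {p t : G}

theorem F_comm {L : Set G} {r : G} (hr : ∀ x ∈ L, r * x = x * r) {f : G} (hf : f ∈ Subgroup.closure L) :
    r * f = f * r := by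
  have h1 : Subgroup.closure L ≤ Subgroup.centralizer ({r} : Set G) := by
    rw [Subgroup.closure_le]
    intro x hx
    exact Subgroup.mem_centralizer_singleton_iff.2 (hr x hx).symm
  exact (Subgroup.mem_centralizer_singleton_iff.1 (h1 hf)).symm

theorem F_conj {L : Set G} {g : G} (hg : g ∈ Subgroup.normalizer L) {f : G}
    (hf : f ∈ Subgroup.closure L) : g * f * g⁻¹ ∈ Subgroup.closure L := by
  have h1 : Subgroup.closure L ≤ (Subgroup.closure L).comap (MulAut.conj g).toMonoidHom := by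
    rw [Subgroup.closure_le]
    intro x hx
    exact Subgroup.subset_closure ((hg x).1 hx)
  exact h1 hf

variable (B : WCBase P Q) (c : Good P Q p t)
include B c

theorem mem_F {f : G} : f ∈ Subgroup.closure (Lset Q p t) ↔
    ∃ d ∈ Q p, d ∈ Q t ∧ (f = d ∨ f = p * d ∨ f = t * d ∨ f = p * t * d) := by
  have hpL : p ∈ Lset Q p t := Or.inl rfl
  have htL : t ∈ Lset Q p t := Or.inr (Or.inl rfl)
  have hp1 := B.sq c.hp
  have ht1 := B.sq c.ht
  have hpt2 : p * t * (p * t) = 1 := by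
    calc p * t * (p * t) = p * (t * p) * t := by group
      _ = (p * p) * (t * t) := by rw [← c.com]; group
      _ = 1 := by rw [hp1, ht1, mul_one]
  constructor
  · -- the set on the right is a subgroup
    intro hf
    -- generic extension
    have hext : ∀ (D : Subgroup G) (e : G), e * e = 1 → (∀ d ∈ D, e * d = d * e) →
        ∃ E : Subgroup G, ∀ g, g ∈ E ↔ (g ∈ D ∨ e * g ∈ D) := by
      intro D e he hD
      refine ⟨{ carrier := {g | g ∈ D ∨ e * g ∈ D}
                one_mem' := Or.inl (one_mem D)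
                mul_mem' := ?_
                inv_mem' := ?_ }, fun g => Iff.rfl⟩
      · rintro a b (ha | ha) (hb | hb)
        · exact Or.inl (mul_mem ha hb)
        · right
          have : e * (a * b) = a * (e * b) := by rw [← mul_assoc, hD a ha, mul_assoc]
          show e * (a * b) ∈ D
          rw [this]; exact mul_mem ha hb
        · right
          show e * (a * b) ∈ D
          rw [← mul_assoc]; exact mul_mem ha hb
        · left
          show a * b ∈ D
          have h1 := hD _ ha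
          have h2 : a * b = (e * a) * (e * b) := by
            calc a * b = (e * e) * a * b := by rw [he, one_mul]
              _ = (e * (e * a)) * b := by group
              _ = (e * a) * e * b := by rw [h1]
              _ = _ := by group
          rw [h2]; exact mul_mem ha hb
      · rintro a (ha | ha)
        · exact Or.inl (inv_mem ha)
        · right
          show e * a⁻¹ ∈ D
          have h1 := hD _ ha
          have h2 : e * a = a * e := by
            have h3 : e * (e * a) = a := by rw [← mul_assoc, he, one_mul]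
            rw [h3] at h1
            calc e * a = e * (e * a * e) := by rw [← h1]
              _ = (e * e) * a * e := by group
              _ = a * e := by rw [he, one_mul]
          have h3 : e * a⁻¹ = (e * a)⁻¹ := by
            have : e⁻¹ = e := inv_eq_of_mul_eq_one_left he
            rw [mul_inv_rev, this]
            have h4 : a⁻¹ * e = e * a⁻¹ := by
              rw [inv_mul_eq_iff_eq_mul, ← mul_assoc, ← h2]; group
            exact h4.symm
          rw [h3]; exact inv_mem ha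
    obtain ⟨E1, hE1⟩ := hext (Q p ⊓ Q t) p hp1 (fun d hd => (c.D_p B hd.1).symm)
    obtain ⟨E2, hE2⟩ := hext E1 t ht1 (by
      intro d hd
      rcases (hE1 d).1 hd with h | h
      · exact (c.D_t B h.2).symm
      · have h1 := (c.D_t B h.2).symm
        have e1 : d = p * (p * d) := by rw [← mul_assoc, hp1, one_mul]
        rw [e1, ← mul_assoc, ← c.com, mul_assoc, h1, ← mul_assoc])
    have hle : Subgroup.closure (Lset Q p t) ≤ E2 := by
      rw [Subgroup.closure_le]
      rintro x (rfl | rfl | ⟨d, h1, h2, h3, rfl⟩)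
      · exact (hE2 _).2 (Or.inl ((hE1 _).2 (Or.inr (by rw [hp1]; exact one_mem _))))
      · exact (hE2 _).2 (Or.inr ((hE1 _).2 (Or.inl (by rw [ht1]; exact one_mem _))))
      · refine (hE2 _).2 (Or.inr ((hE1 _).2 (Or.inr ?_)))
        have : p * (t * (p * t * d)) = d := by
          calc p * (t * (p * t * d)) = (p * t * (p * t)) * d := by group
            _ = d := by rw [hpt2, one_mul]
        rw [this]; exact ⟨h1, h2⟩
    rcases (hE2 _).1 (hle hf) with h | h
    · rcases (hE1 _).1 h with h' | h'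
      · exact ⟨f, h'.1, h'.2, Or.inl rfl⟩
      · exact ⟨p * f, h'.1, h'.2, Or.inr (Or.inl (by rw [← mul_assoc, hp1, one_mul]))⟩
    · rcases (hE1 _).1 h with h' | h'
      · exact ⟨t * f, h'.1, h'.2, Or.inr (Or.inr (Or.inl (by rw [← mul_assoc, ht1, one_mul])))⟩
      · refine ⟨p * (t * f), h'.1, h'.2, Or.inr (Or.inr (Or.inr ?_))⟩
        calc f = (p * t * (p * t)) * f := by rw [hpt2, one_mul]
          _ = _ := by group
  · rintro ⟨d, h1, h2, hf⟩
    have hd : d ∈ Subgroup.closure (Lset Q p t) := by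
      by_cases hd1 : d = 1
      · rw [hd1]; exact one_mem _
      · have : d = p * t * (p * t * d) := by rw [← mul_assoc, hpt2, one_mul]
        rw [this]
        exact mul_mem (mul_mem (Subgroup.subset_closure hpL) (Subgroup.subset_closure htL))
          (Subgroup.subset_closure (Or.inr (Or.inr ⟨d, h1, h2, hd1, rfl⟩)))
    have hp' := Subgroup.subset_closure hpL
    have ht' := Subgroup.subset_closure htL
    rcases hf with rfl | rfl | rfl | rfl
    · exact hd
    · exact mul_mem hp' hd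
    · exact mul_mem ht' hd
    · exact mul_mem (mul_mem hp' ht') hd

/-- `F ∩ P = L` -/
theorem F_P {f : G} (hf : f ∈ Subgroup.closure (Lset Q p t)) (hP : f ∈ P) : f ∈ Lset Q p t := by
  obtain ⟨d, h1, h2, h⟩ := (c.mem_F B).1 hf
  rcases h with rfl | rfl | rfl | rfl
  · exact Or.inl (B.eq_of_mem p c.hp _ hP h1)
  · exact Or.inl (B.eq_of_mem p c.hp _ hP (mul_mem (B.large p c.hp).z_mem h1))
  · exact Or.inr (Or.inl (B.eq_of_mem t c.ht _ hP (mul_mem (B.large t c.ht).z_mem h2)))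
  · refine Or.inr (Or.inr ⟨d, h1, h2, ?_, rfl⟩)
    rintro rfl
    rw [mul_one] at hP
    exact c.mul_notMem B hP

/-- `F ∩ Q p = ⟨p⟩ D` -/
theorem F_Q {f : G} (hf : f ∈ Subgroup.closure (Lset Q p t)) (hQ : f ∈ Q p) :
    ∃ d ∈ Q p, d ∈ Q t ∧ (f = d ∨ f = p * d) := by
  obtain ⟨d, h1, h2, h⟩ := (c.mem_F B).1 hf
  have hpm := (B.large p c.hp).z_mem
  rcases h with rfl | rfl | rfl | rfl
  · exact ⟨f, h1, h2, Or.inl rfl⟩
  · exact ⟨d, h1, h2, Or.inr rfl⟩
  · exfalso
    apply c.notMem B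
    have : t = t * d * d⁻¹ := by group
    rw [this]; exact mul_mem hQ (inv_mem h1)
  · exfalso
    apply c.notMem B
    have : t = p⁻¹ * (p * t * d) * d⁻¹ := by group
    rw [this]; exact mul_mem (mul_mem (inv_mem hpm) hQ) (inv_mem h1)

/-- (K3) `R_p ∩ R_t F ≤ F` -/
theorem K3 {r s f : G} (hr : r ∈ Q p) (hs : s ∈ Q t) (hf : f ∈ Subgroup.closure (Lset Q p t))
    (h : r = s * f) : r ∈ Subgroup.closure (Lset Q p t) := by
  obtain ⟨d, h1, h2, h'⟩ := (c.mem_F B).1 hf
  have hpm := (B.large p c.hp).z_mem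
  have htm := (B.large t c.ht).z_mem
  have hs' : s ∈ Subgroup.closure (Lset Q p t) → r ∈ Subgroup.closure (Lset Q p t) := fun hs1 => by
    rw [h]; exact mul_mem hs1 hf
  rcases h' with rfl | rfl | rfl | rfl
  · -- s = r d⁻¹
    apply hs'
    have hsp : s ∈ Q p := by
      have : s = r * f⁻¹ := by rw [h]; group
      rw [this]; exact mul_mem hr (inv_mem h1)
    exact (c.mem_F B).2 ⟨s, hsp, hs, Or.inl rfl⟩
  · apply hs'
    have hsp : s ∈ Q p := by
      have : s = r * (p * d)⁻¹ := by rw [h]; group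
      rw [this]; exact mul_mem hr (inv_mem (mul_mem hpm h1))
    exact (c.mem_F B).2 ⟨s, hsp, hs, Or.inl rfl⟩
  · have hrt : r ∈ Q t := by rw [h]; exact mul_mem hs (mul_mem htm h2)
    exact (c.mem_F B).2 ⟨r, hr, hrt, Or.inl rfl⟩
  · -- r = s p t d = (s t d) p
    have e : p * t * d = t * d * p := by rw [mul_assoc t, c.D_p B h1, ← mul_assoc, c.com]
    have hrp : r * p ∈ Q t := by
      rw [h, e, ← mul_assoc, mul_assoc _ p p, B.sq c.hp, mul_one]
      exact mul_mem hs (mul_mem htm h2)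
    have h3 : r = p * (r * p) := by
      rw [← mul_assoc, ← (B.large p c.hp).comm_z r hr, mul_assoc, B.sq c.hp, mul_one]
    exact (c.mem_F B).2 ⟨r * p, mul_mem hr hpm, hrp, Or.inr (Or.inl h3)⟩

/-- (E) the group `R_e` of a third point `e` lies in `R_p R_t` -/
theorem third {e r : G} (he : e ∈ Lset Q p t) (hep : e ≠ p) (hr : r ∈ Q e)
    (hrL : ∀ x ∈ Lset Q p t, r * x = x * r) :
    ∃ a ∈ Q p, ∃ b ∈ Q t, (∀ x ∈ Lset Q p t, a * x = x * a) ∧ (∀ x ∈ Lset Q p t, b * x = x * b) ∧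
      r = a * b := by
  -- `e = y t y⁻¹`
  obtain ⟨y, hy, hye⟩ : ∃ y ∈ Q p, y * t * y⁻¹ = e := by
    rcases he with rfl | rfl | ⟨d, h1, h2, h3, rfl⟩
    · exact absurd rfl hep
    · exact ⟨1, one_mem _, by group⟩
    · exact c.exists_conj_t B h1 h2 h3
  have hyN := c.Qp_le B hy
  have hx : y⁻¹ * r * y ∈ Q t := by
    rw [← hye] at hr
    exact B.Q_conj' c.ht hr
  have hxL : ∀ x ∈ Lset Q p t, (y⁻¹ * r * y) * x = x * (y⁻¹ * r * y) := by
    intro x hx
    have h1 := hrL _ ((hyN x).1 hx)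
    calc (y⁻¹ * r * y) * x = y⁻¹ * (r * (y * x * y⁻¹)) * y := by group
      _ = y⁻¹ * ((y * x * y⁻¹) * r) * y := by rw [h1]
      _ = _ := by group
  set x := y⁻¹ * r * y with hxd
  have hxp : x * p = p * x := hxL p (Or.inl rfl)
  refine ⟨r * x⁻¹, ?_, x, hx, ?_, hxL, by group⟩
  · have h1 := (B.large p c.hp).conj_mem x hxp _ (inv_mem hy)
    have h2 := mul_mem hy h1
    have e1 : y * (x * y⁻¹ * x⁻¹) = r * x⁻¹ := by rw [hxd]; group
    rwa [e1] at h2
  · intro z hz
    have h1 := hrL z hz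
    have h2 : x⁻¹ * z = z * x⁻¹ := by
      rw [inv_mul_eq_iff_eq_mul, ← mul_assoc, hxL z hz]; group
    rw [mul_assoc, h2, ← mul_assoc, h1, mul_assoc]

/-- (K1) -/
theorem K1 {g : G} (hg : g ∈ Subgroup.normalizer (Lset Q p t))
    (hp : ∀ r ∈ Q p, (∀ x ∈ Lset Q p t, r * x = x * r) → g * r * g⁻¹ * r⁻¹ ∈
      Subgroup.closure (Lset Q p t))
    (ht : ∀ r ∈ Q t, (∀ x ∈ Lset Q p t, r * x = x * r) → g * r * g⁻¹ * r⁻¹ ∈
      Subgroup.closure (Lset Q p t)) {e : G} (he : e ∈ Lset Q p t) (hep : e ≠ p) :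
    g * e * g⁻¹ = e := by
  by_contra hne
  have hgc : e ≠ g * e * g⁻¹ := fun h => hne h.symm
  obtain ⟨hge, hLe⟩ := c.of_mem B he ((hg e).1 he) hgc
  -- all elements of `R_e` lie in `F`
  have key : ∀ r ∈ Q e, (∀ x ∈ Lset Q p t, r * x = x * r) → r ∈ Subgroup.closure (Lset Q p t) := by
    intro r hr hrL
    obtain ⟨a, ha, b, hb, haL, hbL, hrab⟩ := c.third B he hep hr hrL
    have h1 := hp a ha haL
    have h2 := ht b hb hbL
    -- g r g⁻¹ = f r
    have h3 : g * r * g⁻¹ = (g * a * g⁻¹ * a⁻¹) * (g * b * g⁻¹ * b⁻¹) * r := by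
      have h4 := F_comm haL h2
      calc g * r * g⁻¹ = (g * a * g⁻¹ * a⁻¹) * (a * (g * b * g⁻¹ * b⁻¹)) * b := by rw [hrab]; group
        _ = (g * a * g⁻¹ * a⁻¹) * ((g * b * g⁻¹ * b⁻¹) * a) * b := by rw [h4]
        _ = _ := by rw [hrab]; group
    have hf := mul_mem h1 h2
    revert h3 hf
    generalize (g * a * g⁻¹ * a⁻¹) * (g * b * g⁻¹ * b⁻¹) = f
    intro h3 hf
    have h5 : g * r * g⁻¹ ∈ Q (g * e * g⁻¹) := B.Q_conj e (c.L_sub B he) g r hr
    have h6 : r = (g * r * g⁻¹) * f⁻¹ := by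
      have h7 := F_comm hrL hf
      rw [h3, ← h7]; group
    have h8 := hge.K3 B hr h5 (by rw [hLe]; exact inv_mem hf) h6
    rwa [hLe] at h8
  obtain ⟨x, hx, y, hy, hxt, hyt, hxy⟩ := hge.exists_noncomm B hge.tau
  have hxL : ∀ z ∈ Lset Q p t, x * z = z * x := by
    intro z hz
    rw [← hLe] at hz
    exact hge.cent_L B hx hxt.symm hz
  have hyL : ∀ z ∈ Lset Q p t, y * z = z * y := by
    intro z hz
    rw [← hLe] at hz
    exact hge.cent_L B hy hyt.symm hz
  have h1 := F_comm hxL (key y hy hyL)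
  rw [h1] at hxy
  exact (B.large e hge.hp).z_ne (mul_eq_left.1 hxy.symm)

/-- (K2) -/
theorem K2 {g e : G} (hg : g ∈ Subgroup.normalizer (Lset Q p t)) (hgt : g * t * g⁻¹ = t)
    (he : e ∈ Lset Q p t) (hep : e ≠ p) (het : e ≠ t) (hge : g * e * g⁻¹ = e)
    (hr : ∀ r ∈ Q p, (∀ x ∈ Lset Q p t, r * x = x * r) → g * r * g⁻¹ * r⁻¹ ∈
      Subgroup.closure (Lset Q p t)) {a : G} (ha : a ∈ Lset Q p t) (hap : a ≠ p) :
    g * a * g⁻¹ = a := by
  refine c.K1 B hg hr ?_ ha hap
  intro x hx hxL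
  -- `x = r y`, `r ∈ R_p`, `y ∈ R_e`
  obtain ⟨hpe, hLpe⟩ := c.of_mem B (Or.inl rfl) he hep.symm
  obtain ⟨r, hr1, y, hy, hrL, hyL, hxry⟩ := hpe.third B (e := t) (r := x) (by rw [hLpe]; exact Or.inr (Or.inl rfl))
    c.ne.symm hx (by rw [hLpe]; exact hxL)
  rw [hLpe] at hrL hyL
  have h1 := hr r hr1 hrL
  -- `X = g x g⁻¹ x⁻¹`
  have hX : g * x * g⁻¹ * x⁻¹ ∈ Q t :=
    mul_mem (B.Q_conj_eq c.ht hgt hx) (inv_mem hx)
  have hY : g * y * g⁻¹ * y⁻¹ ∈ Q e := mul_mem (B.Q_conj_eq hpe.ht hge hy) (inv_mem hy)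
  have hre : r * e = e * r := hrL e he
  have hY' : r * (g * y * g⁻¹ * y⁻¹) * r⁻¹ ∈ Q e := (B.large e hpe.ht).conj_mem r hre _ hY
  have hXe : g * x * g⁻¹ * x⁻¹ = (g * r * g⁻¹ * r⁻¹) * (r * (g * y * g⁻¹ * y⁻¹) * r⁻¹) := by
    rw [hxry]; group
  have hXL : ∀ z ∈ Lset Q p t, (g * x * g⁻¹ * x⁻¹) * z = z * (g * x * g⁻¹ * x⁻¹) := by
    have hgL : ∀ z ∈ Lset Q p t, (g * x * g⁻¹) * z = z * (g * x * g⁻¹) := by
      intro z hz
      have h2 : g⁻¹ * z * g⁻¹⁻¹ ∈ Lset Q p t := ((inv_mem hg : g⁻¹ ∈ Subgroup.normalizer _) z).1 hz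
      have h3 := hxL _ h2
      calc (g * x * g⁻¹) * z = g * (x * (g⁻¹ * z * g⁻¹⁻¹)) * g⁻¹ := by group
        _ = g * ((g⁻¹ * z * g⁻¹⁻¹) * x) * g⁻¹ := by rw [h3]
        _ = _ := by group
    intro z hz
    have h2 : x⁻¹ * z = z * x⁻¹ := by
      rw [inv_mul_eq_iff_eq_mul, ← mul_assoc, hxL z hz]; group
    rw [mul_assoc _ x⁻¹, h2, ← mul_assoc, hgL z hz, mul_assoc z]
  obtain ⟨hte, hLte⟩ := c.of_mem B (Or.inr (Or.inl rfl)) he het.symm
  have h4 : g * x * g⁻¹ * x⁻¹ = (r * (g * y * g⁻¹ * y⁻¹) * r⁻¹) * (g * r * g⁻¹ * r⁻¹) := by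
    have h5 := F_comm hXL h1
    -- X f = f X, X = f Y
    have h6 : (g * x * g⁻¹ * x⁻¹) * (g * r * g⁻¹ * r⁻¹) =
        (g * r * g⁻¹ * r⁻¹) * (g * x * g⁻¹ * x⁻¹) := h5
    have h7 : r * (g * y * g⁻¹ * y⁻¹) * r⁻¹ = (g * r * g⁻¹ * r⁻¹)⁻¹ * (g * x * g⁻¹ * x⁻¹) := by
      rw [hXe]; group
    rw [h7, mul_assoc (g * r * g⁻¹ * r⁻¹)⁻¹, h6, inv_mul_cancel_left]
  have h8 := hte.K3 B hX hY' (by rw [hLte]; exact h1) h4
  rwa [hLte] at h8

end Good

end Cfsg.Agent.LargeExtra.WC
end

-- part: LargeExtra/WC5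
section
/-!
# S1762, case I: (J0) and no triangles (helper888)
-/

set_option autoImplicit false

namespace Cfsg.Agent.LargeExtra.WC

open Cfsg.Agent.Co2Type.Quad

namespace Good

variable {G : Type*} [Group G] {P : Set G} {Q : G → Subgroup G} {p t : G}
variable (B : WCBase P Q) (c : Good P Q p t)
include B c

/-- `W` in terms of elements -/
theorem mem_W_iff {x : G} (hx : x ∈ Q p) : (B.large p c.hp).pr ⟨x, hx⟩ ∈ QS.W (c.T B) ↔
    x ∈ Subgroup.closure (Lset Q p t) := by
  rw [c.mem_F B]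
  constructor
  · intro h
    obtain ⟨d, h1, h2, h3⟩ := c.D_eq B h
    rcases (B.large p c.hp).pr_eq_pr.1 h3 with h4 | h4
    · exact ⟨d, h1, h2, Or.inl h4.symm⟩
    · have h4' : d = x * p := h4
      refine ⟨d, h1, h2, Or.inr (Or.inl ?_)⟩
      rw [h4', (B.large p c.hp).comm_z x hx, ← mul_assoc, B.sq c.hp, one_mul]
  · intro h
    obtain ⟨d, h1, h2, h3⟩ := c.F_Q B ((c.mem_F B).2 h) hx
    have h4 := c.D_le B c.tau h1 h2
    have h5 : (B.large p c.hp).pr ⟨x, hx⟩ = (B.large p c.hp).pr ⟨d, h1⟩ := by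
      rw [(B.large p c.hp).pr_eq_pr]
      rcases h3 with h3 | h3
      · left; exact h3
      · right
        show x = d * p
        rw [h3, c.D_p B h1]
    rw [h5]; exact h4

/-- the exchange elements: for three points `a, b, e` of the line, some `y ∈ Q a` swaps `b` and `e` and moves the
other two points -/
theorem exists_swap {a b e : G} (ha : a ∈ Lset Q p t) (hb : b ∈ Lset Q p t) (he : e ∈ Lset Q p t)
    (hab : a ≠ b) (hae : a ≠ e) (hbe : b ≠ e) : ∃ y ∈ Q a, y * a * y⁻¹ = a ∧ y * b * y⁻¹ = e ∧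
      y * e * y⁻¹ = b ∧ ∀ x ∈ Lset Q p t, x ≠ a → y * x * y⁻¹ ≠ x := by
  obtain ⟨hgood, hL⟩ := c.of_mem B ha hb hab
  have he' : e ∈ Lset Q a b := by rw [hL]; exact he
  obtain ⟨d, h1, h2, h3, h4⟩ : ∃ d ∈ Q a, d ∈ Q b ∧ d ≠ 1 ∧ e = a * b * d := by
    rcases he' with h | h | h
    · exact absurd h.symm hae
    · exact absurd h.symm hbe
    · exact h
  obtain ⟨y, hy, hye⟩ := hgood.exists_conj_t B h1 h2 h3
  rw [← h4] at hye
  have hya : y * a * y⁻¹ = a := by rw [(B.large a hgood.hp).comm_z y hy]; group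
  refine ⟨y, hy, hya, hye, ?_, ?_⟩
  · have hy2 : (y * y) * b * (y * y)⁻¹ = b := by
      have h5 : y * y = 1 ∨ y * y = a := (B.large a hgood.hp).sq y hy
      rcases h5 with h5 | h5 <;> rw [h5]
      · group
      · rw [hgood.com]; group
    calc y * e * y⁻¹ = (y * y) * b * (y * y)⁻¹ := by rw [← hye]; group
      _ = b := hy2
  · intro x hx hxa h
    obtain ⟨hg', hL'⟩ := c.of_mem B ha hx (Ne.symm hxa)
    have h5 : y * x = x * y := by rw [mul_inv_eq_iff_eq_mul] at h; exact h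
    have h6 := hg'.cent_L B hy h5 (x := b) (by rw [hL']; exact hb)
    apply hbe
    rw [← hye, h6]; group

theorem J0_aux {g : G} (hgp : g * p * g⁻¹ = p) (hgt : g * t * g⁻¹ = t) {r : G} (hr : r ∈ Q p)
    (hrt : r * t = t * r) (hr2 : r * r = 1) (hrF : r ∉ Subgroup.closure (Lset Q p t)) {x : G}
    (hx : x ∈ Q p) (hxt : x * t = t * x) :
    (g * g) * x * (g * g)⁻¹ * x⁻¹ ∈ Subgroup.closure (Lset Q p t) := by
  have := B.finQ c.hp
  have hsing := c.sing B c.tau
  have hgp' : g * p = p * g := by rw [mul_inv_eq_iff_eq_mul] at hgp; exact hgp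
  have h1 : (B.large p c.hp).pr ⟨r, hr⟩ ∉ QS.W (c.T B) := fun h => hrF ((c.mem_W_iff B hr).1 h)
  have h2 := QS.sq_trivial (B.cardV c.hp) hsing.card (fun u hu => hsing.q_W hu) hsing.W_le
    ((c.fix_iff B c.tau hr).2 hrt.symm) h1 ((B.large p c.hp).q_eq_zero.2 hr2)
    (ac_iso (B.large p c.hp) g hgp') (by
      intro u hu
      obtain ⟨d, h1, h2, rfl⟩ := c.D_eq B hu
      rw [ac_pr]
      exact c.D_le B c.tau _ (B.Q_conj_eq c.ht hgt h2)) ((c.fix_iff B c.tau hx).2 hxt.symm)
  have hggp : g * g * p = p * (g * g) := by rw [mul_assoc, hgp', ← mul_assoc, hgp', mul_assoc]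
  rw [← ac_mul _ _ _ _ _ hggp, ac_add, c.mem_W_iff B] at h2
  exact h2

/-- (J0) -/
theorem J0 {r : G} (hr : r ∈ Q p) (hrt : r * t = t * r) (hr2 : r * r = 1) :
    r ∈ Subgroup.closure (Lset Q p t) := by
  by_contra hrF
  obtain ⟨a, b, e, ha, hb, he, hnd, hall, -⟩ := c.five B
  simp only [List.nodup_cons, List.mem_cons, List.not_mem_nil, or_false, not_or, List.nodup_nil, and_true,
    not_false_eq_true, ← ne_eq] at hnd
  obtain ⟨⟨hpt, hpa, hpb, hpe⟩, ⟨hta, htb, hte⟩, ⟨hab, hae⟩, hbe⟩ := hnd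
  have hp : p ∈ Lset Q p t := Or.inl rfl
  have ht : t ∈ Lset Q p t := Or.inr (Or.inl rfl)
  obtain ⟨y, hy, hya, hyp, hyt, hyall⟩ := c.exists_swap B ha hp ht (Ne.symm hpa) (Ne.symm hta) hpt
  obtain ⟨y', hy', hyb', hyp', hyt', hyall'⟩ := c.exists_swap B hb hp ht (Ne.symm hpb) (Ne.symm htb) hpt
  have hyN := c.Q_le_of_mem B ha hy
  have hyN' := c.Q_le_of_mem B hb hy'
  have hinj : ∀ g x z : G, g * x * g⁻¹ = g * z * g⁻¹ → x = z := fun g x z h =>
    mul_left_cancel (mul_right_cancel h)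
  -- action of y
  have hyb : y * b * y⁻¹ = e := by
    rcases hall _ ((hyN b).1 hb) with h | h | h | h | h
    · exact absurd (hinj y _ _ (h.trans hyt.symm)) htb.symm
    · exact absurd (hinj y _ _ (h.trans hyp.symm)) hpb.symm
    · exact absurd (hinj y _ _ (h.trans hya.symm)) hab.symm
    · exact absurd h (hyall b hb hab.symm)
    · exact h
  have hye : y * e * y⁻¹ = b := by
    rcases hall _ ((hyN e).1 he) with h | h | h | h | h
    · exact absurd (hinj y _ _ (h.trans hyt.symm)) hte.symm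
    · exact absurd (hinj y _ _ (h.trans hyp.symm)) hpe.symm
    · exact absurd (hinj y _ _ (h.trans hya.symm)) hae.symm
    · exact h
    · exact absurd h (hyall e he hae.symm)
  have hya' : y' * a * y'⁻¹ = e := by
    rcases hall _ ((hyN' a).1 ha) with h | h | h | h | h
    · exact absurd (hinj y' _ _ (h.trans hyt'.symm)) hta.symm
    · exact absurd (hinj y' _ _ (h.trans hyp'.symm)) hpa.symm
    · exact absurd h (hyall' a ha hab)
    · exact absurd (hinj y' _ _ (h.trans hyb'.symm)) hab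
    · exact h
  -- g = y y'
  have hgN : y * y' ∈ Subgroup.normalizer (Lset Q p t) := mul_mem hyN hyN'
  have hcomp : ∀ x, (y * y') * x * (y * y')⁻¹ = y * (y' * x * y'⁻¹) * y⁻¹ := fun x => by group
  have hgp : (y * y') * p * (y * y')⁻¹ = p := by rw [hcomp, hyp', hyt]
  have hgt : (y * y') * t * (y * y')⁻¹ = t := by rw [hcomp, hyt', hyp]
  have hga : (y * y') * a * (y * y')⁻¹ = b := by rw [hcomp, hya', hye]
  have hgb : (y * y') * b * (y * y')⁻¹ = e := by rw [hcomp, hyb', hyb]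
  set g := y * y' with hg
  have hgga : (g * g) * a * (g * g)⁻¹ = e := by
    calc (g * g) * a * (g * g)⁻¹ = g * (g * a * g⁻¹) * g⁻¹ := by group
      _ = e := by rw [hga, hgb]
  -- the corresponding element of `Q t`
  have hr' : y * r * y⁻¹ ∈ Q t := B.Q_conj_eq c.hp hyp hr
  have hrp' : (y * r * y⁻¹) * p = p * (y * r * y⁻¹) := by
    have : p = y * t * y⁻¹ := hyt.symm
    calc (y * r * y⁻¹) * p = (y * r * y⁻¹) * (y * t * y⁻¹) := by rw [← this]
      _ = y * (r * t) * y⁻¹ := by group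
      _ = y * (t * r) * y⁻¹ := by rw [hrt]
      _ = (y * t * y⁻¹) * (y * r * y⁻¹) := by group
      _ = _ := by rw [← this]
  have hr2' : (y * r * y⁻¹) * (y * r * y⁻¹) = 1 := by
    calc (y * r * y⁻¹) * (y * r * y⁻¹) = y * (r * r) * y⁻¹ := by group
      _ = 1 := by rw [hr2]; group
  have hrF' : y * r * y⁻¹ ∉ Subgroup.closure (Lset Q t p) := by
    rw [Lset_symm c.toCom]
    intro h
    apply hrF
    have h1 := F_conj (inv_mem hyN) h
    have e1 : y⁻¹ * (y * r * y⁻¹) * y⁻¹⁻¹ = r := by group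
    rwa [e1] at h1
  have h1 := c.K1 B (g := g * g) (mul_mem hgN hgN)
    (fun x hx hxL => c.J0_aux B hgp hgt hr hrt hr2 hrF hx (hxL t ht))
    (fun x hx hxL => by
      have := c.symm.J0_aux B hgt hgp hr' hrp' hr2' hrF' hx (hxL p hp)
      rwa [Lset_symm c.toCom] at this) ha (Ne.symm hpa)
  rw [hgga] at h1
  exact hae h1.symm

/-- (J0) for `W` -/
theorem J0_W {r : G} (hr : r ∈ Q p) (hrt : r * t = t * r) (hr2 : r * r = 1) :
    (B.large p c.hp).pr ⟨r, hr⟩ ∈ QS.W (c.T B) := (c.mem_W_iff B hr).2 (c.J0 B hr hrt hr2)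

omit c in
/-- two involutions with the same `W` -/
theorem eq_of_W {s : G} (c : Good P Q p t) (c' : Good P Q p s) (hW : QS.W (c.T B) = QS.W (c'.T B)) :
    t * s ∈ Q p := by
  have := B.finQ c.hp
  have hT : c.T B = c'.T B := (c.sing B c.tau).eq_of_W (c'.sing B c'.tau) hW
  have hts : t * s * p = p * (t * s) := by rw [mul_assoc, ← c'.com, ← mul_assoc, ← c.com, mul_assoc]
  refine mem_of_ac (B.large p c.hp) (t * s) hts fun v => ?_
  rw [ac_mul _ _ _ c.com.symm c'.com.symm]
  have h1 : ac (B.large p c.hp) s c'.com.symm v = c.T B v := by rw [hT]; rfl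
  rw [h1]
  exact (c.T_inv B).inv v

omit c in
theorem card_W_eq {s : G} (c : Good P Q p t) (c' : Good P Q p s)
    (hW : QS.W (c.T B) ≤ QS.W (c'.T B)) : QS.W (c.T B) = QS.W (c'.T B) := by
  have h1 : Nat.card (QS.W (c.T B)) = 4 := (c.sing B c.tau).card
  have h2 : Nat.card (QS.W (c'.T B)) = 4 := (c'.sing B c'.tau).card
  have hfin : Finite (QS.W (c'.T B)) := Nat.finite_of_card_ne_zero (by rw [h2]; norm_num)
  apply SetLike.coe_injective
  apply Set.eq_of_subset_of_ncard_le (ht := Set.toFinite _) hW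
  have e1 : (QS.W (c.T B) : Set (B.large p c.hp).V).ncard = 4 := h1
  have e2 : (QS.W (c'.T B) : Set (B.large p c.hp).V).ncard = 4 := h2
  exact e2.le.trans e1.ge

omit c in
/-- (T) no triangles -/
theorem no_triangle {s : G} (c : Good P Q p t) (c' : Good P Q p s) (hts : t * s = s * t) :
    s ∈ Lset Q p t := by
  have hs2 := B.sq c'.ht
  have hsp : s * p * s⁻¹ = p := by rw [← c'.com]; group
  have hst : s * t * s⁻¹ = t := by rw [← hts]; group
  have hconj : ∀ x ∈ Lset Q p t, s * x * s⁻¹ ∈ Lset Q p t := by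
    intro x hx
    have := Lset_conj B c.hp c.ht (g := s) hx
    rwa [hsp, hst] at this
  have hsN : s ∈ Subgroup.normalizer (Lset Q p t) := by
    intro x
    refine ⟨hconj x, fun h => ?_⟩
    have h1 := hconj _ h
    have h2 : s * (s * x * s⁻¹) * s⁻¹ = x := by
      calc s * (s * x * s⁻¹) * s⁻¹ = (s * s) * x * (s * s)⁻¹ := by group
        _ = x := by rw [hs2]; group
    rwa [h2] at h1
  -- `s` centralises the line
  have hcent : ∀ x ∈ Lset Q p t, s * x * s⁻¹ = x := by
    obtain ⟨a, b, e, ha, hb, he, hnd, hall, -⟩ := c.five B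
    simp only [List.nodup_cons, List.mem_cons, List.not_mem_nil, or_false, not_or, List.nodup_nil, and_true,
      not_false_eq_true, ← ne_eq] at hnd
    obtain ⟨⟨hpt, hpa, hpb, hpe⟩, ⟨hta, htb, hte⟩, ⟨hab, hae⟩, hbe⟩ := hnd
    have hinj : ∀ x z : G, s * x * s⁻¹ = s * z * s⁻¹ → x = z := fun x z h =>
      mul_left_cancel (mul_right_cancel h)
    have hinv : ∀ x z : G, s * x * s⁻¹ = z → s * z * s⁻¹ = x := by
      rintro x z rfl
      calc s * (s * x * s⁻¹) * s⁻¹ = (s * s) * x * (s * s)⁻¹ := by group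
        _ = x := by rw [hs2]; group
    -- a fixed point among a, b, e
    obtain ⟨f, hf, hfp, hft, hsf⟩ : ∃ f ∈ Lset Q p t, f ≠ p ∧ f ≠ t ∧ s * f * s⁻¹ = f := by
      have h1 : ∀ x ∈ Lset Q p t, x ≠ p → x ≠ t → s * x * s⁻¹ = a ∨ s * x * s⁻¹ = b ∨ s * x * s⁻¹ = e := by
        intro x hx hxp hxt
        rcases hall _ (hconj x hx) with h | h | h | h | h
        · exact absurd (hinj _ _ (h.trans hsp.symm)) hxp
        · exact absurd (hinj _ _ (h.trans hst.symm)) hxt
        · exact Or.inl h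
        · exact Or.inr (Or.inl h)
        · exact Or.inr (Or.inr h)
      rcases h1 a ha hpa.symm hta.symm with h | h | h
      · exact ⟨a, ha, hpa.symm, hta.symm, h⟩
      · -- a ↔ b, so e is fixed
        refine ⟨e, he, hpe.symm, hte.symm, ?_⟩
        rcases h1 e he hpe.symm hte.symm with h' | h' | h'
        · exact absurd (hinj _ _ (h'.trans (hinv _ _ h).symm)) hbe.symm
        · exact absurd (hinj _ _ (h'.trans h.symm)) hae.symm
        · exact h'
      · refine ⟨b, hb, hpb.symm, htb.symm, ?_⟩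
        rcases h1 b hb hpb.symm htb.symm with h' | h' | h'
        · exact absurd (hinj _ _ (h'.trans (hinv _ _ h).symm)) hbe
        · exact h'
        · exact absurd (hinj _ _ (h'.trans h.symm)) hab.symm
    intro x hx
    by_cases hxp : x = p
    · rw [hxp]; exact hsp
    · refine c.K2 B hsN hst hf hfp hft hsf ?_ hx hxp
      intro r hr hrL
      have hrt := hrL t (Or.inr (Or.inl rfl))
      have h1 : s * r * s⁻¹ * r⁻¹ ∈ Q p := c'.u_mem B hr
      refine c.J0 B h1 ?_ (c'.sq_of_tau B c'.tau hr)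
      have h2 : (s * r * s⁻¹) * t = t * (s * r * s⁻¹) := by
        calc (s * r * s⁻¹) * t = (s * r * s⁻¹) * (s * t * s⁻¹) := by rw [hst]
          _ = s * (r * t) * s⁻¹ := by group
          _ = s * (t * r) * s⁻¹ := by rw [hrt]
          _ = (s * t * s⁻¹) * (s * r * s⁻¹) := by group
          _ = _ := by rw [hst]
      have h3 : r⁻¹ * t = t * r⁻¹ := by
        rw [inv_mul_eq_iff_eq_mul, ← mul_assoc, hrt]; group
      rw [mul_assoc _ r⁻¹, h3, ← mul_assoc, h2, mul_assoc]
  -- `W_t ≤ W_s`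
  have hW : QS.W (c.T B) ≤ QS.W (c'.T B) := by
    intro w hw
    obtain ⟨d, h1, h2, rfl⟩ := c.D_eq B hw
    refine c'.J0_W B h1 ?_ (c.D_sq B h1 h2)
    by_cases hd : d = 1
    · rw [hd, one_mul, mul_one]
    have h3 := hcent (p * t * d) (Or.inr (Or.inr ⟨d, h1, h2, hd, rfl⟩))
    have h4 : s * d * s⁻¹ = d := by
      have h5 : (s * p * s⁻¹) * (s * t * s⁻¹) * (s * d * s⁻¹) = p * t * d := by
        rw [← h3]; group
      rw [hsp, hst] at h5
      exact mul_left_cancel h5
    rw [mul_inv_eq_iff_eq_mul] at h4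
    exact h4.symm
  have hr := eq_of_W B c c' (card_W_eq B c c' hW)
  -- s = t (t s)
  have ht2 := B.sq c.ht
  have h1 : t * s ∈ Subgroup.closure (Lset Q p t) := by
    refine c.J0 B hr ?_ ?_
    · rw [mul_assoc, ← hts]
    · calc t * s * (t * s) = t * (s * t) * s := by group
        _ = (t * t) * (s * s) := by rw [← hts]; group
        _ = 1 := by rw [ht2, hs2, mul_one]
  have h2 : s = t * (t * s) := by rw [← mul_assoc, ht2, one_mul]
  refine c.F_P B ?_ c'.ht
  rw [h2]
  exact mul_mem (Subgroup.subset_closure (Or.inr (Or.inl rfl))) h1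

end Good

end Cfsg.Agent.LargeExtra.WC
end

-- part: LargeExtra/WC6
section
/-!
# S1762, case I: all commuting pairs are good (helper888)
-/

set_option autoImplicit false

namespace Cfsg.Agent.LargeExtra.WC

open Cfsg.Agent.Co2Type.Quad

namespace Com

variable {G : Type*} [Group G] {P : Set G} {Q : G → Subgroup G} {p t : G}
variable (B : WCBase P Q) (c : Com P p t)
include B c

/-- the mixed types do not occur -/
theorem tau_symm (hτ : Tau Q p t) : Tau Q t p := by
  intro x hx hxp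
  have hp2 := B.sq c.hp
  have ht2 := B.sq c.ht
  have htm := (B.large t c.ht).comm_z x hx
  have hP : p * t ∈ P := by rw [← hxp]; exact B.conj_mem p c.hp x
  have hcom : Com P p (p * t) := by
    refine ⟨c.hp, hP, ?_, ?_⟩
    · intro h
      exact (B.large t c.ht).z_ne (left_eq_mul.1 h)
    · rw [mul_assoc, ← c.com]
  have hgood : Good P Q p (p * t) := by
    refine ⟨hcom, ?_, ?_⟩
    · intro y hy h
      refine hτ y hy ?_
      have hyp := (B.large p c.hp).comm_z y hy
      have e : y * (p * t) * y⁻¹ = p * (y * t * y⁻¹) := by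
        calc y * (p * t) * y⁻¹ = (y * p) * t * y⁻¹ := by group
          _ = _ := by rw [hyp]; group
      rw [e, mul_assoc p t p] at h
      exact mul_left_cancel h
    · intro y hy h
      have h1 : p * (p * t) = t := by rw [← mul_assoc, hp2, one_mul]
      rw [h1] at h
      rw [← hxp] at hy
      have hy' := B.Q_conj' c.hp hy
      refine hτ _ hy' ?_
      have hxt : x⁻¹ * t * x = t := by rw [mul_assoc, ← htm]; group
      have hxp' : x⁻¹ * p * x = p * t := by
        have h2 : p = (x⁻¹ * p * x) * t := by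
          calc p = x⁻¹ * (x * p * x⁻¹) * x := by group
            _ = x⁻¹ * (p * t) * x := by rw [hxp]
            _ = (x⁻¹ * p * x) * (x⁻¹ * t * x) := by group
            _ = _ := by rw [hxt]
        calc x⁻¹ * p * x = (x⁻¹ * p * x) * (t * t) := by rw [ht2, mul_one]
          _ = ((x⁻¹ * p * x) * t) * t := by group
          _ = p * t := by rw [← h2]
      have h3 : (x⁻¹ * y * x) * (x⁻¹ * p * x) * (x⁻¹ * y * x)⁻¹ = t := by
        calc (x⁻¹ * y * x) * (x⁻¹ * p * x) * (x⁻¹ * y * x)⁻¹ = x⁻¹ * (y * p * y⁻¹) * x := by group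
          _ = t := by rw [h, hxt]
      rw [hxp'] at h3
      have hyp := (B.large p c.hp).comm_z _ hy'
      have e : (x⁻¹ * y * x) * (p * t) * (x⁻¹ * y * x)⁻¹ =
          p * ((x⁻¹ * y * x) * t * (x⁻¹ * y * x)⁻¹) := by
        rw [← mul_assoc, hyp]; group
      rw [e] at h3
      have h4 : (x⁻¹ * y * x) * t * (x⁻¹ * y * x)⁻¹ = p * t := by
        calc (x⁻¹ * y * x) * t * (x⁻¹ * y * x)⁻¹
            = (p * p) * ((x⁻¹ * y * x) * t * (x⁻¹ * y * x)⁻¹) := by rw [hp2, one_mul]
          _ = p * (p * ((x⁻¹ * y * x) * t * (x⁻¹ * y * x)⁻¹)) := by group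
          _ = _ := by rw [h3]
      rw [h4, c.com]
  apply hgood.mul_notMem B
  rw [← mul_assoc, hp2, one_mul]
  exact c.ht

/-- a good pair from `p t ∉ P` -/
theorem good_of_notMem (h : p * t ∉ P) : Good P Q p t := by
  have hτ : Tau Q p t := by
    intro y _ hyt
    apply h
    rw [c.com, ← hyt]
    exact B.conj_mem t c.ht y
  exact ⟨c, hτ, c.tau_symm B hτ⟩

/-- Case A -/
theorem caseA (hx : ∃ x ∈ Q t, x * p * x⁻¹ = p * t) {y : G} (hy : y ∈ Q t)
    (ha2 : (y * p * y⁻¹ * p⁻¹) * (y * p * y⁻¹ * p⁻¹) = 1) (ha1 : y * p * y⁻¹ * p⁻¹ ≠ 1)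
    (hat : y * p * y⁻¹ * p⁻¹ ≠ t) : False := by
  obtain ⟨x, hx, hxp⟩ := hx
  have hp2 := B.sq c.hp
  have ht2 := B.sq c.ht
  have hpi := B.inv c.hp
  have haQ : y * p * y⁻¹ * p⁻¹ ∈ Q t := c.symm.u_mem' B hy
  have hs : y * p * y⁻¹ ∈ P := B.conj_mem p c.hp y
  have hyt := (B.large t c.ht).comm_z y hy
  have hs1 : (y * x) * p * (y * x)⁻¹ ∈ P := B.conj_mem p c.hp _
  have e1 : (y * x) * p * (y * x)⁻¹ = (y * p * y⁻¹) * t := by
    calc (y * x) * p * (y * x)⁻¹ = y * (x * p * x⁻¹) * y⁻¹ := by group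
      _ = y * (p * t) * y⁻¹ := by rw [hxp]
      _ = (y * p * y⁻¹) * (y * t * y⁻¹) := by group
      _ = _ := by rw [hyt]; group
  rw [e1] at hs1
  -- p a = a p
  have hss : (y * p * y⁻¹) * (y * p * y⁻¹) = 1 := by
    calc (y * p * y⁻¹) * (y * p * y⁻¹) = y * (p * p) * y⁻¹ := by group
      _ = 1 := by rw [hp2]; group
  set s := y * p * y⁻¹ with hsd
  rw [hpi] at ha2 ha1 hat haQ
  -- (s p)(s p) = 1
  have hsp : s * p = p * s := by
    have h1 : s * p = (s * p)⁻¹ := eq_inv_of_mul_eq_one_left ha2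
    have h2 : s⁻¹ = s := inv_eq_of_mul_eq_one_left hss
    rw [h1, mul_inv_rev, h2, hpi]
  have hst : s * t = t * s := by
    have h1 := c.com
    calc s * t = (y * p * y⁻¹) * (y * t * y⁻¹) := by
          have : y * t * y⁻¹ = t := by rw [hyt]; group
          rw [this]
      _ = y * (p * t) * y⁻¹ := by group
      _ = y * (t * p) * y⁻¹ := by rw [h1]
      _ = (y * t * y⁻¹) * (y * p * y⁻¹) := by group
      _ = t * s := by
          have : y * t * y⁻¹ = t := by rw [hyt]; group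
          rw [this]
  have c1 : Com P p s := ⟨c.hp, hs, fun h => ha1 (by rw [← h, hp2]), hsp.symm⟩
  have c2 : Com P p (s * t) := by
    refine ⟨c.hp, hs1, ?_, ?_⟩
    · intro h
      apply hat
      -- p = s t → s p = s s t = t
      calc s * p = s * (s * t) := by rw [← h]
        _ = (s * s) * t := by group
        _ = t := by rw [hss, one_mul]
    · rw [← mul_assoc, ← hsp, mul_assoc, c.com, ← mul_assoc]
  have g1 : Good P Q p s := c1.good_of_notMem B (by
    intro h
    rw [← hsp] at h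
    exact hat (B.eq_of_mem t c.ht _ h haQ))
  have g2 : Good P Q p (s * t) := c2.good_of_notMem B (by
    intro h
    have h1 : p * (s * t) = (s * p) * t := by rw [← mul_assoc, hsp]
    rw [h1] at h
    have h2 := B.eq_of_mem t c.ht _ h (mul_mem haQ (B.large t c.ht).z_mem)
    exact ha1 (mul_eq_right.1 h2))
  have hcomm : s * (s * t) = (s * t) * s := by rw [mul_assoc s t s, ← hst]
  have h3 := Good.no_triangle B g1 g2 hcomm
  have hne : s ≠ s * t := fun h => (B.large t c.ht).z_ne (left_eq_mul.1 h)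
  obtain ⟨g3, -⟩ := g1.of_mem B (Or.inr (Or.inl rfl)) h3 hne
  apply g3.mul_notMem B
  rw [← mul_assoc, hss, one_mul]
  exact c.ht

/-- Case B: `[V, t]` has order two -/
theorem caseB (hW : ∀ y ∈ Q p, (y * t * y⁻¹ * t⁻¹) * (y * t * y⁻¹ * t⁻¹) = 1 → y * t * y⁻¹ * t⁻¹ = 1 ∨
      y * t * y⁻¹ * t⁻¹ = p) :
    ∃ w : (B.large p c.hp).V, (B.large p c.hp).q w = 1 ∧ (∃ v, c.T B v + v = w) ∧
      ∀ v, c.T B v + v = 0 ∨ c.T B v + v = w := by
  have han : ∀ v, (B.large p c.hp).q (c.T B v + v) = 0 → c.T B v + v = 0 := by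
    intro v hv
    obtain ⟨y, hy, rfl⟩ := pr_surj _ v
    have hti := B.inv c.ht
    have h1 : c.T B ((B.large p c.hp).pr ⟨y, hy⟩) + (B.large p c.hp).pr ⟨y, hy⟩ =
        (B.large p c.hp).pr ⟨y * t * y⁻¹ * t⁻¹, c.u_mem' B hy⟩ := by
      rw [Com.T, ac_add]
      have h2 : (⟨y * t * y⁻¹ * t⁻¹, c.u_mem' B hy⟩ : Q p) = (⟨t * y * t⁻¹ * y⁻¹, c.u_mem B hy⟩ : Q p)⁻¹ := by
        apply Subtype.ext
        show y * t * y⁻¹ * t⁻¹ = (t * y * t⁻¹ * y⁻¹)⁻¹
        group
      rw [h2, (B.large p c.hp).pr_inv, (B.large p c.hp).neg_eq]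
    rw [h1] at hv ⊢
    rw [(B.large p c.hp).pr_eq_zero]
    exact hW y hy ((B.large p c.hp).q_eq_zero.1 hv)
  obtain ⟨v0, hv0⟩ := c.T_ne B
  have hw0 : c.T B v0 + v0 ≠ 0 := fun h => hv0 (eq_of_add h)
  have hq : ∀ v, c.T B v + v ≠ 0 → (B.large p c.hp).q (c.T B v + v) = 1 := fun v hv =>
    (zm_cases _).resolve_left (fun h => hv (han v h))
  refine ⟨c.T B v0 + v0, hq v0 hw0, ⟨v0, rfl⟩, fun v => ?_⟩
  by_cases hv : c.T B v + v = 0
  · left; exact hv
  · right
    have h1 := hq v hv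
    have h2 := hq v0 hw0
    have h3 : c.T B (v + v0) + (v + v0) = (c.T B v + v) + (c.T B v0 + v0) := by
      rw [map_add]; abel
    have h4 := han (v + v0) (by
      rw [h3, (B.large p c.hp).q_add', h1, h2]
      have := (c.T_inv B).isotropic (QS.f_mem_W (c.T B) v) (QS.f_mem_W (c.T B) v0)
      have h5 : (B.large p c.hp).b (c.T B v + v) (c.T B v0 + v0) = 0 := this
      rw [h5]; decide)
    rw [h3] at h4
    exact eq_of_add h4

/-- the fixed vectors in case B -/
theorem caseB_fix {w : (B.large p c.hp).V} (hq : (B.large p c.hp).q w = 1) (hw : ∃ v, c.T B v + v = w)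
    (hall : ∀ v, c.T B v + v = 0 ∨ c.T B v + v = w) {v : (B.large p c.hp).V}
    (hv : (B.large p c.hp).b w v = 0) : ∃ (r : G) (hr : r ∈ Q p), r * t = t * r ∧
      ((B.large p c.hp).pr ⟨r, hr⟩ = v ∨ (B.large p c.hp).pr ⟨r, hr⟩ = v + w) := by
  have hfix : c.T B v = v := by
    rw [(c.T_inv B).fix_iff, QS.mem_perp]
    rintro _ ⟨v', rfl⟩
    show (B.large p c.hp).b (c.T B v' + v') v = 0
    rcases hall v' with h | h <;> rw [h]
    · rw [map_zero]; rfl
    · exact hv
  obtain ⟨r, hr, rfl⟩ := pr_surj _ v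
  have h1 := hfix
  rw [Com.T, ac_pr, (B.large p c.hp).pr_eq_pr] at h1
  rcases h1 with h1 | h1
  · refine ⟨r, hr, ?_, Or.inl rfl⟩
    have h1' : t * r * t⁻¹ = r := h1
    rw [mul_inv_eq_iff_eq_mul] at h1'
    exact h1'.symm
  · have h1' : t * r * t⁻¹ = r * p := h1
    obtain ⟨v0, hv0⟩ := hw
    obtain ⟨x, hx, rfl⟩ := pr_surj _ v0
    rw [Com.T, ac_add] at hv0
    have hu2 : (t * x * t⁻¹ * x⁻¹) * (t * x * t⁻¹ * x⁻¹) = p := by
      rw [← hv0] at hq
      exact (B.large p c.hp).q_eq_one.1 hq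
    obtain ⟨u, hu, hinv, hu2, huw⟩ : ∃ (u : G) (hu : u ∈ Q p), t * u * t⁻¹ = u⁻¹ ∧ u * u = p ∧
        (B.large p c.hp).pr ⟨u, hu⟩ = w := ⟨_, _, c.inv_aux B (x := x), hu2, hv0⟩
    have hup := (B.large p c.hp).comm_z u hu
    have hui : u⁻¹ = u * p := by
      rw [inv_eq_iff_mul_eq_one, ← mul_assoc, hu2]; exact B.sq c.hp
    refine ⟨r * u, mul_mem hr hu, ?_, Or.inr ?_⟩
    · have h2 : t * (r * u) * t⁻¹ = r * u := by
        calc t * (r * u) * t⁻¹ = (t * r * t⁻¹) * (t * u * t⁻¹) := by group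
          _ = (r * p) * (u * p) := by rw [h1', hinv, hui]
          _ = r * (p * u) * p := by group
          _ = r * u * (p * p) := by rw [← hup]; group
          _ = r * u := by rw [B.sq c.hp, mul_one]
      rw [mul_inv_eq_iff_eq_mul] at h2
      exact h2.symm
    · have h3 : (⟨r * u, mul_mem hr hu⟩ : Q p) = ⟨r, hr⟩ * ⟨u, hu⟩ := rfl
      rw [h3, (B.large p c.hp).pr_mul, huw]

/-- noncommuting elements in case B -/
theorem caseB_noncomm {w : (B.large p c.hp).V} (hq : (B.large p c.hp).q w = 1)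
    (hw : ∃ v, c.T B v + v = w) (hall : ∀ v, c.T B v + v = 0 ∨ c.T B v + v = w) :
    ∃ x ∈ Q p, ∃ y ∈ Q p, t * x = x * t ∧ t * y = y * t ∧ x * y = y * x * p := by
  have := B.finQ c.hp
  by_contra hcon
  push Not at hcon
  set U := Submodule.span (ZMod 2) ({w} : Set (B.large p c.hp).V) with hU
  have hcardU : Nat.card U ≤ 2 := by
    have h1 : Function.Surjective (fun a : ZMod 2 => (⟨a • w, Submodule.smul_mem _ _
        (Submodule.subset_span rfl)⟩ : U)) := by
      rintro ⟨u, hu⟩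
      obtain ⟨a, ha⟩ := Submodule.mem_span_singleton.1 hu
      exact ⟨a, Subtype.ext ha⟩
    have := Nat.card_le_card_of_surjective _ h1
    rwa [Nat.card_zmod] at this
  have h1 := (qs (B.large p c.hp)).card_perp U
  have hww : (B.large p c.hp).b w w = 0 := (B.large p c.hp).b_self w
  have h2 := (qs (B.large p c.hp)).card_isotropic_le (B.cardV c.hp) ((qs (B.large p c.hp)).perp U) (by
    intro u hu v hv
    have hu' : (B.large p c.hp).b w u = 0 := QS.mem_perp _ |>.1 hu w (Submodule.subset_span rfl)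
    have hv' : (B.large p c.hp).b w v = 0 := QS.mem_perp _ |>.1 hv w (Submodule.subset_span rfl)
    obtain ⟨x, hx, hxt, hxu⟩ := c.caseB_fix B hq hw hall hu'
    obtain ⟨y, hy, hyt, hyv⟩ := c.caseB_fix B hq hw hall hv'
    have h3 := hcon x hx y hy hxt.symm hyt.symm
    have h4 : (B.large p c.hp).b ((B.large p c.hp).pr ⟨x, hx⟩) ((B.large p c.hp).pr ⟨y, hy⟩) = 0 :=
      ((B.large p c.hp).b_pr _ _).2 (((B.large p c.hp).comm x hx y hy).resolve_right h3)
    have huw : (B.large p c.hp).b u w = 0 := by rw [(B.large p c.hp).b_comm]; exact hu'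
    show (B.large p c.hp).b u v = 0
    rcases hxu with h5 | h5 <;> rcases hyv with h6 | h6 <;> rw [h5, h6] at h4
    · exact h4
    · rw [map_add, huw, add_zero] at h4; exact h4
    · rw [map_add, LinearMap.add_apply, hv', add_zero] at h4; exact h4
    · rw [map_add, map_add, LinearMap.add_apply, LinearMap.add_apply, huw, hv', hww, add_zero,
        add_zero, add_zero] at h4
      exact h4)
  rw [B.cardV c.hp] at h1
  nlinarith

omit c in
/-- `p t ∉ P` for all commuting `p ≠ t` -/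
theorem tau_of (c : Com P p t) : Tau Q p t := by
  by_contra hτ
  have hτ' : ¬ Tau Q t p := fun h => hτ (c.symm.tau_symm B h)
  unfold Tau at hτ hτ'
  push Not at hτ hτ'
  have := B.finQ c.hp
  -- case A for both
  have hA1 : ∀ y ∈ Q p, (y * t * y⁻¹ * t⁻¹) * (y * t * y⁻¹ * t⁻¹) = 1 → y * t * y⁻¹ * t⁻¹ = 1 ∨
      y * t * y⁻¹ * t⁻¹ = p := by
    intro y hy h
    by_contra hcon
    push Not at hcon
    exact c.symm.caseA B hτ hy h hcon.1 hcon.2
  have hA2 : ∀ y ∈ Q t, (y * p * y⁻¹ * p⁻¹) * (y * p * y⁻¹ * p⁻¹) = 1 → y * p * y⁻¹ * p⁻¹ = 1 ∨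
      y * p * y⁻¹ * p⁻¹ = t := by
    intro y hy h
    by_contra hcon
    push Not at hcon
    exact c.caseA B hτ' hy h hcon.1 hcon.2
  obtain ⟨w', hq', hw', hall'⟩ := c.symm.caseB B hA2
  obtain ⟨x, hx, y, hy, hxp, hyp, hxy⟩ := c.symm.caseB_noncomm B hq' hw' hall'
  obtain ⟨w, hq, hw, hall⟩ := c.caseB B hA1
  -- `D = 1`
  have hD : ∀ d ∈ Q p, d ∈ Q t → d = 1 := by
    intro d h1 h2
    have h3 : (B.large p c.hp).pr ⟨d, h1⟩ ∈ Submodule.span (ZMod 2) ({w} : Set (B.large p c.hp).V) := by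
      rw [← (qs (B.large p c.hp)).perp_perp (Submodule.span (ZMod 2) ({w} : Set (B.large p c.hp).V)),
        QS.mem_perp]
      intro v hv
      have hv' : (B.large p c.hp).b w v = 0 := QS.mem_perp _ |>.1 hv w (Submodule.subset_span rfl)
      obtain ⟨r, hr, hrt, hrv⟩ := c.caseB_fix B hq hw hall hv'
      have h4 : (B.large p c.hp).b ((B.large p c.hp).pr ⟨r, hr⟩) ((B.large p c.hp).pr ⟨d, h1⟩) = 0 :=
        ((B.large p c.hp).b_pr _ _).2 (c.D_central B h1 h2 hr hrt)
      show (B.large p c.hp).b v ((B.large p c.hp).pr ⟨d, h1⟩) = 0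
      rcases hrv with h5 | h5
      · rw [← h5]; exact h4
      · rw [h5, map_add, LinearMap.add_apply] at h4
        -- b w d = 0 since d commutes with t
        have h6 : (B.large p c.hp).b w ((B.large p c.hp).pr ⟨d, h1⟩) = 0 := by
          have h7 : c.T B ((B.large p c.hp).pr ⟨d, h1⟩) = (B.large p c.hp).pr ⟨d, h1⟩ := by
            rw [Com.T, ac_pr, (B.large p c.hp).pr_eq_pr]
            left
            show t * d * t⁻¹ = d
            rw [← c.D_t B h2]; group
          rw [(c.T_inv B).fix_iff, QS.mem_perp] at h7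
          exact h7 w hw
        rw [h6, add_zero] at h4
        exact h4
    rw [Submodule.mem_span_singleton] at h3
    obtain ⟨a, ha⟩ := h3
    rcases zm_cases a with rfl | rfl
    · rw [zero_smul] at ha
      rcases (B.large p c.hp).pr_eq_zero.1 ha.symm with h4 | h4
      · exact h4
      · exfalso
        have h4' : d = p := h4
        rw [h4'] at h2
        exact c.symm.notMem B h2
    · rw [one_smul] at ha
      exfalso
      rw [ha] at hq
      have h4 := (B.large p c.hp).q_eq_one.1 hq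
      have h4' : d * d = p := h4
      rw [c.D_sq B h1 h2] at h4'
      exact (B.large p c.hp).z_ne h4'.symm
  -- elements of `C_{Q t}(p)` act trivially on `w^⊥`
  have hact : ∀ x ∈ Q t, ∀ hx : x * p = p * x, ∀ v, (B.large p c.hp).b w v = 0 →
      ac (B.large p c.hp) x hx v = v := by
    intro x hxt hx v hv
    have hxw : ac (B.large p c.hp) x hx w = w := by
      obtain ⟨v0, hv0⟩ := hw
      have hxt' : x * t = t * x := (B.large t c.ht).comm_z x hxt
      have h1 : ∀ v, ac (B.large p c.hp) x hx (c.T B v) = c.T B (ac (B.large p c.hp) x hx v) := by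
        intro v
        have h2 : x * t * p = p * (x * t) := by rw [mul_assoc, ← c.com, ← mul_assoc, hx, mul_assoc]
        have h3 : t * x * p = p * (t * x) := by rw [← hxt']; exact h2
        rw [Com.T, ← ac_mul _ _ _ _ _ h2, ← ac_mul _ _ _ _ _ h3]
        have : ∀ (a b : G) (ha : a * p = p * a) (hb : b * p = p * b), a = b →
            ac (B.large p c.hp) a ha = ac (B.large p c.hp) b hb := by
          rintro a b ha hb rfl; rfl
        rw [this _ _ h2 h3 hxt']
      have h2 : ac (B.large p c.hp) x hx w = c.T B (ac (B.large p c.hp) x hx v0) +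
          ac (B.large p c.hp) x hx v0 := by rw [← hv0, map_add, h1]
      rcases hall (ac (B.large p c.hp) x hx v0) with h3 | h3
      · rw [h3] at h2
        have h4 := (LinearEquiv.map_eq_zero_iff _).1 h2
        rw [h4, (B.large p c.hp).q_zero] at hq
        exact absurd hq (by decide)
      · rw [h2, h3]
    obtain ⟨r, hr, hrt, hrv⟩ := c.caseB_fix B hq hw hall hv
    have h1 : x * r * x⁻¹ * r⁻¹ = 1 := by
      apply hD
      · exact mul_mem ((B.large p c.hp).conj_mem x hx r hr) (inv_mem hr)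
      · have h3 := (B.large t c.ht).conj_mem r hrt x⁻¹ (inv_mem hxt)
        have h4 := mul_mem hxt h3
        have e : x * (r * x⁻¹ * r⁻¹) = x * r * x⁻¹ * r⁻¹ := by group
        rwa [e] at h4
    have h2 : ac (B.large p c.hp) x hx ((B.large p c.hp).pr ⟨r, hr⟩) = (B.large p c.hp).pr ⟨r, hr⟩ := by
      rw [ac_pr, (B.large p c.hp).pr_eq_pr]
      left
      show x * r * x⁻¹ = r
      exact mul_inv_eq_one.1 h1
    rcases hrv with h5 | h5
    · rw [← h5]; exact h2
    · rw [h5, map_add, hxw] at h2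
      exact add_right_cancel h2
  have hx' : x * p = p * x := hxp.symm
  have hy' : y * p = p * y := hyp.symm
  have hcomm := QS.comm_of_transvection (S := qs (B.large p c.hp)) (ac_iso (B.large p c.hp) x hx')
    (ac_iso (B.large p c.hp) y hy') (hact x hx hx') (hact y hy hy')
  obtain ⟨v, hv⟩ := c.T_ne B
  apply hv
  have hxyp : x * y * p = p * (x * y) := by rw [mul_assoc, hy', ← mul_assoc, hx', mul_assoc]
  have hyxp : y * x * p = p * (y * x) := by rw [mul_assoc, hx', ← mul_assoc, hy', mul_assoc]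
  have hyxtp : y * x * t * p = p * (y * x * t) := by rw [← hxy]; exact hxyp
  have h1 : ac (B.large p c.hp) (x * y) hxyp v = ac (B.large p c.hp) (y * x) hyxp v := by
    rw [ac_mul _ _ _ hx' hy', ac_mul _ _ _ hy' hx', hcomm]
  have h2 : ac (B.large p c.hp) (x * y) hxyp v = ac (B.large p c.hp) (y * x * t) hyxtp v := by
    have : ∀ (a b : G) (ha : a * p = p * a) (hb : b * p = p * b), a = b →
        ac (B.large p c.hp) a ha = ac (B.large p c.hp) b hb := by
      rintro a b ha hb rfl; rfl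
    rw [this _ _ hxyp hyxtp hxy]
  rw [ac_mul _ _ _ hyxp c.com.symm, h1] at h2
  exact ((ac (B.large p c.hp) (y * x) hyxp).injective h2).symm

/-- all commuting pairs are good -/
theorem good : Good P Q p t := ⟨c, c.tau_of B, c.symm.tau_of B⟩

end Com

end Cfsg.Agent.LargeExtra.WC
end
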