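import Cfsg.Agent.LargeExtra.WCLine
import Cfsg.Agent.LargeExtra.WC3
set_option linter.all false

-- part: LargeExtra/WG1
section
/-!
# Large extraspecial 2-subgroups, case I, any width: the points of a line (helper888)

For `l : Line P Q p t` (a pair of type U) the line `Lset Q p t = {p, t} ∪ {p t d | 1 ≠ d ∈ D}` has five points,
`⟨Q p, Q t⟩` acts 2-transitively on it, each pair of its points is a `Line` pair with the same point set.
-/

set_option autoImplicit false

namespace Cfsg.Agent.LargeExtra.WCIrr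

open Cfsg.Agent.Co2Type.Quad Cfsg.Agent.LargeExtra.WC

section

variable {G : Type*} [Group G] {P : Set G} {Q : G → Subgroup G} {p t : G}

theorem Base.Q_conj' (B : Base P Q) {p g x : G} (hp : p ∈ P) (h : x ∈ Q (g * p * g⁻¹)) :
    g⁻¹ * x * g ∈ Q p := by
  have h1 := B.Q_conj _ (B.conj_mem p hp g) g⁻¹ x h
  have e : g⁻¹ * (g * p * g⁻¹) * g⁻¹⁻¹ = p := by group
  rw [e, inv_inv] at h1
  exact h1

theorem Base.Q_conj_eq (B : Base P Q) {p q g x : G} (hp : p ∈ P) (h : g * p * g⁻¹ = q) (hx : x ∈ Q p) :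
    g * x * g⁻¹ ∈ Q q := h ▸ B.Q_conj p hp g x hx

theorem Lset_conj' (B : Base P Q) (hp : p ∈ P) (ht : t ∈ P) {a g : G} (ha : a ∈ Lset Q p t) :
    g * a * g⁻¹ ∈ Lset Q (g * p * g⁻¹) (g * t * g⁻¹) := by
  rcases ha with rfl | rfl | ⟨d, h1, h2, h3, rfl⟩
  · exact Or.inl rfl
  · exact Or.inr (Or.inl rfl)
  · refine Or.inr (Or.inr ⟨g * d * g⁻¹, B.Q_conj p hp g d h1, B.Q_conj t ht g d h2, ?_, by group⟩)
    intro h
    apply h3
    have : d = g⁻¹ * (g * d * g⁻¹) * g := by group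
    rw [this, h]; group

theorem Line.toCom (c : Line P Q p t) : Com P p t := c.good.toCom

theorem Line.hp (c : Line P Q p t) : p ∈ P := c.good.hp

theorem Line.ht (c : Line P Q p t) : t ∈ P := c.good.ht

theorem Line.ne (c : Line P Q p t) : p ≠ t := c.good.ne

theorem Line.com (c : Line P Q p t) : p * t = t * p := c.good.com

theorem Line.sing [Finite G] (B : Base P Q) (c : Line P Q p t) :
    (qs (B.large p c.hp)).Sing (Com.T B c.toCom) where
  toInv := Com.T_inv B c.toCom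
  sing := fun v => c.good.q_W B (QS.f_mem_W _ v)
  card := c.card_W B

/-- `W = D̃` -/
theorem Line.W_mem (B : Base P Q) (c : Line P Q p t) {w : (B.large p c.hp).V}
    (hw : w ∈ QS.W (Com.T B c.toCom)) :
    ∃ (d : G) (h1 : d ∈ Q p) (_ : d ∈ Q t), (B.large p c.hp).pr ⟨d, h1⟩ = w :=
  (Com.mem_U B c.toCom).1 ((c.typeU B).W_le hw)

end

namespace Line

variable {G : Type*} [Group G] {P : Set G} {Q : G → Subgroup G} {p t : G}
variable [Finite G] (B : Base P Q) (c : Line P Q p t)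
include B c

theorem conj_t {x : G} (hx : x ∈ Q p) : x * t * x⁻¹ = t ∨ ∃ d ∈ Q p, d ∈ Q t ∧ d ≠ 1 ∧
    x * t * x⁻¹ = p * t * d := by
  obtain ⟨d, h1, h2, h3⟩ := c.W_mem B (QS.f_mem_W (Com.T B c.toCom) ((B.large p c.hp).pr ⟨x, hx⟩))
  have h4 := ac_add (B.large p c.hp) t c.com.symm x hx
  have h5 := (B.large p c.hp).pr_eq_pr.1 (h3.trans h4)
  have e := Com.conj_eq B c.toCom x
  rcases h5 with h6 | h6
  · left
    have h6' : d = t * x * t⁻¹ * x⁻¹ := h6
    rw [← h6'] at e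
    apply B.eq_of_mem t c.ht _ (B.conj_mem t c.ht x)
    rw [e]
    exact mul_mem (B.large t c.ht).z_mem h2
  · right
    have h6' : d = t * x * t⁻¹ * x⁻¹ * p := h6
    have h7 : t * x * t⁻¹ * x⁻¹ = d * p := by
      rw [h6', mul_assoc _ p p, B.sq c.hp, mul_one]
    rw [h7, Com.D_p B c.toCom h1, ← mul_assoc, ← c.com] at e
    refine ⟨d, h1, h2, ?_, e⟩
    rintro rfl
    refine c.good.tau B x ?_
    rw [e, mul_one, c.com]

theorem exists_conj_t {d : G} (h1 : d ∈ Q p) (h2 : d ∈ Q t) (h3 : d ≠ 1) :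
    ∃ x ∈ Q p, x * t * x⁻¹ = p * t * d := by
  obtain ⟨v, hv⟩ := c.good.D_le B h1 h2
  obtain ⟨x, hx, rfl⟩ := pr_surj _ v
  have h4 := ac_add (B.large p c.hp) t c.com.symm x hx
  have h5 : (B.large p c.hp).pr ⟨_, mul_mem ((B.large p c.hp).conj_mem t c.com.symm x hx) (inv_mem hx)⟩ =
      (B.large p c.hp).pr ⟨d, h1⟩ := h4.symm.trans hv
  have e := Com.conj_eq B c.toCom x
  refine ⟨x, hx, ?_⟩
  rcases (B.large p c.hp).pr_eq_pr.1 h5 with h6 | h6
  · exfalso
    have h6' : t * x * t⁻¹ * x⁻¹ = d := h6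
    rw [h6'] at e
    have h7 := B.eq_of_mem t c.ht _ (B.conj_mem t c.ht x) (by
      rw [e]; exact mul_mem (B.large t c.ht).z_mem h2)
    rw [h7] at e
    exact h3 (mul_eq_left.1 e.symm)
  · have h6' : t * x * t⁻¹ * x⁻¹ = d * p := h6
    rw [e, h6', Com.D_p B c.toCom h1, ← mul_assoc, ← c.com]

/-- two nontrivial elements of `D`, giving all of `D` -/
theorem D_four : ∃ d₁ ∈ Q p, ∃ d₂ ∈ Q p, d₁ ∈ Q t ∧ d₂ ∈ Q t ∧ d₁ ≠ 1 ∧ d₂ ≠ 1 ∧ d₁ ≠ d₂ ∧
    ∀ d ∈ Q p, d ∈ Q t → d = 1 ∨ d = d₁ ∨ d = d₂ ∨ d = d₁ * d₂ := by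
  classical
  have hsing := c.sing B
  obtain ⟨w1, hw1, w2, hw2, h10, h20, h12⟩ : ∃ w1 ∈ QS.W (Com.T B c.toCom), ∃ w2 ∈ QS.W (Com.T B c.toCom), w1 ≠ 0 ∧ w2 ≠ 0 ∧
      w1 ≠ w2 := by
    have hfin : Finite (QS.W (Com.T B c.toCom)) := Nat.finite_of_card_ne_zero (by rw [hsing.card]; norm_num)
    have : Fintype (QS.W (Com.T B c.toCom)) := Fintype.ofFinite _
    have h4 : Fintype.card (QS.W (Com.T B c.toCom)) = 4 := by rw [← Nat.card_eq_fintype_card]; exact hsing.card
    obtain ⟨a, b, cc, hab, hac, hbc⟩ := Fintype.two_lt_card_iff.1 (by rw [h4]; norm_num : 2 < Fintype.card _)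
    by_cases ha : (a : _) = 0
    · refine ⟨b, b.2, cc, cc.2, ?_, ?_, fun h => hbc (Subtype.ext h)⟩
      · intro h; exact hab (ha.trans (Subtype.ext h).symm)
      · intro h; exact hac (ha.trans (Subtype.ext h).symm)
    · by_cases hb : (b : _) = 0
      · refine ⟨a, a.2, cc, cc.2, fun h => ha (Subtype.ext h), ?_, fun h => hac (Subtype.ext h)⟩
        intro h; exact hbc (hb.trans (Subtype.ext h).symm)
      · exact ⟨a, a.2, b, b.2, fun h => ha (Subtype.ext h), fun h => hb (Subtype.ext h),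
          fun h => hab (Subtype.ext h)⟩
  obtain ⟨d1, h1, h1', e1⟩ := c.W_mem B hw1
  obtain ⟨d2, h2, h2', e2⟩ := c.W_mem B hw2
  have hinj : ∀ d e (hd : d ∈ Q p) (he : e ∈ Q p), d ∈ Q t → e ∈ Q t →
      (B.large p c.hp).pr ⟨d, hd⟩ = (B.large p c.hp).pr ⟨e, he⟩ → d = e := by
    intro d e hd he hd' he' h
    rcases (B.large p c.hp).pr_eq_pr.1 h with h3 | h3
    · exact h3
    · exfalso
      apply Com.notMem B c.symm.toCom
      have h3' : d = e * p := h3
      have : p = e⁻¹ * d := by rw [h3']; group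
      rw [this]; exact mul_mem (inv_mem he') hd'
  refine ⟨d1, h1, d2, h2, h1', h2', ?_, ?_, ?_, ?_⟩
  · rintro rfl; exact h10 (e1.symm.trans (B.large p c.hp).pr_one)
  · rintro rfl; exact h20 (e2.symm.trans (B.large p c.hp).pr_one)
  · rintro rfl; exact h12 (e1.symm.trans e2)
  · intro d hd hd'
    rcases QS.four hsing.card hw1 hw2 (c.good.D_le B hd hd') h10 h20 h12 with h | h | h | h
    · left
      exact hinj d 1 hd (one_mem _) hd' (one_mem _) (h.trans (B.large p c.hp).pr_one.symm)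
    · right; left
      exact hinj d d1 hd h1 hd' h1' (h.trans e1.symm)
    · right; right; left
      exact hinj d d2 hd h2 hd' h2' (h.trans e2.symm)
    · right; right; right
      refine hinj d (d1 * d2) hd (mul_mem h1 h2) hd' (mul_mem h1' h2') (h.trans ?_)
      rw [← e1, ← e2]
      exact ((B.large p c.hp).pr_mul ⟨d1, h1⟩ ⟨d2, h2⟩).symm

/-- elements of `Q p` commuting with `t` centralise the line -/
theorem cent_L {r : G} (hr : r ∈ Q p) (hrt : r * t = t * r) {x : G} (hx : x ∈ Lset Q p t) :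
    r * x = x * r := by
  rcases hx with rfl | rfl | ⟨d, h1, h2, h3, rfl⟩
  · exact (B.large _ c.hp).comm_z r hr
  · exact hrt
  · have e1 := (B.large p c.hp).comm_z r hr
    have e2 := Com.D_central B c.toCom h1 h2 hr hrt
    calc r * (p * t * d) = (r * p) * t * d := by group
      _ = p * (r * t) * d := by rw [e1]; group
      _ = p * t * (r * d) := by rw [hrt]; group
      _ = p * t * d * r := by rw [e2]; group

/-- `p t ∉ P` -/
theorem mul_notMem : p * t ∉ P := by
  intro hP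
  obtain ⟨v, hv⟩ := Com.T_ne B c.toCom
  obtain ⟨x, hx, rfl⟩ := pr_surj _ v
  have hne : x * t * x⁻¹ ≠ t := by
    intro h
    apply hv
    rw [Com.T, ac_pr, (B.large p c.hp).pr_eq_pr]
    left
    show t * x * t⁻¹ = x
    rw [mul_inv_eq_iff_eq_mul] at h ⊢
    exact h.symm
  obtain ⟨d, h1, h2, h3, h4⟩ := (c.conj_t B hx).resolve_left hne
  have h5 : x * (p * t) * x⁻¹ = t * d := by
    have e1 := (B.large p c.hp).comm_z x hx
    calc x * (p * t) * x⁻¹ = (x * p) * t * x⁻¹ := by group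
      _ = p * (x * t * x⁻¹) := by rw [e1]; group
      _ = (p * p) * t * d := by rw [h4]; group
      _ = t * d := by rw [B.sq c.hp, one_mul]
  have h6 := B.conj_mem _ hP x
  rw [h5] at h6
  have h7 := B.eq_of_mem t c.ht _ h6 (mul_mem (B.large t c.ht).z_mem h2)
  exact h3 (mul_eq_left.1 h7)

theorem L_sub {a : G} (ha : a ∈ Lset Q p t) : a ∈ P := by
  rcases ha with rfl | rfl | ⟨d, h1, h2, h3, rfl⟩
  · exact c.hp
  · exact c.ht
  · obtain ⟨x, hx, h⟩ := c.exists_conj_t B h1 h2 h3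
    rw [← h]; exact B.conj_mem t c.ht x

theorem L_comm {a b : G} (ha : a ∈ Lset Q p t) (hb : b ∈ Lset Q p t) : a * b = b * a := by
  have key : ∀ x, (x * p = p * x) → (x * t = t * x) → (∀ d ∈ Q p, d ∈ Q t → x * d = d * x) →
      ∀ a ∈ Lset Q p t, x * a = a * x := by
    intro x h1 h2 h3 a ha
    rcases ha with rfl | rfl | ⟨d, h4, h5, h6, rfl⟩
    · exact h1
    · exact h2
    · calc x * (p * t * d) = (x * p) * t * d := by group
        _ = p * (x * t) * d := by rw [h1]; group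
        _ = p * t * (x * d) := by rw [h2]; group
        _ = p * t * d * x := by rw [h3 d h4 h5]; group
  have hp : ∀ a ∈ Lset Q p t, p * a = a * p :=
    key p rfl c.com (fun d h1 _ => (Com.D_p B c.toCom h1).symm)
  have ht : ∀ a ∈ Lset Q p t, t * a = a * t :=
    key t c.com.symm rfl (fun d _ h2 => (Com.D_t B c.toCom h2).symm)
  have hd : ∀ d ∈ Q p, d ∈ Q t → ∀ a ∈ Lset Q p t, d * a = a * d := fun d h1 h2 =>
    key d (Com.D_p B c.toCom h1) (Com.D_t B c.toCom h2) (fun e h3 h4 => Com.D_comm B c.toCom h1 h2 h3 h4)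
  refine key a (hp a ha).symm (ht a ha).symm (fun d h1 h2 => (hd d h1 h2 a ha).symm) b hb

/-- `Q p` normalises the line -/
theorem L_conj {x : G} (hx : x ∈ Q p) {a : G} (ha : a ∈ Lset Q p t) : x * a * x⁻¹ ∈ Lset Q p t := by
  have haP := B.conj_mem _ (c.L_sub B ha) x
  rcases ha with rfl | rfl | ⟨d, h1, h2, h3, rfl⟩
  · left
    rw [(B.large _ c.hp).comm_z x hx]; group
  · rcases c.conj_t B hx with h | h
    · right; left; exact h
    · right; right
      exact h
  · have e1 := (B.large p c.hp).comm_z x hx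
    have hxp : x * p * x⁻¹ = p := by rw [e1]; group
    have hxd : x * d * x⁻¹ = d ∨ x * d * x⁻¹ = d * p := by
      rcases (B.large p c.hp).comm x hx d h1 with h | h
      · left; rw [h]; group
      · right
        have e2 := ((B.large p c.hp).commz hx).inv_left.eq
        rw [h, mul_assoc (d * x), ← e2]; group
    have e3 : x * (p * t * d) * x⁻¹ = (x * p * x⁻¹) * (x * t * x⁻¹) * (x * d * x⁻¹) := by group
    rw [hxp] at e3
    have hdp := Com.D_p B c.toCom h1
    have hpt := c.com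
    have hdt := Com.D_t B c.toCom h2
    rcases c.conj_t B hx with h | ⟨d', h1', h2', h3', h⟩ <;> rcases hxd with h' | h' <;>
      rw [h, h'] at e3
    · rw [e3]; exact Or.inr (Or.inr ⟨d, h1, h2, h3, rfl⟩)
    · right; left
      apply B.eq_of_mem t c.ht _ haP
      have : p * t * (d * p) = t * d := by
        calc p * t * (d * p) = p * (t * d) * p := by group
          _ = t * p * d * p := by rw [← mul_assoc, hpt]
          _ = t * (p * d) * p := by group
          _ = t * d * (p * p) := by rw [← hdp]; group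
          _ = t * d := by rw [B.sq c.hp, mul_one]
      rw [e3, this]
      exact mul_mem (B.large t c.ht).z_mem h2
    · right; left
      apply B.eq_of_mem t c.ht _ haP
      have : p * (p * t * d') * d = t * (d' * d) := by
        calc p * (p * t * d') * d = (p * p) * t * (d' * d) := by group
          _ = t * (d' * d) := by rw [B.sq c.hp, one_mul]
      rw [e3, this]
      exact mul_mem (B.large t c.ht).z_mem (mul_mem h2' h2)
    · have e4 : p * (p * t * d') * (d * p) = p * t * (d' * d) := by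
        have hdd : d' * d * p = p * (d' * d) := by
          rw [mul_assoc, hdp, ← mul_assoc, Com.D_p B c.toCom h1', mul_assoc]
        calc p * (p * t * d') * (d * p) = (p * p) * t * (d' * d * p) := by group
          _ = t * (p * (d' * d)) := by rw [B.sq c.hp, one_mul, hdd]
          _ = (t * p) * (d' * d) := by group
          _ = _ := by rw [← hpt]
      rw [e3, e4]
      rw [e3, e4] at haP
      refine Or.inr (Or.inr ⟨d' * d, mul_mem h1' h1, mul_mem h2' h2, ?_, rfl⟩)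
      intro h5
      rw [h5, mul_one] at haP
      exact c.mul_notMem B haP

theorem Qp_le : Q p ≤ Subgroup.normalizer (Lset Q p t) := by
  intro x hx a
  constructor
  · exact fun ha => c.L_conj B hx ha
  · intro ha
    have := c.L_conj B (inv_mem hx) ha
    have e : x⁻¹ * (x * a * x⁻¹) * x⁻¹⁻¹ = a := by group
    rwa [e] at this

theorem Qt_le : Q t ≤ Subgroup.normalizer (Lset Q p t) := by
  have := c.symm.Qp_le B
  rwa [Lset_symm c.toCom] at this

theorem exists_D : ∃ d ∈ Q p, d ∈ Q t ∧ d ≠ 1 := by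
  obtain ⟨d1, h1, d2, h2, h1', h2', h, -⟩ := c.D_four B
  exact ⟨d1, h1, h1', h⟩

/-- two-transitivity on the line -/
theorem two_trans {a b : G} (ha : a ∈ Lset Q p t) (hb : b ∈ Lset Q p t) (hab : a ≠ b) :
    ∃ g ∈ Subgroup.normalizer (Lset Q p t), g * p * g⁻¹ = a ∧ g * t * g⁻¹ = b := by
  -- `Q p` is transitive on the points other than `p`
  have htr : ∀ b ∈ Lset Q p t, b ≠ p → ∃ x ∈ Q p, x * t * x⁻¹ = b := by
    rintro b (rfl | rfl | ⟨d, h1, h2, h3, rfl⟩) hb
    · exact absurd rfl hb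
    · exact ⟨1, one_mem _, by group⟩
    · exact c.exists_conj_t B h1 h2 h3
  -- `p` can be moved to `a`
  have hpa : ∃ g ∈ Subgroup.normalizer (Lset Q p t), g * p * g⁻¹ = a := by
    obtain ⟨d, h1, h2, h3⟩ := c.exists_D B
    rcases ha with rfl | rfl | ⟨e, e1, e2, e3, rfl⟩
    · exact ⟨1, one_mem _, by group⟩
    · obtain ⟨x, hx, hx'⟩ := c.symm.exists_conj_t B h2 h1 h3
      obtain ⟨y, hy, hy'⟩ := c.exists_conj_t B h1 h2 h3
      refine ⟨y⁻¹ * x, mul_mem (inv_mem (c.Qp_le B hy)) (c.Qt_le B hx), ?_⟩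
      calc y⁻¹ * x * p * (y⁻¹ * x)⁻¹ = y⁻¹ * (x * p * x⁻¹) * y := by group
        _ = y⁻¹ * (y * a * y⁻¹) * y := by rw [hx', hy', c.com]
        _ = a := by group
    · obtain ⟨x, hx, hx'⟩ := c.symm.exists_conj_t B e2 e1 e3
      refine ⟨x, c.Qt_le B hx, ?_⟩
      rw [hx', c.com]
  obtain ⟨g, hg, hga⟩ := hpa
  have hb' : g⁻¹ * b * g ∈ Lset Q p t := by
    have := (inv_mem hg : g⁻¹ ∈ Subgroup.normalizer (Lset Q p t))
    have h1 := (this b).1 hb
    rwa [inv_inv] at h1
  have hbp : g⁻¹ * b * g ≠ p := by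
    intro h
    apply hab
    rw [← hga, ← h]; group
  obtain ⟨x, hx, hxt⟩ := htr _ hb' hbp
  refine ⟨g * x, mul_mem hg (c.Qp_le B hx), ?_, ?_⟩
  · have e1 := (B.large p c.hp).comm_z x hx
    calc g * x * p * (g * x)⁻¹ = g * (x * p * x⁻¹) * g⁻¹ := by group
      _ = g * p * g⁻¹ := by rw [e1]; group
      _ = a := hga
  · calc g * x * t * (g * x)⁻¹ = g * (x * t * x⁻¹) * g⁻¹ := by group
      _ = b := by rw [hxt]; group

/-- all pairs of points of the line are good and have the same line -/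
theorem of_mem {a b : G} (ha : a ∈ Lset Q p t) (hb : b ∈ Lset Q p t) (hab : a ≠ b) :
    Line P Q a b ∧ Lset Q a b = Lset Q p t := by
  obtain ⟨g, hg, hga, hgb⟩ := c.two_trans B ha hb hab
  have hgood := c.conj B g
  rw [hga, hgb] at hgood
  refine ⟨hgood, ?_⟩
  ext x
  constructor
  · intro hx
    have h1 := Lset_conj' B hgood.hp hgood.ht (g := g⁻¹) hx
    have e1 : g⁻¹ * a * g⁻¹⁻¹ = p := by rw [← hga]; group
    have e2 : g⁻¹ * b * g⁻¹⁻¹ = t := by rw [← hgb]; group
    rw [e1, e2] at h1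
    have h2 := (hg _).1 h1
    have e3 : g * (g⁻¹ * x * g⁻¹⁻¹) * g⁻¹ = x := by group
    rwa [e3] at h2
  · intro hx
    have h1 : g⁻¹ * x * g⁻¹⁻¹ ∈ Lset Q p t := ((inv_mem hg : g⁻¹ ∈ Subgroup.normalizer _) x).1 hx
    have h2 := Lset_conj' B c.hp c.ht (g := g) h1
    rw [hga, hgb] at h2
    have e3 : g * (g⁻¹ * x * g⁻¹⁻¹) * g⁻¹ = x := by group
    rwa [e3] at h2

theorem Q_le_of_mem {a : G} (ha : a ∈ Lset Q p t) : Q a ≤ Subgroup.normalizer (Lset Q p t) := by
  by_cases hap : a = p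
  · subst hap; exact c.Qp_le B
  · obtain ⟨h1, h2⟩ := c.of_mem B ha (Or.inl rfl) hap
    have := h1.Qp_le B
    rwa [h2] at this

/-- the five points -/
theorem five : ∃ a b e : G, a ∈ Lset Q p t ∧ b ∈ Lset Q p t ∧ e ∈ Lset Q p t ∧
    [p, t, a, b, e].Nodup ∧ (∀ x ∈ Lset Q p t, x = p ∨ x = t ∨ x = a ∨ x = b ∨ x = e) ∧
    p * t * a * b * e = 1 := by
  obtain ⟨d1, h1, d2, h2, h1', h2', h10, h20, h12, hall⟩ := c.D_four B
  have h3 : d1 * d2 ≠ 1 := by
    intro h
    apply h12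
    have : d1 = d1 * (d2 * d2) := by rw [Com.D_sq B c.toCom h2 h2', mul_one]
    rw [this, ← mul_assoc, h, one_mul]
  have hne : ∀ d ∈ Q p, d ∈ Q t → p * t * d ≠ p ∧ p * t * d ≠ t := by
    intro d hd hd'
    constructor
    · intro h
      apply Com.notMem B c.toCom
      have : t = p⁻¹ * (p * t * d) * d⁻¹ := by group
      rw [this, h]
      exact mul_mem (mul_mem (inv_mem (B.large p c.hp).z_mem) (B.large p c.hp).z_mem) (inv_mem hd)
    · intro h
      apply Com.notMem B c.symm.toCom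
      have e1 : p = p * t * d * d⁻¹ * t⁻¹ := by group
      rw [e1, h]
      exact mul_mem (mul_mem (B.large t c.ht).z_mem (inv_mem hd')) (inv_mem (B.large t c.ht).z_mem)
  refine ⟨p * t * d1, p * t * d2, p * t * (d1 * d2), Or.inr (Or.inr ⟨d1, h1, h1', h10, rfl⟩),
    Or.inr (Or.inr ⟨d2, h2, h2', h20, rfl⟩),
    Or.inr (Or.inr ⟨d1 * d2, mul_mem h1 h2, mul_mem h1' h2', h3, rfl⟩), ?_, ?_, ?_⟩
  · have k1 := hne d1 h1 h1'
    have k2 := hne d2 h2 h2'
    have k3 := hne (d1 * d2) (mul_mem h1 h2) (mul_mem h1' h2')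
    have k4 : p * t * d1 ≠ p * t * d2 := fun h => h12 (mul_left_cancel h)
    have k5 : p * t * d1 ≠ p * t * (d1 * d2) := fun h => h20 (left_eq_mul.1 (mul_left_cancel h))
    have k6 : p * t * d2 ≠ p * t * (d1 * d2) := fun h => h10 (right_eq_mul.1 (mul_left_cancel h))
    simp only [List.nodup_cons, List.mem_cons, List.not_mem_nil, or_false, not_or, List.nodup_nil, and_true,
      not_false_eq_true]
    exact ⟨⟨c.ne, k1.1.symm, k2.1.symm, k3.1.symm⟩, ⟨k1.2.symm, k2.2.symm, k3.2.symm⟩, ⟨k4, k5⟩, k6⟩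
  · rintro x (rfl | rfl | ⟨d, hd, hd', hd0, rfl⟩)
    · left; rfl
    · right; left; rfl
    · rcases hall d hd hd' with rfl | rfl | rfl | rfl
      · exact absurd rfl hd0
      · right; right; left; rfl
      · right; right; right; left; rfl
      · right; right; right; right; rfl
  · have hpt2 : p * t * (p * t) = 1 := by
      calc p * t * (p * t) = p * (t * p) * t := by group
        _ = (p * p) * (t * t) := by rw [← c.com]; group
        _ = 1 := by rw [B.sq c.hp, B.sq c.ht, mul_one]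
    have hd1 : d1 * (p * t) = p * t * d1 := by
      rw [← mul_assoc, Com.D_p B c.toCom h1, mul_assoc, Com.D_t B c.toCom h1', mul_assoc]
    have hd2 : d2 * (p * t) = p * t * d2 := by
      rw [← mul_assoc, Com.D_p B c.toCom h2, mul_assoc, Com.D_t B c.toCom h2', mul_assoc]
    calc p * t * (p * t * d1) * (p * t * d2) * (p * t * (d1 * d2))
        = (p * t * (p * t)) * (d1 * (p * t)) * d2 * (p * t) * (d1 * d2) := by group
      _ = p * t * d1 * (d2 * (p * t)) * (d1 * d2) := by rw [hpt2, one_mul, hd1]; group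
      _ = p * t * (d1 * (p * t)) * d2 * d1 * d2 := by rw [hd2]; group
      _ = (p * t * (p * t)) * d1 * (d2 * d1) * d2 := by rw [hd1]; group
      _ = (d1 * d1) * (d2 * d2) := by rw [hpt2, one_mul, Com.D_comm B c.toCom h2 h2' h1 h1']; group
      _ = 1 := by rw [Com.D_sq B c.toCom h1 h1', Com.D_sq B c.toCom h2 h2', mul_one]

end Line

end Cfsg.Agent.LargeExtra.WCIrr
end

-- part: LargeExtra/WG2
section
/-!
# Large extraspecial 2-subgroups, case I, any width: the group `F = ⟨L⟩` of a line, the components `R_e` (helper888)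
-/

set_option autoImplicit false

namespace Cfsg.Agent.LargeExtra.WCIrr

open Cfsg.Agent.Co2Type.Quad Cfsg.Agent.LargeExtra.WC

section

variable {G : Type*} [Group G]

theorem F_comm {L : Set G} {r : G} (hr : ∀ x ∈ L, r * x = x * r) {f : G} (hf : f ∈ Subgroup.closure L) :
    r * f = f * r := by
  have h1 : Subgroup.closure L ≤ Subgroup.centralizer ({r} : Set G) := by
    rw [Subgroup.closure_le]
    intro x hx
    exact Subgroup.mem_centralizer_singleton_iff.2 (hr x hx).symm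
  exact (Subgroup.mem_centralizer_singleton_iff.1 (h1 hf)).symm

theorem F_conj {L : Set G} {g : G} (hg : g ∈ Subgroup.normalizer L) {f : G}
    (hf : f ∈ Subgroup.closure L) : g * f * g⁻¹ ∈ Subgroup.closure L := by
  have h1 : Subgroup.closure L ≤ (Subgroup.closure L).comap (MulAut.conj g).toMonoidHom := by
    rw [Subgroup.closure_le]
    intro x hx
    exact Subgroup.subset_closure ((hg x).1 hx)
  exact h1 hf


end

namespace Line

variable {G : Type*} [Group G] {P : Set G} {Q : G → Subgroup G} {p t : G}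

variable [Finite G] (B : Base P Q) (c : Line P Q p t)
include B c

theorem exists_noncomm_R (h64 : 64 ≤ Nat.card (B.large p c.hp).V) : ∃ x ∈ Q p, ∃ y ∈ Q p,
    t * x = x * t ∧ t * y = y * t ∧ x * y = y * x * p := by
  obtain ⟨x, hx, y, hy, h1, h2, h3⟩ := c.good.exists_noncomm B h64 (c.typeU B).W_le
  exact ⟨x, hx, y, hy, h1.symm, h2.symm, h3⟩

theorem mem_F {f : G} : f ∈ Subgroup.closure (Lset Q p t) ↔
    ∃ d ∈ Q p, d ∈ Q t ∧ (f = d ∨ f = p * d ∨ f = t * d ∨ f = p * t * d) := by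
  have hpL : p ∈ Lset Q p t := Or.inl rfl
  have htL : t ∈ Lset Q p t := Or.inr (Or.inl rfl)
  have hp1 := B.sq c.hp
  have ht1 := B.sq c.ht
  have hpt2 : p * t * (p * t) = 1 := by
    calc p * t * (p * t) = p * (t * p) * t := by group
      _ = (p * p) * (t * t) := by rw [← c.com]; group
      _ = 1 := by rw [hp1, ht1, mul_one]
  constructor
  · -- the set on the right is a subgroup
    intro hf
    -- generic extension
    have hext : ∀ (D : Subgroup G) (e : G), e * e = 1 → (∀ d ∈ D, e * d = d * e) →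
        ∃ E : Subgroup G, ∀ g, g ∈ E ↔ (g ∈ D ∨ e * g ∈ D) := by
      intro D e he hD
      refine ⟨{ carrier := {g | g ∈ D ∨ e * g ∈ D}
                one_mem' := Or.inl (one_mem D)
                mul_mem' := ?_
                inv_mem' := ?_ }, fun g => Iff.rfl⟩
      · rintro a b (ha | ha) (hb | hb)
        · exact Or.inl (mul_mem ha hb)
        · right
          have : e * (a * b) = a * (e * b) := by rw [← mul_assoc, hD a ha, mul_assoc]
          show e * (a * b) ∈ D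
          rw [this]; exact mul_mem ha hb
        · right
          show e * (a * b) ∈ D
          rw [← mul_assoc]; exact mul_mem ha hb
        · left
          show a * b ∈ D
          have h1 := hD _ ha
          have h2 : a * b = (e * a) * (e * b) := by
            calc a * b = (e * e) * a * b := by rw [he, one_mul]
              _ = (e * (e * a)) * b := by group
              _ = (e * a) * e * b := by rw [h1]
              _ = _ := by group
          rw [h2]; exact mul_mem ha hb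
      · rintro a (ha | ha)
        · exact Or.inl (inv_mem ha)
        · right
          show e * a⁻¹ ∈ D
          have h1 := hD _ ha
          have h2 : e * a = a * e := by
            have h3 : e * (e * a) = a := by rw [← mul_assoc, he, one_mul]
            rw [h3] at h1
            calc e * a = e * (e * a * e) := by rw [← h1]
              _ = (e * e) * a * e := by group
              _ = a * e := by rw [he, one_mul]
          have h3 : e * a⁻¹ = (e * a)⁻¹ := by
            have : e⁻¹ = e := inv_eq_of_mul_eq_one_left he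
            rw [mul_inv_rev, this]
            have h4 : a⁻¹ * e = e * a⁻¹ := by
              rw [inv_mul_eq_iff_eq_mul, ← mul_assoc, ← h2]; group
            exact h4.symm
          rw [h3]; exact inv_mem ha
    obtain ⟨E1, hE1⟩ := hext (Q p ⊓ Q t) p hp1 (fun d hd => (Com.D_p B c.toCom hd.1).symm)
    obtain ⟨E2, hE2⟩ := hext E1 t ht1 (by
      intro d hd
      rcases (hE1 d).1 hd with h | h
      · exact (Com.D_t B c.toCom h.2).symm
      · have h1 := (Com.D_t B c.toCom h.2).symm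
        have e1 : d = p * (p * d) := by rw [← mul_assoc, hp1, one_mul]
        rw [e1, ← mul_assoc, ← c.com, mul_assoc, h1, ← mul_assoc])
    have hle : Subgroup.closure (Lset Q p t) ≤ E2 := by
      rw [Subgroup.closure_le]
      rintro x (rfl | rfl | ⟨d, h1, h2, h3, rfl⟩)
      · exact (hE2 _).2 (Or.inl ((hE1 _).2 (Or.inr (by rw [hp1]; exact one_mem _))))
      · exact (hE2 _).2 (Or.inr ((hE1 _).2 (Or.inl (by rw [ht1]; exact one_mem _))))
      · refine (hE2 _).2 (Or.inr ((hE1 _).2 (Or.inr ?_)))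
        have : p * (t * (p * t * d)) = d := by
          calc p * (t * (p * t * d)) = (p * t * (p * t)) * d := by group
            _ = d := by rw [hpt2, one_mul]
        rw [this]; exact ⟨h1, h2⟩
    rcases (hE2 _).1 (hle hf) with h | h
    · rcases (hE1 _).1 h with h' | h'
      · exact ⟨f, h'.1, h'.2, Or.inl rfl⟩
      · exact ⟨p * f, h'.1, h'.2, Or.inr (Or.inl (by rw [← mul_assoc, hp1, one_mul]))⟩
    · rcases (hE1 _).1 h with h' | h'
      · exact ⟨t * f, h'.1, h'.2, Or.inr (Or.inr (Or.inl (by rw [← mul_assoc, ht1, one_mul])))⟩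
      · refine ⟨p * (t * f), h'.1, h'.2, Or.inr (Or.inr (Or.inr ?_))⟩
        calc f = (p * t * (p * t)) * f := by rw [hpt2, one_mul]
          _ = _ := by group
  · rintro ⟨d, h1, h2, hf⟩
    have hd : d ∈ Subgroup.closure (Lset Q p t) := by
      by_cases hd1 : d = 1
      · rw [hd1]; exact one_mem _
      · have : d = p * t * (p * t * d) := by rw [← mul_assoc, hpt2, one_mul]
        rw [this]
        exact mul_mem (mul_mem (Subgroup.subset_closure hpL) (Subgroup.subset_closure htL))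
          (Subgroup.subset_closure (Or.inr (Or.inr ⟨d, h1, h2, hd1, rfl⟩)))
    have hp' := Subgroup.subset_closure hpL
    have ht' := Subgroup.subset_closure htL
    rcases hf with rfl | rfl | rfl | rfl
    · exact hd
    · exact mul_mem hp' hd
    · exact mul_mem ht' hd
    · exact mul_mem (mul_mem hp' ht') hd

/-- `F ∩ P = L` -/
theorem F_P {f : G} (hf : f ∈ Subgroup.closure (Lset Q p t)) (hP : f ∈ P) : f ∈ Lset Q p t := by
  obtain ⟨d, h1, h2, h⟩ := (c.mem_F B).1 hf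
  rcases h with rfl | rfl | rfl | rfl
  · exact Or.inl (B.eq_of_mem p c.hp _ hP h1)
  · exact Or.inl (B.eq_of_mem p c.hp _ hP (mul_mem (B.large p c.hp).z_mem h1))
  · exact Or.inr (Or.inl (B.eq_of_mem t c.ht _ hP (mul_mem (B.large t c.ht).z_mem h2)))
  · refine Or.inr (Or.inr ⟨d, h1, h2, ?_, rfl⟩)
    rintro rfl
    rw [mul_one] at hP
    exact c.mul_notMem B hP

/-- `F ∩ Q p = ⟨p⟩ D` -/
theorem F_Q {f : G} (hf : f ∈ Subgroup.closure (Lset Q p t)) (hQ : f ∈ Q p) :
    ∃ d ∈ Q p, d ∈ Q t ∧ (f = d ∨ f = p * d) := by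
  obtain ⟨d, h1, h2, h⟩ := (c.mem_F B).1 hf
  have hpm := (B.large p c.hp).z_mem
  rcases h with rfl | rfl | rfl | rfl
  · exact ⟨f, h1, h2, Or.inl rfl⟩
  · exact ⟨d, h1, h2, Or.inr rfl⟩
  · exfalso
    apply Com.notMem B c.toCom
    have : t = t * d * d⁻¹ := by group
    rw [this]; exact mul_mem hQ (inv_mem h1)
  · exfalso
    apply Com.notMem B c.toCom
    have : t = p⁻¹ * (p * t * d) * d⁻¹ := by group
    rw [this]; exact mul_mem (mul_mem (inv_mem hpm) hQ) (inv_mem h1)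

/-- (K3) `R_p ∩ R_t F ≤ F` -/
theorem K3 {r s f : G} (hr : r ∈ Q p) (hs : s ∈ Q t) (hf : f ∈ Subgroup.closure (Lset Q p t))
    (h : r = s * f) : r ∈ Subgroup.closure (Lset Q p t) := by
  obtain ⟨d, h1, h2, h'⟩ := (c.mem_F B).1 hf
  have hpm := (B.large p c.hp).z_mem
  have htm := (B.large t c.ht).z_mem
  have hs' : s ∈ Subgroup.closure (Lset Q p t) → r ∈ Subgroup.closure (Lset Q p t) := fun hs1 => by
    rw [h]; exact mul_mem hs1 hf
  rcases h' with rfl | rfl | rfl | rfl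
  · -- s = r d⁻¹
    apply hs'
    have hsp : s ∈ Q p := by
      have : s = r * f⁻¹ := by rw [h]; group
      rw [this]; exact mul_mem hr (inv_mem h1)
    exact (c.mem_F B).2 ⟨s, hsp, hs, Or.inl rfl⟩
  · apply hs'
    have hsp : s ∈ Q p := by
      have : s = r * (p * d)⁻¹ := by rw [h]; group
      rw [this]; exact mul_mem hr (inv_mem (mul_mem hpm h1))
    exact (c.mem_F B).2 ⟨s, hsp, hs, Or.inl rfl⟩
  · have hrt : r ∈ Q t := by rw [h]; exact mul_mem hs (mul_mem htm h2)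
    exact (c.mem_F B).2 ⟨r, hr, hrt, Or.inl rfl⟩
  · -- r = s p t d = (s t d) p
    have e : p * t * d = t * d * p := by rw [mul_assoc t, Com.D_p B c.toCom h1, ← mul_assoc, c.com]
    have hrp : r * p ∈ Q t := by
      rw [h, e, ← mul_assoc, mul_assoc _ p p, B.sq c.hp, mul_one]
      exact mul_mem hs (mul_mem htm h2)
    have h3 : r = p * (r * p) := by
      rw [← mul_assoc, ← (B.large p c.hp).comm_z r hr, mul_assoc, B.sq c.hp, mul_one]
    exact (c.mem_F B).2 ⟨r * p, mul_mem hr hpm, hrp, Or.inr (Or.inl h3)⟩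

/-- (E) the group `R_e` of a third point `e` lies in `R_p R_t` -/
theorem third {e r : G} (he : e ∈ Lset Q p t) (hep : e ≠ p) (hr : r ∈ Q e)
    (hrL : ∀ x ∈ Lset Q p t, r * x = x * r) :
    ∃ a ∈ Q p, ∃ b ∈ Q t, (∀ x ∈ Lset Q p t, a * x = x * a) ∧ (∀ x ∈ Lset Q p t, b * x = x * b) ∧
      r = a * b := by
  -- `e = y t y⁻¹`
  obtain ⟨y, hy, hye⟩ : ∃ y ∈ Q p, y * t * y⁻¹ = e := by
    rcases he with rfl | rfl | ⟨d, h1, h2, h3, rfl⟩
    · exact absurd rfl hep
    · exact ⟨1, one_mem _, by group⟩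
    · exact c.exists_conj_t B h1 h2 h3
  have hyN := c.Qp_le B hy
  have hx : y⁻¹ * r * y ∈ Q t := by
    rw [← hye] at hr
    exact B.Q_conj' c.ht hr
  have hxL : ∀ x ∈ Lset Q p t, (y⁻¹ * r * y) * x = x * (y⁻¹ * r * y) := by
    intro x hx
    have h1 := hrL _ ((hyN x).1 hx)
    calc (y⁻¹ * r * y) * x = y⁻¹ * (r * (y * x * y⁻¹)) * y := by group
      _ = y⁻¹ * ((y * x * y⁻¹) * r) * y := by rw [h1]
      _ = _ := by group
  set x := y⁻¹ * r * y with hxd
  have hxp : x * p = p * x := hxL p (Or.inl rfl)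
  refine ⟨r * x⁻¹, ?_, x, hx, ?_, hxL, by group⟩
  · have h1 := (B.large p c.hp).conj_mem x hxp _ (inv_mem hy)
    have h2 := mul_mem hy h1
    have e1 : y * (x * y⁻¹ * x⁻¹) = r * x⁻¹ := by rw [hxd]; group
    rwa [e1] at h2
  · intro z hz
    have h1 := hrL z hz
    have h2 : x⁻¹ * z = z * x⁻¹ := by
      rw [inv_mul_eq_iff_eq_mul, ← mul_assoc, hxL z hz]; group
    rw [mul_assoc, h2, ← mul_assoc, h1, mul_assoc]

/-- (K1) -/
theorem K1 (h64 : ∀ p (hp : p ∈ P), 64 ≤ Nat.card (B.large p hp).V) {g : G} (hg : g ∈ Subgroup.normalizer (Lset Q p t))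
    (hp : ∀ r ∈ Q p, (∀ x ∈ Lset Q p t, r * x = x * r) → g * r * g⁻¹ * r⁻¹ ∈
      Subgroup.closure (Lset Q p t))
    (ht : ∀ r ∈ Q t, (∀ x ∈ Lset Q p t, r * x = x * r) → g * r * g⁻¹ * r⁻¹ ∈
      Subgroup.closure (Lset Q p t)) {e : G} (he : e ∈ Lset Q p t) (hep : e ≠ p) :
    g * e * g⁻¹ = e := by
  by_contra hne
  have hgc : e ≠ g * e * g⁻¹ := fun h => hne h.symm
  obtain ⟨hge, hLe⟩ := c.of_mem B he ((hg e).1 he) hgc
  -- all elements of `R_e` lie in `F`
  have key : ∀ r ∈ Q e, (∀ x ∈ Lset Q p t, r * x = x * r) → r ∈ Subgroup.closure (Lset Q p t) := by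
    intro r hr hrL
    obtain ⟨a, ha, b, hb, haL, hbL, hrab⟩ := c.third B he hep hr hrL
    have h1 := hp a ha haL
    have h2 := ht b hb hbL
    -- g r g⁻¹ = f r
    have h3 : g * r * g⁻¹ = (g * a * g⁻¹ * a⁻¹) * (g * b * g⁻¹ * b⁻¹) * r := by
      have h4 := F_comm haL h2
      calc g * r * g⁻¹ = (g * a * g⁻¹ * a⁻¹) * (a * (g * b * g⁻¹ * b⁻¹)) * b := by rw [hrab]; group
        _ = (g * a * g⁻¹ * a⁻¹) * ((g * b * g⁻¹ * b⁻¹) * a) * b := by rw [h4]
        _ = _ := by rw [hrab]; group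
    have hf := mul_mem h1 h2
    revert h3 hf
    generalize (g * a * g⁻¹ * a⁻¹) * (g * b * g⁻¹ * b⁻¹) = f
    intro h3 hf
    have h5 : g * r * g⁻¹ ∈ Q (g * e * g⁻¹) := B.Q_conj e (c.L_sub B he) g r hr
    have h6 : r = (g * r * g⁻¹) * f⁻¹ := by
      have h7 := F_comm hrL hf
      rw [h3, ← h7]; group
    have h8 := hge.K3 B hr h5 (by rw [hLe]; exact inv_mem hf) h6
    rwa [hLe] at h8
  obtain ⟨x, hx, y, hy, hxt, hyt, hxy⟩ := hge.exists_noncomm_R B (h64 e hge.hp)
  have hxL : ∀ z ∈ Lset Q p t, x * z = z * x := by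
    intro z hz
    rw [← hLe] at hz
    exact hge.cent_L B hx hxt.symm hz
  have hyL : ∀ z ∈ Lset Q p t, y * z = z * y := by
    intro z hz
    rw [← hLe] at hz
    exact hge.cent_L B hy hyt.symm hz
  have h1 := F_comm hxL (key y hy hyL)
  rw [h1] at hxy
  exact (B.large e hge.hp).z_ne (mul_eq_left.1 hxy.symm)

/-- (K2) -/
theorem K2 (h64 : ∀ p (hp : p ∈ P), 64 ≤ Nat.card (B.large p hp).V) {g e : G} (hg : g ∈ Subgroup.normalizer (Lset Q p t)) (hgt : g * t * g⁻¹ = t)
    (he : e ∈ Lset Q p t) (hep : e ≠ p) (het : e ≠ t) (hge : g * e * g⁻¹ = e)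
    (hr : ∀ r ∈ Q p, (∀ x ∈ Lset Q p t, r * x = x * r) → g * r * g⁻¹ * r⁻¹ ∈
      Subgroup.closure (Lset Q p t)) {a : G} (ha : a ∈ Lset Q p t) (hap : a ≠ p) :
    g * a * g⁻¹ = a := by
  refine c.K1 B h64 hg hr ?_ ha hap
  intro x hx hxL
  -- `x = r y`, `r ∈ R_p`, `y ∈ R_e`
  obtain ⟨hpe, hLpe⟩ := c.of_mem B (Or.inl rfl) he hep.symm
  obtain ⟨r, hr1, y, hy, hrL, hyL, hxry⟩ := hpe.third B (e := t) (r := x) (by rw [hLpe]; exact Or.inr (Or.inl rfl))
    c.ne.symm hx (by rw [hLpe]; exact hxL)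
  rw [hLpe] at hrL hyL
  have h1 := hr r hr1 hrL
  -- `X = g x g⁻¹ x⁻¹`
  have hX : g * x * g⁻¹ * x⁻¹ ∈ Q t :=
    mul_mem (B.Q_conj_eq c.ht hgt hx) (inv_mem hx)
  have hY : g * y * g⁻¹ * y⁻¹ ∈ Q e := mul_mem (B.Q_conj_eq hpe.ht hge hy) (inv_mem hy)
  have hre : r * e = e * r := hrL e he
  have hY' : r * (g * y * g⁻¹ * y⁻¹) * r⁻¹ ∈ Q e := (B.large e hpe.ht).conj_mem r hre _ hY
  have hXe : g * x * g⁻¹ * x⁻¹ = (g * r * g⁻¹ * r⁻¹) * (r * (g * y * g⁻¹ * y⁻¹) * r⁻¹) := by
    rw [hxry]; group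
  have hXL : ∀ z ∈ Lset Q p t, (g * x * g⁻¹ * x⁻¹) * z = z * (g * x * g⁻¹ * x⁻¹) := by
    have hgL : ∀ z ∈ Lset Q p t, (g * x * g⁻¹) * z = z * (g * x * g⁻¹) := by
      intro z hz
      have h2 : g⁻¹ * z * g⁻¹⁻¹ ∈ Lset Q p t := ((inv_mem hg : g⁻¹ ∈ Subgroup.normalizer _) z).1 hz
      have h3 := hxL _ h2
      calc (g * x * g⁻¹) * z = g * (x * (g⁻¹ * z * g⁻¹⁻¹)) * g⁻¹ := by group
        _ = g * ((g⁻¹ * z * g⁻¹⁻¹) * x) * g⁻¹ := by rw [h3]
        _ = _ := by group
    intro z hz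
    have h2 : x⁻¹ * z = z * x⁻¹ := by
      rw [inv_mul_eq_iff_eq_mul, ← mul_assoc, hxL z hz]; group
    rw [mul_assoc _ x⁻¹, h2, ← mul_assoc, hgL z hz, mul_assoc z]
  obtain ⟨hte, hLte⟩ := c.of_mem B (Or.inr (Or.inl rfl)) he het.symm
  have h4 : g * x * g⁻¹ * x⁻¹ = (r * (g * y * g⁻¹ * y⁻¹) * r⁻¹) * (g * r * g⁻¹ * r⁻¹) := by
    have h5 := F_comm hXL h1
    -- X f = f X, X = f Y
    have h6 : (g * x * g⁻¹ * x⁻¹) * (g * r * g⁻¹ * r⁻¹) =
        (g * r * g⁻¹ * r⁻¹) * (g * x * g⁻¹ * x⁻¹) := h5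
    have h7 : r * (g * y * g⁻¹ * y⁻¹) * r⁻¹ = (g * r * g⁻¹ * r⁻¹)⁻¹ * (g * x * g⁻¹ * x⁻¹) := by
      rw [hXe]; group
    rw [h7, mul_assoc (g * r * g⁻¹ * r⁻¹)⁻¹, h6, inv_mul_cancel_left]
  have h8 := hte.K3 B hX hY' (by rw [hLte]; exact h1) h4
  rwa [hLte] at h8




/-- `W` in terms of elements -/
theorem mem_W_iff {x : G} (hx : x ∈ Q p) : (B.large p c.hp).pr ⟨x, hx⟩ ∈ QS.W (Com.T B c.toCom) ↔
    x ∈ Subgroup.closure (Lset Q p t) := by
  rw [c.mem_F B]
  constructor
  · intro h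
    obtain ⟨d, h1, h2, h3⟩ := c.W_mem B h
    rcases (B.large p c.hp).pr_eq_pr.1 h3 with h4 | h4
    · exact ⟨d, h1, h2, Or.inl h4.symm⟩
    · have h4' : d = x * p := h4
      refine ⟨d, h1, h2, Or.inr (Or.inl ?_)⟩
      rw [h4', (B.large p c.hp).comm_z x hx, ← mul_assoc, B.sq c.hp, one_mul]
  · intro h
    obtain ⟨d, h1, h2, h3⟩ := c.F_Q B ((c.mem_F B).2 h) hx
    have h4 := c.good.D_le B h1 h2
    have h5 : (B.large p c.hp).pr ⟨x, hx⟩ = (B.large p c.hp).pr ⟨d, h1⟩ := by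
      rw [(B.large p c.hp).pr_eq_pr]
      rcases h3 with h3 | h3
      · left; exact h3
      · right
        show x = d * p
        rw [h3, Com.D_p B c.toCom h1]
    rw [h5]; exact h4

/-- the exchange elements: for three points `a, b, e` of the line, some `y ∈ Q a` swaps `b` and `e` and moves the
other two points -/
theorem exists_swap {a b e : G} (ha : a ∈ Lset Q p t) (hb : b ∈ Lset Q p t) (he : e ∈ Lset Q p t)
    (hab : a ≠ b) (hae : a ≠ e) (hbe : b ≠ e) : ∃ y ∈ Q a, y * a * y⁻¹ = a ∧ y * b * y⁻¹ = e ∧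
      y * e * y⁻¹ = b ∧ ∀ x ∈ Lset Q p t, x ≠ a → y * x * y⁻¹ ≠ x := by
  obtain ⟨hgood, hL⟩ := c.of_mem B ha hb hab
  have he' : e ∈ Lset Q a b := by rw [hL]; exact he
  obtain ⟨d, h1, h2, h3, h4⟩ : ∃ d ∈ Q a, d ∈ Q b ∧ d ≠ 1 ∧ e = a * b * d := by
    rcases he' with h | h | h
    · exact absurd h.symm hae
    · exact absurd h.symm hbe
    · exact h
  obtain ⟨y, hy, hye⟩ := hgood.exists_conj_t B h1 h2 h3
  rw [← h4] at hye
  have hya : y * a * y⁻¹ = a := by rw [(B.large a hgood.hp).comm_z y hy]; group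
  refine ⟨y, hy, hya, hye, ?_, ?_⟩
  · have hy2 : (y * y) * b * (y * y)⁻¹ = b := by
      have h5 : y * y = 1 ∨ y * y = a := (B.large a hgood.hp).sq y hy
      rcases h5 with h5 | h5 <;> rw [h5]
      · group
      · rw [hgood.com]; group
    calc y * e * y⁻¹ = (y * y) * b * (y * y)⁻¹ := by rw [← hye]; group
      _ = b := hy2
  · intro x hx hxa h
    obtain ⟨hg', hL'⟩ := c.of_mem B ha hx (Ne.symm hxa)
    have h5 : y * x = x * y := by rw [mul_inv_eq_iff_eq_mul] at h; exact h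
    have h6 := hg'.cent_L B hy h5 (x := b) (by rw [hL']; exact hb)
    apply hbe
    rw [← hye, h6]; group

omit c in
/-- two involutions with the same `W` -/
theorem eq_of_W {s : G} (c : Line P Q p t) (c' : Line P Q p s)
    (hW : QS.W (Com.T B c.toCom) = QS.W (Com.T B c'.toCom)) : t * s ∈ Q p := by
  have hT : Com.T B c.toCom = Com.T B c'.toCom := (c.sing B).eq_of_W (c'.sing B) hW
  have hts : t * s * p = p * (t * s) := by rw [mul_assoc, ← c'.com, ← mul_assoc, ← c.com, mul_assoc]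
  refine mem_of_ac (B.large p c.hp) (t * s) hts fun v => ?_
  rw [ac_mul _ _ _ c.com.symm c'.com.symm]
  have h1 : ac (B.large p c.hp) s c'.com.symm v = Com.T B c.toCom v := by rw [hT]; rfl
  rw [h1]
  exact (Com.T_inv B c.toCom).inv v

omit c in
theorem card_W_eq {s : G} (c : Line P Q p t) (c' : Line P Q p s)
    (hW : QS.W (Com.T B c.toCom) ≤ QS.W (Com.T B c'.toCom)) :
    QS.W (Com.T B c.toCom) = QS.W (Com.T B c'.toCom) := by
  have h1 : Nat.card (QS.W (Com.T B c.toCom)) = 4 := (c.sing B).card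
  have h2 : Nat.card (QS.W (Com.T B c'.toCom)) = 4 := (c'.sing B).card
  have hfin : Finite (QS.W (Com.T B c'.toCom)) := Nat.finite_of_card_ne_zero (by rw [h2]; norm_num)
  apply SetLike.coe_injective
  apply Set.eq_of_subset_of_ncard_le (ht := Set.toFinite _) hW
  have e1 : (QS.W (Com.T B c.toCom) : Set (B.large p c.hp).V).ncard = 4 := h1
  have e2 : (QS.W (Com.T B c'.toCom) : Set (B.large p c.hp).V).ncard = 4 := h2
  exact e2.le.trans e1.ge


end Line

end Cfsg.Agent.LargeExtra.WCIrr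
end
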